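import Cfsg.Agent.Lib.ToddCox.TIT.Data0
set_option autoImplicit false
set_option maxRecDepth 100000
namespace Cfsg.Agent.Lib.ToddCox.TIT
def eT_1_3 (j : ℕ) : ℕ := bif Nat.blt j 2 then E_1 else E_2
def eT_0_3 (j : ℕ) : ℕ := bif Nat.blt j 1 then E_0 else (eT_1_3 j)
def eT_3_5 (j : ℕ) : ℕ := bif Nat.blt j 4 then E_3 else E_4
def eT_5_7 (j : ℕ) : ℕ := bif Nat.blt j 6 then E_5 else E_6
def eT_3_7 (j : ℕ) : ℕ := bif Nat.blt j 5 then (eT_3_5 j) else (eT_5_7 j)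
def eT_0_7 (j : ℕ) : ℕ := bif Nat.blt j 3 then (eT_0_3 j) else (eT_3_7 j)
def eT_7_9 (j : ℕ) : ℕ := bif Nat.blt j 8 then E_7 else E_8
def eT_9_11 (j : ℕ) : ℕ := bif Nat.blt j 10 then E_9 else E_10
def eT_7_11 (j : ℕ) : ℕ := bif Nat.blt j 9 then (eT_7_9 j) else (eT_9_11 j)
def eT_11_13 (j : ℕ) : ℕ := bif Nat.blt j 12 then E_11 else E_12
def eT_13_15 (j : ℕ) : ℕ := bif Nat.blt j 14 then E_13 else E_14
def eT_11_15 (j : ℕ) : ℕ := bif Nat.blt j 13 then (eT_11_13 j) else (eT_13_15 j)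
def eT_7_15 (j : ℕ) : ℕ := bif Nat.blt j 11 then (eT_7_11 j) else (eT_11_15 j)
def eT_0_15 (j : ℕ) : ℕ := bif Nat.blt j 7 then (eT_0_7 j) else (eT_7_15 j)
def eT_16_18 (j : ℕ) : ℕ := bif Nat.blt j 17 then E_16 else E_17
def eT_15_18 (j : ℕ) : ℕ := bif Nat.blt j 16 then E_15 else (eT_16_18 j)
def eT_18_20 (j : ℕ) : ℕ := bif Nat.blt j 19 then E_18 else E_19
def eT_20_22 (j : ℕ) : ℕ := bif Nat.blt j 21 then E_20 else E_21
def eT_18_22 (j : ℕ) : ℕ := bif Nat.blt j 20 then (eT_18_20 j) else (eT_20_22 j)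
def eT_15_22 (j : ℕ) : ℕ := bif Nat.blt j 18 then (eT_15_18 j) else (eT_18_22 j)
def eT_22_24 (j : ℕ) : ℕ := bif Nat.blt j 23 then E_22 else E_23
def eT_24_26 (j : ℕ) : ℕ := bif Nat.blt j 25 then E_24 else E_25
def eT_22_26 (j : ℕ) : ℕ := bif Nat.blt j 24 then (eT_22_24 j) else (eT_24_26 j)
def eT_26_28 (j : ℕ) : ℕ := bif Nat.blt j 27 then E_26 else E_27
def eT_28_30 (j : ℕ) : ℕ := bif Nat.blt j 29 then E_28 else E_29
def eT_26_30 (j : ℕ) : ℕ := bif Nat.blt j 28 then (eT_26_28 j) else (eT_28_30 j)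
def eT_22_30 (j : ℕ) : ℕ := bif Nat.blt j 26 then (eT_22_26 j) else (eT_26_30 j)
def eT_15_30 (j : ℕ) : ℕ := bif Nat.blt j 22 then (eT_15_22 j) else (eT_22_30 j)
def eT_0_30 (j : ℕ) : ℕ := bif Nat.blt j 15 then (eT_0_15 j) else (eT_15_30 j)
def eT_31_33 (j : ℕ) : ℕ := bif Nat.blt j 32 then E_31 else E_32
def eT_30_33 (j : ℕ) : ℕ := bif Nat.blt j 31 then E_30 else (eT_31_33 j)
def eT_33_35 (j : ℕ) : ℕ := bif Nat.blt j 34 then E_33 else E_34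
def eT_35_37 (j : ℕ) : ℕ := bif Nat.blt j 36 then E_35 else E_36
def eT_33_37 (j : ℕ) : ℕ := bif Nat.blt j 35 then (eT_33_35 j) else (eT_35_37 j)
def eT_30_37 (j : ℕ) : ℕ := bif Nat.blt j 33 then (eT_30_33 j) else (eT_33_37 j)
def eT_37_39 (j : ℕ) : ℕ := bif Nat.blt j 38 then E_37 else E_38
def eT_39_41 (j : ℕ) : ℕ := bif Nat.blt j 40 then E_39 else E_40
def eT_37_41 (j : ℕ) : ℕ := bif Nat.blt j 39 then (eT_37_39 j) else (eT_39_41 j)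
def eT_41_43 (j : ℕ) : ℕ := bif Nat.blt j 42 then E_41 else E_42
def eT_43_45 (j : ℕ) : ℕ := bif Nat.blt j 44 then E_43 else E_44
def eT_41_45 (j : ℕ) : ℕ := bif Nat.blt j 43 then (eT_41_43 j) else (eT_43_45 j)
def eT_37_45 (j : ℕ) : ℕ := bif Nat.blt j 41 then (eT_37_41 j) else (eT_41_45 j)
def eT_30_45 (j : ℕ) : ℕ := bif Nat.blt j 37 then (eT_30_37 j) else (eT_37_45 j)
def eT_46_48 (j : ℕ) : ℕ := bif Nat.blt j 47 then E_46 else E_47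
def eT_45_48 (j : ℕ) : ℕ := bif Nat.blt j 46 then E_45 else (eT_46_48 j)
def eT_48_50 (j : ℕ) : ℕ := bif Nat.blt j 49 then E_48 else E_49
def eT_50_52 (j : ℕ) : ℕ := bif Nat.blt j 51 then E_50 else E_51
def eT_48_52 (j : ℕ) : ℕ := bif Nat.blt j 50 then (eT_48_50 j) else (eT_50_52 j)
def eT_45_52 (j : ℕ) : ℕ := bif Nat.blt j 48 then (eT_45_48 j) else (eT_48_52 j)
def eT_52_54 (j : ℕ) : ℕ := bif Nat.blt j 53 then E_52 else E_53
def eT_54_56 (j : ℕ) : ℕ := bif Nat.blt j 55 then E_54 else E_55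
def eT_52_56 (j : ℕ) : ℕ := bif Nat.blt j 54 then (eT_52_54 j) else (eT_54_56 j)
def eT_56_58 (j : ℕ) : ℕ := bif Nat.blt j 57 then E_56 else E_57
def eT_58_60 (j : ℕ) : ℕ := bif Nat.blt j 59 then E_58 else E_59
def eT_56_60 (j : ℕ) : ℕ := bif Nat.blt j 58 then (eT_56_58 j) else (eT_58_60 j)
def eT_52_60 (j : ℕ) : ℕ := bif Nat.blt j 56 then (eT_52_56 j) else (eT_56_60 j)
def eT_45_60 (j : ℕ) : ℕ := bif Nat.blt j 52 then (eT_45_52 j) else (eT_52_60 j)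
def eT_30_60 (j : ℕ) : ℕ := bif Nat.blt j 45 then (eT_30_45 j) else (eT_45_60 j)
def eT_0_60 (j : ℕ) : ℕ := bif Nat.blt j 30 then (eT_0_30 j) else (eT_30_60 j)
def eT_61_63 (j : ℕ) : ℕ := bif Nat.blt j 62 then E_61 else E_62
def eT_60_63 (j : ℕ) : ℕ := bif Nat.blt j 61 then E_60 else (eT_61_63 j)
def eT_63_65 (j : ℕ) : ℕ := bif Nat.blt j 64 then E_63 else E_64
def eT_65_67 (j : ℕ) : ℕ := bif Nat.blt j 66 then E_65 else E_66
def eT_63_67 (j : ℕ) : ℕ := bif Nat.blt j 65 then (eT_63_65 j) else (eT_65_67 j)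
def eT_60_67 (j : ℕ) : ℕ := bif Nat.blt j 63 then (eT_60_63 j) else (eT_63_67 j)
def eT_67_69 (j : ℕ) : ℕ := bif Nat.blt j 68 then E_67 else E_68
def eT_69_71 (j : ℕ) : ℕ := bif Nat.blt j 70 then E_69 else E_70
def eT_67_71 (j : ℕ) : ℕ := bif Nat.blt j 69 then (eT_67_69 j) else (eT_69_71 j)
def eT_71_73 (j : ℕ) : ℕ := bif Nat.blt j 72 then E_71 else E_72
def eT_73_75 (j : ℕ) : ℕ := bif Nat.blt j 74 then E_73 else E_74
def eT_71_75 (j : ℕ) : ℕ := bif Nat.blt j 73 then (eT_71_73 j) else (eT_73_75 j)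
def eT_67_75 (j : ℕ) : ℕ := bif Nat.blt j 71 then (eT_67_71 j) else (eT_71_75 j)
def eT_60_75 (j : ℕ) : ℕ := bif Nat.blt j 67 then (eT_60_67 j) else (eT_67_75 j)
def eT_76_78 (j : ℕ) : ℕ := bif Nat.blt j 77 then E_76 else E_77
def eT_75_78 (j : ℕ) : ℕ := bif Nat.blt j 76 then E_75 else (eT_76_78 j)
def eT_78_80 (j : ℕ) : ℕ := bif Nat.blt j 79 then E_78 else E_79
def eT_80_82 (j : ℕ) : ℕ := bif Nat.blt j 81 then E_80 else E_81
def eT_78_82 (j : ℕ) : ℕ := bif Nat.blt j 80 then (eT_78_80 j) else (eT_80_82 j)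
def eT_75_82 (j : ℕ) : ℕ := bif Nat.blt j 78 then (eT_75_78 j) else (eT_78_82 j)
def eT_82_84 (j : ℕ) : ℕ := bif Nat.blt j 83 then E_82 else E_83
def eT_84_86 (j : ℕ) : ℕ := bif Nat.blt j 85 then E_84 else E_85
def eT_82_86 (j : ℕ) : ℕ := bif Nat.blt j 84 then (eT_82_84 j) else (eT_84_86 j)
def eT_86_88 (j : ℕ) : ℕ := bif Nat.blt j 87 then E_86 else E_87
def eT_88_90 (j : ℕ) : ℕ := bif Nat.blt j 89 then E_88 else E_89
def eT_86_90 (j : ℕ) : ℕ := bif Nat.blt j 88 then (eT_86_88 j) else (eT_88_90 j)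
def eT_82_90 (j : ℕ) : ℕ := bif Nat.blt j 86 then (eT_82_86 j) else (eT_86_90 j)
def eT_75_90 (j : ℕ) : ℕ := bif Nat.blt j 82 then (eT_75_82 j) else (eT_82_90 j)
def eT_60_90 (j : ℕ) : ℕ := bif Nat.blt j 75 then (eT_60_75 j) else (eT_75_90 j)
def eT_91_93 (j : ℕ) : ℕ := bif Nat.blt j 92 then E_91 else E_92
def eT_90_93 (j : ℕ) : ℕ := bif Nat.blt j 91 then E_90 else (eT_91_93 j)
def eT_93_95 (j : ℕ) : ℕ := bif Nat.blt j 94 then E_93 else E_94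
def eT_95_97 (j : ℕ) : ℕ := bif Nat.blt j 96 then E_95 else E_96
def eT_93_97 (j : ℕ) : ℕ := bif Nat.blt j 95 then (eT_93_95 j) else (eT_95_97 j)
def eT_90_97 (j : ℕ) : ℕ := bif Nat.blt j 93 then (eT_90_93 j) else (eT_93_97 j)
def eT_97_99 (j : ℕ) : ℕ := bif Nat.blt j 98 then E_97 else E_98
def eT_99_101 (j : ℕ) : ℕ := bif Nat.blt j 100 then E_99 else E_100
def eT_97_101 (j : ℕ) : ℕ := bif Nat.blt j 99 then (eT_97_99 j) else (eT_99_101 j)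
def eT_101_103 (j : ℕ) : ℕ := bif Nat.blt j 102 then E_101 else E_102
def eT_103_105 (j : ℕ) : ℕ := bif Nat.blt j 104 then E_103 else E_104
def eT_101_105 (j : ℕ) : ℕ := bif Nat.blt j 103 then (eT_101_103 j) else (eT_103_105 j)
def eT_97_105 (j : ℕ) : ℕ := bif Nat.blt j 101 then (eT_97_101 j) else (eT_101_105 j)
def eT_90_105 (j : ℕ) : ℕ := bif Nat.blt j 97 then (eT_90_97 j) else (eT_97_105 j)
def eT_106_108 (j : ℕ) : ℕ := bif Nat.blt j 107 then E_106 else E_107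
def eT_105_108 (j : ℕ) : ℕ := bif Nat.blt j 106 then E_105 else (eT_106_108 j)
def eT_108_110 (j : ℕ) : ℕ := bif Nat.blt j 109 then E_108 else E_109
def eT_110_112 (j : ℕ) : ℕ := bif Nat.blt j 111 then E_110 else E_111
def eT_108_112 (j : ℕ) : ℕ := bif Nat.blt j 110 then (eT_108_110 j) else (eT_110_112 j)
def eT_105_112 (j : ℕ) : ℕ := bif Nat.blt j 108 then (eT_105_108 j) else (eT_108_112 j)
def eT_112_114 (j : ℕ) : ℕ := bif Nat.blt j 113 then E_112 else E_113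
def eT_114_116 (j : ℕ) : ℕ := bif Nat.blt j 115 then E_114 else E_115
def eT_112_116 (j : ℕ) : ℕ := bif Nat.blt j 114 then (eT_112_114 j) else (eT_114_116 j)
def eT_116_118 (j : ℕ) : ℕ := bif Nat.blt j 117 then E_116 else E_117
def eT_118_120 (j : ℕ) : ℕ := bif Nat.blt j 119 then E_118 else E_119
def eT_116_120 (j : ℕ) : ℕ := bif Nat.blt j 118 then (eT_116_118 j) else (eT_118_120 j)
def eT_112_120 (j : ℕ) : ℕ := bif Nat.blt j 116 then (eT_112_116 j) else (eT_116_120 j)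
def eT_105_120 (j : ℕ) : ℕ := bif Nat.blt j 112 then (eT_105_112 j) else (eT_112_120 j)
def eT_90_120 (j : ℕ) : ℕ := bif Nat.blt j 105 then (eT_90_105 j) else (eT_105_120 j)
def eT_60_120 (j : ℕ) : ℕ := bif Nat.blt j 90 then (eT_60_90 j) else (eT_90_120 j)
def eT_0_120 (j : ℕ) : ℕ := bif Nat.blt j 60 then (eT_0_60 j) else (eT_60_120 j)
def eT_121_123 (j : ℕ) : ℕ := bif Nat.blt j 122 then E_121 else E_122
def eT_120_123 (j : ℕ) : ℕ := bif Nat.blt j 121 then E_120 else (eT_121_123 j)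
def eT_123_125 (j : ℕ) : ℕ := bif Nat.blt j 124 then E_123 else E_124
def eT_125_127 (j : ℕ) : ℕ := bif Nat.blt j 126 then E_125 else E_126
def eT_123_127 (j : ℕ) : ℕ := bif Nat.blt j 125 then (eT_123_125 j) else (eT_125_127 j)
def eT_120_127 (j : ℕ) : ℕ := bif Nat.blt j 123 then (eT_120_123 j) else (eT_123_127 j)
def eT_127_129 (j : ℕ) : ℕ := bif Nat.blt j 128 then E_127 else E_128
def eT_129_131 (j : ℕ) : ℕ := bif Nat.blt j 130 then E_129 else E_130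
def eT_127_131 (j : ℕ) : ℕ := bif Nat.blt j 129 then (eT_127_129 j) else (eT_129_131 j)
def eT_131_133 (j : ℕ) : ℕ := bif Nat.blt j 132 then E_131 else E_132
def eT_133_135 (j : ℕ) : ℕ := bif Nat.blt j 134 then E_133 else E_134
def eT_131_135 (j : ℕ) : ℕ := bif Nat.blt j 133 then (eT_131_133 j) else (eT_133_135 j)
def eT_127_135 (j : ℕ) : ℕ := bif Nat.blt j 131 then (eT_127_131 j) else (eT_131_135 j)
def eT_120_135 (j : ℕ) : ℕ := bif Nat.blt j 127 then (eT_120_127 j) else (eT_127_135 j)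
def eT_136_138 (j : ℕ) : ℕ := bif Nat.blt j 137 then E_136 else E_137
def eT_135_138 (j : ℕ) : ℕ := bif Nat.blt j 136 then E_135 else (eT_136_138 j)
def eT_138_140 (j : ℕ) : ℕ := bif Nat.blt j 139 then E_138 else E_139
def eT_140_142 (j : ℕ) : ℕ := bif Nat.blt j 141 then E_140 else E_141
def eT_138_142 (j : ℕ) : ℕ := bif Nat.blt j 140 then (eT_138_140 j) else (eT_140_142 j)
def eT_135_142 (j : ℕ) : ℕ := bif Nat.blt j 138 then (eT_135_138 j) else (eT_138_142 j)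
def eT_142_144 (j : ℕ) : ℕ := bif Nat.blt j 143 then E_142 else E_143
def eT_144_146 (j : ℕ) : ℕ := bif Nat.blt j 145 then E_144 else E_145
def eT_142_146 (j : ℕ) : ℕ := bif Nat.blt j 144 then (eT_142_144 j) else (eT_144_146 j)
def eT_146_148 (j : ℕ) : ℕ := bif Nat.blt j 147 then E_146 else E_147
def eT_148_150 (j : ℕ) : ℕ := bif Nat.blt j 149 then E_148 else E_149
def eT_146_150 (j : ℕ) : ℕ := bif Nat.blt j 148 then (eT_146_148 j) else (eT_148_150 j)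
def eT_142_150 (j : ℕ) : ℕ := bif Nat.blt j 146 then (eT_142_146 j) else (eT_146_150 j)
def eT_135_150 (j : ℕ) : ℕ := bif Nat.blt j 142 then (eT_135_142 j) else (eT_142_150 j)
def eT_120_150 (j : ℕ) : ℕ := bif Nat.blt j 135 then (eT_120_135 j) else (eT_135_150 j)
def eT_151_153 (j : ℕ) : ℕ := bif Nat.blt j 152 then E_151 else E_152
def eT_150_153 (j : ℕ) : ℕ := bif Nat.blt j 151 then E_150 else (eT_151_153 j)
def eT_153_155 (j : ℕ) : ℕ := bif Nat.blt j 154 then E_153 else E_154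
def eT_155_157 (j : ℕ) : ℕ := bif Nat.blt j 156 then E_155 else E_156
def eT_153_157 (j : ℕ) : ℕ := bif Nat.blt j 155 then (eT_153_155 j) else (eT_155_157 j)
def eT_150_157 (j : ℕ) : ℕ := bif Nat.blt j 153 then (eT_150_153 j) else (eT_153_157 j)
def eT_157_159 (j : ℕ) : ℕ := bif Nat.blt j 158 then E_157 else E_158
def eT_159_161 (j : ℕ) : ℕ := bif Nat.blt j 160 then E_159 else E_160
def eT_157_161 (j : ℕ) : ℕ := bif Nat.blt j 159 then (eT_157_159 j) else (eT_159_161 j)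
def eT_161_163 (j : ℕ) : ℕ := bif Nat.blt j 162 then E_161 else E_162
def eT_163_165 (j : ℕ) : ℕ := bif Nat.blt j 164 then E_163 else E_164
def eT_161_165 (j : ℕ) : ℕ := bif Nat.blt j 163 then (eT_161_163 j) else (eT_163_165 j)
def eT_157_165 (j : ℕ) : ℕ := bif Nat.blt j 161 then (eT_157_161 j) else (eT_161_165 j)
def eT_150_165 (j : ℕ) : ℕ := bif Nat.blt j 157 then (eT_150_157 j) else (eT_157_165 j)
def eT_166_168 (j : ℕ) : ℕ := bif Nat.blt j 167 then E_166 else E_167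
def eT_165_168 (j : ℕ) : ℕ := bif Nat.blt j 166 then E_165 else (eT_166_168 j)
def eT_168_170 (j : ℕ) : ℕ := bif Nat.blt j 169 then E_168 else E_169
def eT_170_172 (j : ℕ) : ℕ := bif Nat.blt j 171 then E_170 else E_171
def eT_168_172 (j : ℕ) : ℕ := bif Nat.blt j 170 then (eT_168_170 j) else (eT_170_172 j)
def eT_165_172 (j : ℕ) : ℕ := bif Nat.blt j 168 then (eT_165_168 j) else (eT_168_172 j)
def eT_172_174 (j : ℕ) : ℕ := bif Nat.blt j 173 then E_172 else E_173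
def eT_174_176 (j : ℕ) : ℕ := bif Nat.blt j 175 then E_174 else E_175
def eT_172_176 (j : ℕ) : ℕ := bif Nat.blt j 174 then (eT_172_174 j) else (eT_174_176 j)
def eT_176_178 (j : ℕ) : ℕ := bif Nat.blt j 177 then E_176 else E_177
def eT_178_180 (j : ℕ) : ℕ := bif Nat.blt j 179 then E_178 else E_179
def eT_176_180 (j : ℕ) : ℕ := bif Nat.blt j 178 then (eT_176_178 j) else (eT_178_180 j)
def eT_172_180 (j : ℕ) : ℕ := bif Nat.blt j 176 then (eT_172_176 j) else (eT_176_180 j)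
def eT_165_180 (j : ℕ) : ℕ := bif Nat.blt j 172 then (eT_165_172 j) else (eT_172_180 j)
def eT_150_180 (j : ℕ) : ℕ := bif Nat.blt j 165 then (eT_150_165 j) else (eT_165_180 j)
def eT_120_180 (j : ℕ) : ℕ := bif Nat.blt j 150 then (eT_120_150 j) else (eT_150_180 j)
def eT_181_183 (j : ℕ) : ℕ := bif Nat.blt j 182 then E_181 else E_182
def eT_180_183 (j : ℕ) : ℕ := bif Nat.blt j 181 then E_180 else (eT_181_183 j)
def eT_183_185 (j : ℕ) : ℕ := bif Nat.blt j 184 then E_183 else E_184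
def eT_185_187 (j : ℕ) : ℕ := bif Nat.blt j 186 then E_185 else E_186
def eT_183_187 (j : ℕ) : ℕ := bif Nat.blt j 185 then (eT_183_185 j) else (eT_185_187 j)
def eT_180_187 (j : ℕ) : ℕ := bif Nat.blt j 183 then (eT_180_183 j) else (eT_183_187 j)
def eT_187_189 (j : ℕ) : ℕ := bif Nat.blt j 188 then E_187 else E_188
def eT_189_191 (j : ℕ) : ℕ := bif Nat.blt j 190 then E_189 else E_190
def eT_187_191 (j : ℕ) : ℕ := bif Nat.blt j 189 then (eT_187_189 j) else (eT_189_191 j)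
def eT_191_193 (j : ℕ) : ℕ := bif Nat.blt j 192 then E_191 else E_192
def eT_193_195 (j : ℕ) : ℕ := bif Nat.blt j 194 then E_193 else E_194
def eT_191_195 (j : ℕ) : ℕ := bif Nat.blt j 193 then (eT_191_193 j) else (eT_193_195 j)
def eT_187_195 (j : ℕ) : ℕ := bif Nat.blt j 191 then (eT_187_191 j) else (eT_191_195 j)
def eT_180_195 (j : ℕ) : ℕ := bif Nat.blt j 187 then (eT_180_187 j) else (eT_187_195 j)
def eT_196_198 (j : ℕ) : ℕ := bif Nat.blt j 197 then E_196 else E_197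
def eT_195_198 (j : ℕ) : ℕ := bif Nat.blt j 196 then E_195 else (eT_196_198 j)
def eT_198_200 (j : ℕ) : ℕ := bif Nat.blt j 199 then E_198 else E_199
def eT_200_202 (j : ℕ) : ℕ := bif Nat.blt j 201 then E_200 else E_201
def eT_198_202 (j : ℕ) : ℕ := bif Nat.blt j 200 then (eT_198_200 j) else (eT_200_202 j)
def eT_195_202 (j : ℕ) : ℕ := bif Nat.blt j 198 then (eT_195_198 j) else (eT_198_202 j)
def eT_202_204 (j : ℕ) : ℕ := bif Nat.blt j 203 then E_202 else E_203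
def eT_204_206 (j : ℕ) : ℕ := bif Nat.blt j 205 then E_204 else E_205
def eT_202_206 (j : ℕ) : ℕ := bif Nat.blt j 204 then (eT_202_204 j) else (eT_204_206 j)
def eT_206_208 (j : ℕ) : ℕ := bif Nat.blt j 207 then E_206 else E_207
def eT_208_210 (j : ℕ) : ℕ := bif Nat.blt j 209 then E_208 else E_209
def eT_206_210 (j : ℕ) : ℕ := bif Nat.blt j 208 then (eT_206_208 j) else (eT_208_210 j)
def eT_202_210 (j : ℕ) : ℕ := bif Nat.blt j 206 then (eT_202_206 j) else (eT_206_210 j)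
def eT_195_210 (j : ℕ) : ℕ := bif Nat.blt j 202 then (eT_195_202 j) else (eT_202_210 j)
def eT_180_210 (j : ℕ) : ℕ := bif Nat.blt j 195 then (eT_180_195 j) else (eT_195_210 j)
def eT_211_213 (j : ℕ) : ℕ := bif Nat.blt j 212 then E_211 else E_212
def eT_210_213 (j : ℕ) : ℕ := bif Nat.blt j 211 then E_210 else (eT_211_213 j)
def eT_213_215 (j : ℕ) : ℕ := bif Nat.blt j 214 then E_213 else E_214
def eT_215_217 (j : ℕ) : ℕ := bif Nat.blt j 216 then E_215 else E_216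
def eT_213_217 (j : ℕ) : ℕ := bif Nat.blt j 215 then (eT_213_215 j) else (eT_215_217 j)
def eT_210_217 (j : ℕ) : ℕ := bif Nat.blt j 213 then (eT_210_213 j) else (eT_213_217 j)
def eT_217_219 (j : ℕ) : ℕ := bif Nat.blt j 218 then E_217 else E_218
def eT_219_221 (j : ℕ) : ℕ := bif Nat.blt j 220 then E_219 else E_220
def eT_217_221 (j : ℕ) : ℕ := bif Nat.blt j 219 then (eT_217_219 j) else (eT_219_221 j)
def eT_221_223 (j : ℕ) : ℕ := bif Nat.blt j 222 then E_221 else E_222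
def eT_223_225 (j : ℕ) : ℕ := bif Nat.blt j 224 then E_223 else E_224
def eT_221_225 (j : ℕ) : ℕ := bif Nat.blt j 223 then (eT_221_223 j) else (eT_223_225 j)
def eT_217_225 (j : ℕ) : ℕ := bif Nat.blt j 221 then (eT_217_221 j) else (eT_221_225 j)
def eT_210_225 (j : ℕ) : ℕ := bif Nat.blt j 217 then (eT_210_217 j) else (eT_217_225 j)
def eT_225_227 (j : ℕ) : ℕ := bif Nat.blt j 226 then E_225 else E_226
def eT_227_229 (j : ℕ) : ℕ := bif Nat.blt j 228 then E_227 else E_228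
def eT_225_229 (j : ℕ) : ℕ := bif Nat.blt j 227 then (eT_225_227 j) else (eT_227_229 j)
def eT_229_231 (j : ℕ) : ℕ := bif Nat.blt j 230 then E_229 else E_230
def eT_231_233 (j : ℕ) : ℕ := bif Nat.blt j 232 then E_231 else E_232
def eT_229_233 (j : ℕ) : ℕ := bif Nat.blt j 231 then (eT_229_231 j) else (eT_231_233 j)
def eT_225_233 (j : ℕ) : ℕ := bif Nat.blt j 229 then (eT_225_229 j) else (eT_229_233 j)
def eT_233_235 (j : ℕ) : ℕ := bif Nat.blt j 234 then E_233 else E_234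
def eT_235_237 (j : ℕ) : ℕ := bif Nat.blt j 236 then E_235 else E_236
def eT_233_237 (j : ℕ) : ℕ := bif Nat.blt j 235 then (eT_233_235 j) else (eT_235_237 j)
def eT_237_239 (j : ℕ) : ℕ := bif Nat.blt j 238 then E_237 else E_238
def eT_239_241 (j : ℕ) : ℕ := bif Nat.blt j 240 then E_239 else E_240
def eT_237_241 (j : ℕ) : ℕ := bif Nat.blt j 239 then (eT_237_239 j) else (eT_239_241 j)
def eT_233_241 (j : ℕ) : ℕ := bif Nat.blt j 237 then (eT_233_237 j) else (eT_237_241 j)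
def eT_225_241 (j : ℕ) : ℕ := bif Nat.blt j 233 then (eT_225_233 j) else (eT_233_241 j)
def eT_210_241 (j : ℕ) : ℕ := bif Nat.blt j 225 then (eT_210_225 j) else (eT_225_241 j)
def eT_180_241 (j : ℕ) : ℕ := bif Nat.blt j 210 then (eT_180_210 j) else (eT_210_241 j)
def eT_120_241 (j : ℕ) : ℕ := bif Nat.blt j 180 then (eT_120_180 j) else (eT_180_241 j)
def eT_0_241 (j : ℕ) : ℕ := bif Nat.blt j 120 then (eT_0_120 j) else (eT_120_241 j)
def eT_242_244 (j : ℕ) : ℕ := bif Nat.blt j 243 then E_242 else E_243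
def eT_241_244 (j : ℕ) : ℕ := bif Nat.blt j 242 then E_241 else (eT_242_244 j)
def eT_244_246 (j : ℕ) : ℕ := bif Nat.blt j 245 then E_244 else E_245
def eT_246_248 (j : ℕ) : ℕ := bif Nat.blt j 247 then E_246 else E_247
def eT_244_248 (j : ℕ) : ℕ := bif Nat.blt j 246 then (eT_244_246 j) else (eT_246_248 j)
def eT_241_248 (j : ℕ) : ℕ := bif Nat.blt j 244 then (eT_241_244 j) else (eT_244_248 j)
def eT_248_250 (j : ℕ) : ℕ := bif Nat.blt j 249 then E_248 else E_249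
def eT_250_252 (j : ℕ) : ℕ := bif Nat.blt j 251 then E_250 else E_251
def eT_248_252 (j : ℕ) : ℕ := bif Nat.blt j 250 then (eT_248_250 j) else (eT_250_252 j)
def eT_252_254 (j : ℕ) : ℕ := bif Nat.blt j 253 then E_252 else E_253
def eT_254_256 (j : ℕ) : ℕ := bif Nat.blt j 255 then E_254 else E_255
def eT_252_256 (j : ℕ) : ℕ := bif Nat.blt j 254 then (eT_252_254 j) else (eT_254_256 j)
def eT_248_256 (j : ℕ) : ℕ := bif Nat.blt j 252 then (eT_248_252 j) else (eT_252_256 j)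
def eT_241_256 (j : ℕ) : ℕ := bif Nat.blt j 248 then (eT_241_248 j) else (eT_248_256 j)
def eT_257_259 (j : ℕ) : ℕ := bif Nat.blt j 258 then E_257 else E_258
def eT_256_259 (j : ℕ) : ℕ := bif Nat.blt j 257 then E_256 else (eT_257_259 j)
def eT_259_261 (j : ℕ) : ℕ := bif Nat.blt j 260 then E_259 else E_260
def eT_261_263 (j : ℕ) : ℕ := bif Nat.blt j 262 then E_261 else E_262
def eT_259_263 (j : ℕ) : ℕ := bif Nat.blt j 261 then (eT_259_261 j) else (eT_261_263 j)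
def eT_256_263 (j : ℕ) : ℕ := bif Nat.blt j 259 then (eT_256_259 j) else (eT_259_263 j)
def eT_263_265 (j : ℕ) : ℕ := bif Nat.blt j 264 then E_263 else E_264
def eT_265_267 (j : ℕ) : ℕ := bif Nat.blt j 266 then E_265 else E_266
def eT_263_267 (j : ℕ) : ℕ := bif Nat.blt j 265 then (eT_263_265 j) else (eT_265_267 j)
def eT_267_269 (j : ℕ) : ℕ := bif Nat.blt j 268 then E_267 else E_268
def eT_269_271 (j : ℕ) : ℕ := bif Nat.blt j 270 then E_269 else E_270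
def eT_267_271 (j : ℕ) : ℕ := bif Nat.blt j 269 then (eT_267_269 j) else (eT_269_271 j)
def eT_263_271 (j : ℕ) : ℕ := bif Nat.blt j 267 then (eT_263_267 j) else (eT_267_271 j)
def eT_256_271 (j : ℕ) : ℕ := bif Nat.blt j 263 then (eT_256_263 j) else (eT_263_271 j)
def eT_241_271 (j : ℕ) : ℕ := bif Nat.blt j 256 then (eT_241_256 j) else (eT_256_271 j)
def eT_272_274 (j : ℕ) : ℕ := bif Nat.blt j 273 then E_272 else E_273
def eT_271_274 (j : ℕ) : ℕ := bif Nat.blt j 272 then E_271 else (eT_272_274 j)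
def eT_274_276 (j : ℕ) : ℕ := bif Nat.blt j 275 then E_274 else E_275
def eT_276_278 (j : ℕ) : ℕ := bif Nat.blt j 277 then E_276 else E_277
def eT_274_278 (j : ℕ) : ℕ := bif Nat.blt j 276 then (eT_274_276 j) else (eT_276_278 j)
def eT_271_278 (j : ℕ) : ℕ := bif Nat.blt j 274 then (eT_271_274 j) else (eT_274_278 j)
def eT_278_280 (j : ℕ) : ℕ := bif Nat.blt j 279 then E_278 else E_279
def eT_280_282 (j : ℕ) : ℕ := bif Nat.blt j 281 then E_280 else E_281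
def eT_278_282 (j : ℕ) : ℕ := bif Nat.blt j 280 then (eT_278_280 j) else (eT_280_282 j)
def eT_282_284 (j : ℕ) : ℕ := bif Nat.blt j 283 then E_282 else E_283
def eT_284_286 (j : ℕ) : ℕ := bif Nat.blt j 285 then E_284 else E_285
def eT_282_286 (j : ℕ) : ℕ := bif Nat.blt j 284 then (eT_282_284 j) else (eT_284_286 j)
def eT_278_286 (j : ℕ) : ℕ := bif Nat.blt j 282 then (eT_278_282 j) else (eT_282_286 j)
def eT_271_286 (j : ℕ) : ℕ := bif Nat.blt j 278 then (eT_271_278 j) else (eT_278_286 j)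
def eT_287_289 (j : ℕ) : ℕ := bif Nat.blt j 288 then E_287 else E_288
def eT_286_289 (j : ℕ) : ℕ := bif Nat.blt j 287 then E_286 else (eT_287_289 j)
def eT_289_291 (j : ℕ) : ℕ := bif Nat.blt j 290 then E_289 else E_290
def eT_291_293 (j : ℕ) : ℕ := bif Nat.blt j 292 then E_291 else E_292
def eT_289_293 (j : ℕ) : ℕ := bif Nat.blt j 291 then (eT_289_291 j) else (eT_291_293 j)
def eT_286_293 (j : ℕ) : ℕ := bif Nat.blt j 289 then (eT_286_289 j) else (eT_289_293 j)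
def eT_293_295 (j : ℕ) : ℕ := bif Nat.blt j 294 then E_293 else E_294
def eT_295_297 (j : ℕ) : ℕ := bif Nat.blt j 296 then E_295 else E_296
def eT_293_297 (j : ℕ) : ℕ := bif Nat.blt j 295 then (eT_293_295 j) else (eT_295_297 j)
def eT_297_299 (j : ℕ) : ℕ := bif Nat.blt j 298 then E_297 else E_298
def eT_299_301 (j : ℕ) : ℕ := bif Nat.blt j 300 then E_299 else E_300
def eT_297_301 (j : ℕ) : ℕ := bif Nat.blt j 299 then (eT_297_299 j) else (eT_299_301 j)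
def eT_293_301 (j : ℕ) : ℕ := bif Nat.blt j 297 then (eT_293_297 j) else (eT_297_301 j)
def eT_286_301 (j : ℕ) : ℕ := bif Nat.blt j 293 then (eT_286_293 j) else (eT_293_301 j)
def eT_271_301 (j : ℕ) : ℕ := bif Nat.blt j 286 then (eT_271_286 j) else (eT_286_301 j)
def eT_241_301 (j : ℕ) : ℕ := bif Nat.blt j 271 then (eT_241_271 j) else (eT_271_301 j)
def eT_302_304 (j : ℕ) : ℕ := bif Nat.blt j 303 then E_302 else E_303
def eT_301_304 (j : ℕ) : ℕ := bif Nat.blt j 302 then E_301 else (eT_302_304 j)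
def eT_304_306 (j : ℕ) : ℕ := bif Nat.blt j 305 then E_304 else E_305
def eT_306_308 (j : ℕ) : ℕ := bif Nat.blt j 307 then E_306 else E_307
def eT_304_308 (j : ℕ) : ℕ := bif Nat.blt j 306 then (eT_304_306 j) else (eT_306_308 j)
def eT_301_308 (j : ℕ) : ℕ := bif Nat.blt j 304 then (eT_301_304 j) else (eT_304_308 j)
def eT_308_310 (j : ℕ) : ℕ := bif Nat.blt j 309 then E_308 else E_309
def eT_310_312 (j : ℕ) : ℕ := bif Nat.blt j 311 then E_310 else E_311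
def eT_308_312 (j : ℕ) : ℕ := bif Nat.blt j 310 then (eT_308_310 j) else (eT_310_312 j)
def eT_312_314 (j : ℕ) : ℕ := bif Nat.blt j 313 then E_312 else E_313
def eT_314_316 (j : ℕ) : ℕ := bif Nat.blt j 315 then E_314 else E_315
def eT_312_316 (j : ℕ) : ℕ := bif Nat.blt j 314 then (eT_312_314 j) else (eT_314_316 j)
def eT_308_316 (j : ℕ) : ℕ := bif Nat.blt j 312 then (eT_308_312 j) else (eT_312_316 j)
def eT_301_316 (j : ℕ) : ℕ := bif Nat.blt j 308 then (eT_301_308 j) else (eT_308_316 j)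
def eT_317_319 (j : ℕ) : ℕ := bif Nat.blt j 318 then E_317 else E_318
def eT_316_319 (j : ℕ) : ℕ := bif Nat.blt j 317 then E_316 else (eT_317_319 j)
def eT_319_321 (j : ℕ) : ℕ := bif Nat.blt j 320 then E_319 else E_320
def eT_321_323 (j : ℕ) : ℕ := bif Nat.blt j 322 then E_321 else E_322
def eT_319_323 (j : ℕ) : ℕ := bif Nat.blt j 321 then (eT_319_321 j) else (eT_321_323 j)
def eT_316_323 (j : ℕ) : ℕ := bif Nat.blt j 319 then (eT_316_319 j) else (eT_319_323 j)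
def eT_323_325 (j : ℕ) : ℕ := bif Nat.blt j 324 then E_323 else E_324
def eT_325_327 (j : ℕ) : ℕ := bif Nat.blt j 326 then E_325 else E_326
def eT_323_327 (j : ℕ) : ℕ := bif Nat.blt j 325 then (eT_323_325 j) else (eT_325_327 j)
def eT_327_329 (j : ℕ) : ℕ := bif Nat.blt j 328 then E_327 else E_328
def eT_329_331 (j : ℕ) : ℕ := bif Nat.blt j 330 then E_329 else E_330
def eT_327_331 (j : ℕ) : ℕ := bif Nat.blt j 329 then (eT_327_329 j) else (eT_329_331 j)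
def eT_323_331 (j : ℕ) : ℕ := bif Nat.blt j 327 then (eT_323_327 j) else (eT_327_331 j)
def eT_316_331 (j : ℕ) : ℕ := bif Nat.blt j 323 then (eT_316_323 j) else (eT_323_331 j)
def eT_301_331 (j : ℕ) : ℕ := bif Nat.blt j 316 then (eT_301_316 j) else (eT_316_331 j)
def eT_332_334 (j : ℕ) : ℕ := bif Nat.blt j 333 then E_332 else E_333
def eT_331_334 (j : ℕ) : ℕ := bif Nat.blt j 332 then E_331 else (eT_332_334 j)
def eT_334_336 (j : ℕ) : ℕ := bif Nat.blt j 335 then E_334 else E_335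
def eT_336_338 (j : ℕ) : ℕ := bif Nat.blt j 337 then E_336 else E_337
def eT_334_338 (j : ℕ) : ℕ := bif Nat.blt j 336 then (eT_334_336 j) else (eT_336_338 j)
def eT_331_338 (j : ℕ) : ℕ := bif Nat.blt j 334 then (eT_331_334 j) else (eT_334_338 j)
def eT_338_340 (j : ℕ) : ℕ := bif Nat.blt j 339 then E_338 else E_339
def eT_340_342 (j : ℕ) : ℕ := bif Nat.blt j 341 then E_340 else E_341
def eT_338_342 (j : ℕ) : ℕ := bif Nat.blt j 340 then (eT_338_340 j) else (eT_340_342 j)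
def eT_342_344 (j : ℕ) : ℕ := bif Nat.blt j 343 then E_342 else E_343
def eT_344_346 (j : ℕ) : ℕ := bif Nat.blt j 345 then E_344 else E_345
def eT_342_346 (j : ℕ) : ℕ := bif Nat.blt j 344 then (eT_342_344 j) else (eT_344_346 j)
def eT_338_346 (j : ℕ) : ℕ := bif Nat.blt j 342 then (eT_338_342 j) else (eT_342_346 j)
def eT_331_346 (j : ℕ) : ℕ := bif Nat.blt j 338 then (eT_331_338 j) else (eT_338_346 j)
def eT_347_349 (j : ℕ) : ℕ := bif Nat.blt j 348 then E_347 else E_348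
def eT_346_349 (j : ℕ) : ℕ := bif Nat.blt j 347 then E_346 else (eT_347_349 j)
def eT_349_351 (j : ℕ) : ℕ := bif Nat.blt j 350 then E_349 else E_350
def eT_351_353 (j : ℕ) : ℕ := bif Nat.blt j 352 then E_351 else E_352
def eT_349_353 (j : ℕ) : ℕ := bif Nat.blt j 351 then (eT_349_351 j) else (eT_351_353 j)
def eT_346_353 (j : ℕ) : ℕ := bif Nat.blt j 349 then (eT_346_349 j) else (eT_349_353 j)
def eT_353_355 (j : ℕ) : ℕ := bif Nat.blt j 354 then E_353 else E_354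
def eT_355_357 (j : ℕ) : ℕ := bif Nat.blt j 356 then E_355 else E_356
def eT_353_357 (j : ℕ) : ℕ := bif Nat.blt j 355 then (eT_353_355 j) else (eT_355_357 j)
def eT_357_359 (j : ℕ) : ℕ := bif Nat.blt j 358 then E_357 else E_358
def eT_359_361 (j : ℕ) : ℕ := bif Nat.blt j 360 then E_359 else E_360
def eT_357_361 (j : ℕ) : ℕ := bif Nat.blt j 359 then (eT_357_359 j) else (eT_359_361 j)
def eT_353_361 (j : ℕ) : ℕ := bif Nat.blt j 357 then (eT_353_357 j) else (eT_357_361 j)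
def eT_346_361 (j : ℕ) : ℕ := bif Nat.blt j 353 then (eT_346_353 j) else (eT_353_361 j)
def eT_331_361 (j : ℕ) : ℕ := bif Nat.blt j 346 then (eT_331_346 j) else (eT_346_361 j)
def eT_301_361 (j : ℕ) : ℕ := bif Nat.blt j 331 then (eT_301_331 j) else (eT_331_361 j)
def eT_241_361 (j : ℕ) : ℕ := bif Nat.blt j 301 then (eT_241_301 j) else (eT_301_361 j)
def eT_362_364 (j : ℕ) : ℕ := bif Nat.blt j 363 then E_362 else E_363
def eT_361_364 (j : ℕ) : ℕ := bif Nat.blt j 362 then E_361 else (eT_362_364 j)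
def eT_364_366 (j : ℕ) : ℕ := bif Nat.blt j 365 then E_364 else E_365
def eT_366_368 (j : ℕ) : ℕ := bif Nat.blt j 367 then E_366 else E_367
def eT_364_368 (j : ℕ) : ℕ := bif Nat.blt j 366 then (eT_364_366 j) else (eT_366_368 j)
def eT_361_368 (j : ℕ) : ℕ := bif Nat.blt j 364 then (eT_361_364 j) else (eT_364_368 j)
def eT_368_370 (j : ℕ) : ℕ := bif Nat.blt j 369 then E_368 else E_369
def eT_370_372 (j : ℕ) : ℕ := bif Nat.blt j 371 then E_370 else E_371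
def eT_368_372 (j : ℕ) : ℕ := bif Nat.blt j 370 then (eT_368_370 j) else (eT_370_372 j)
def eT_372_374 (j : ℕ) : ℕ := bif Nat.blt j 373 then E_372 else E_373
def eT_374_376 (j : ℕ) : ℕ := bif Nat.blt j 375 then E_374 else E_375
def eT_372_376 (j : ℕ) : ℕ := bif Nat.blt j 374 then (eT_372_374 j) else (eT_374_376 j)
def eT_368_376 (j : ℕ) : ℕ := bif Nat.blt j 372 then (eT_368_372 j) else (eT_372_376 j)
def eT_361_376 (j : ℕ) : ℕ := bif Nat.blt j 368 then (eT_361_368 j) else (eT_368_376 j)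
def eT_377_379 (j : ℕ) : ℕ := bif Nat.blt j 378 then E_377 else E_378
def eT_376_379 (j : ℕ) : ℕ := bif Nat.blt j 377 then E_376 else (eT_377_379 j)
def eT_379_381 (j : ℕ) : ℕ := bif Nat.blt j 380 then E_379 else E_380
def eT_381_383 (j : ℕ) : ℕ := bif Nat.blt j 382 then E_381 else E_382
def eT_379_383 (j : ℕ) : ℕ := bif Nat.blt j 381 then (eT_379_381 j) else (eT_381_383 j)
def eT_376_383 (j : ℕ) : ℕ := bif Nat.blt j 379 then (eT_376_379 j) else (eT_379_383 j)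
def eT_383_385 (j : ℕ) : ℕ := bif Nat.blt j 384 then E_383 else E_384
def eT_385_387 (j : ℕ) : ℕ := bif Nat.blt j 386 then E_385 else E_386
def eT_383_387 (j : ℕ) : ℕ := bif Nat.blt j 385 then (eT_383_385 j) else (eT_385_387 j)
def eT_387_389 (j : ℕ) : ℕ := bif Nat.blt j 388 then E_387 else E_388
def eT_389_391 (j : ℕ) : ℕ := bif Nat.blt j 390 then E_389 else E_390
def eT_387_391 (j : ℕ) : ℕ := bif Nat.blt j 389 then (eT_387_389 j) else (eT_389_391 j)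
def eT_383_391 (j : ℕ) : ℕ := bif Nat.blt j 387 then (eT_383_387 j) else (eT_387_391 j)
def eT_376_391 (j : ℕ) : ℕ := bif Nat.blt j 383 then (eT_376_383 j) else (eT_383_391 j)
def eT_361_391 (j : ℕ) : ℕ := bif Nat.blt j 376 then (eT_361_376 j) else (eT_376_391 j)
def eT_392_394 (j : ℕ) : ℕ := bif Nat.blt j 393 then E_392 else E_393
def eT_391_394 (j : ℕ) : ℕ := bif Nat.blt j 392 then E_391 else (eT_392_394 j)
def eT_394_396 (j : ℕ) : ℕ := bif Nat.blt j 395 then E_394 else E_395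
def eT_396_398 (j : ℕ) : ℕ := bif Nat.blt j 397 then E_396 else E_397
def eT_394_398 (j : ℕ) : ℕ := bif Nat.blt j 396 then (eT_394_396 j) else (eT_396_398 j)
def eT_391_398 (j : ℕ) : ℕ := bif Nat.blt j 394 then (eT_391_394 j) else (eT_394_398 j)
def eT_398_400 (j : ℕ) : ℕ := bif Nat.blt j 399 then E_398 else E_399
def eT_400_402 (j : ℕ) : ℕ := bif Nat.blt j 401 then E_400 else E_401
def eT_398_402 (j : ℕ) : ℕ := bif Nat.blt j 400 then (eT_398_400 j) else (eT_400_402 j)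
def eT_402_404 (j : ℕ) : ℕ := bif Nat.blt j 403 then E_402 else E_403
def eT_404_406 (j : ℕ) : ℕ := bif Nat.blt j 405 then E_404 else E_405
def eT_402_406 (j : ℕ) : ℕ := bif Nat.blt j 404 then (eT_402_404 j) else (eT_404_406 j)
def eT_398_406 (j : ℕ) : ℕ := bif Nat.blt j 402 then (eT_398_402 j) else (eT_402_406 j)
def eT_391_406 (j : ℕ) : ℕ := bif Nat.blt j 398 then (eT_391_398 j) else (eT_398_406 j)
def eT_407_409 (j : ℕ) : ℕ := bif Nat.blt j 408 then E_407 else E_408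
def eT_406_409 (j : ℕ) : ℕ := bif Nat.blt j 407 then E_406 else (eT_407_409 j)
def eT_409_411 (j : ℕ) : ℕ := bif Nat.blt j 410 then E_409 else E_410
def eT_411_413 (j : ℕ) : ℕ := bif Nat.blt j 412 then E_411 else E_412
def eT_409_413 (j : ℕ) : ℕ := bif Nat.blt j 411 then (eT_409_411 j) else (eT_411_413 j)
def eT_406_413 (j : ℕ) : ℕ := bif Nat.blt j 409 then (eT_406_409 j) else (eT_409_413 j)
def eT_413_415 (j : ℕ) : ℕ := bif Nat.blt j 414 then E_413 else E_414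
def eT_415_417 (j : ℕ) : ℕ := bif Nat.blt j 416 then E_415 else E_416
def eT_413_417 (j : ℕ) : ℕ := bif Nat.blt j 415 then (eT_413_415 j) else (eT_415_417 j)
def eT_417_419 (j : ℕ) : ℕ := bif Nat.blt j 418 then E_417 else E_418
def eT_419_421 (j : ℕ) : ℕ := bif Nat.blt j 420 then E_419 else E_420
def eT_417_421 (j : ℕ) : ℕ := bif Nat.blt j 419 then (eT_417_419 j) else (eT_419_421 j)
def eT_413_421 (j : ℕ) : ℕ := bif Nat.blt j 417 then (eT_413_417 j) else (eT_417_421 j)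
def eT_406_421 (j : ℕ) : ℕ := bif Nat.blt j 413 then (eT_406_413 j) else (eT_413_421 j)
def eT_391_421 (j : ℕ) : ℕ := bif Nat.blt j 406 then (eT_391_406 j) else (eT_406_421 j)
def eT_361_421 (j : ℕ) : ℕ := bif Nat.blt j 391 then (eT_361_391 j) else (eT_391_421 j)
def eT_422_424 (j : ℕ) : ℕ := bif Nat.blt j 423 then E_422 else E_423
def eT_421_424 (j : ℕ) : ℕ := bif Nat.blt j 422 then E_421 else (eT_422_424 j)
def eT_424_426 (j : ℕ) : ℕ := bif Nat.blt j 425 then E_424 else E_425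
def eT_426_428 (j : ℕ) : ℕ := bif Nat.blt j 427 then E_426 else E_427
def eT_424_428 (j : ℕ) : ℕ := bif Nat.blt j 426 then (eT_424_426 j) else (eT_426_428 j)
def eT_421_428 (j : ℕ) : ℕ := bif Nat.blt j 424 then (eT_421_424 j) else (eT_424_428 j)
def eT_428_430 (j : ℕ) : ℕ := bif Nat.blt j 429 then E_428 else E_429
def eT_430_432 (j : ℕ) : ℕ := bif Nat.blt j 431 then E_430 else E_431
def eT_428_432 (j : ℕ) : ℕ := bif Nat.blt j 430 then (eT_428_430 j) else (eT_430_432 j)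
def eT_432_434 (j : ℕ) : ℕ := bif Nat.blt j 433 then E_432 else E_433
def eT_434_436 (j : ℕ) : ℕ := bif Nat.blt j 435 then E_434 else E_435
def eT_432_436 (j : ℕ) : ℕ := bif Nat.blt j 434 then (eT_432_434 j) else (eT_434_436 j)
def eT_428_436 (j : ℕ) : ℕ := bif Nat.blt j 432 then (eT_428_432 j) else (eT_432_436 j)
def eT_421_436 (j : ℕ) : ℕ := bif Nat.blt j 428 then (eT_421_428 j) else (eT_428_436 j)
def eT_437_439 (j : ℕ) : ℕ := bif Nat.blt j 438 then E_437 else E_438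
def eT_436_439 (j : ℕ) : ℕ := bif Nat.blt j 437 then E_436 else (eT_437_439 j)
def eT_439_441 (j : ℕ) : ℕ := bif Nat.blt j 440 then E_439 else E_440
def eT_441_443 (j : ℕ) : ℕ := bif Nat.blt j 442 then E_441 else E_442
def eT_439_443 (j : ℕ) : ℕ := bif Nat.blt j 441 then (eT_439_441 j) else (eT_441_443 j)
def eT_436_443 (j : ℕ) : ℕ := bif Nat.blt j 439 then (eT_436_439 j) else (eT_439_443 j)
def eT_443_445 (j : ℕ) : ℕ := bif Nat.blt j 444 then E_443 else E_444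
def eT_445_447 (j : ℕ) : ℕ := bif Nat.blt j 446 then E_445 else E_446
def eT_443_447 (j : ℕ) : ℕ := bif Nat.blt j 445 then (eT_443_445 j) else (eT_445_447 j)
def eT_447_449 (j : ℕ) : ℕ := bif Nat.blt j 448 then E_447 else E_448
def eT_449_451 (j : ℕ) : ℕ := bif Nat.blt j 450 then E_449 else E_450
def eT_447_451 (j : ℕ) : ℕ := bif Nat.blt j 449 then (eT_447_449 j) else (eT_449_451 j)
def eT_443_451 (j : ℕ) : ℕ := bif Nat.blt j 447 then (eT_443_447 j) else (eT_447_451 j)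
def eT_436_451 (j : ℕ) : ℕ := bif Nat.blt j 443 then (eT_436_443 j) else (eT_443_451 j)
def eT_421_451 (j : ℕ) : ℕ := bif Nat.blt j 436 then (eT_421_436 j) else (eT_436_451 j)
def eT_452_454 (j : ℕ) : ℕ := bif Nat.blt j 453 then E_452 else E_453
def eT_451_454 (j : ℕ) : ℕ := bif Nat.blt j 452 then E_451 else (eT_452_454 j)
def eT_454_456 (j : ℕ) : ℕ := bif Nat.blt j 455 then E_454 else E_455
def eT_456_458 (j : ℕ) : ℕ := bif Nat.blt j 457 then E_456 else E_457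
def eT_454_458 (j : ℕ) : ℕ := bif Nat.blt j 456 then (eT_454_456 j) else (eT_456_458 j)
def eT_451_458 (j : ℕ) : ℕ := bif Nat.blt j 454 then (eT_451_454 j) else (eT_454_458 j)
def eT_458_460 (j : ℕ) : ℕ := bif Nat.blt j 459 then E_458 else E_459
def eT_460_462 (j : ℕ) : ℕ := bif Nat.blt j 461 then E_460 else E_461
def eT_458_462 (j : ℕ) : ℕ := bif Nat.blt j 460 then (eT_458_460 j) else (eT_460_462 j)
def eT_462_464 (j : ℕ) : ℕ := bif Nat.blt j 463 then E_462 else E_463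
def eT_464_466 (j : ℕ) : ℕ := bif Nat.blt j 465 then E_464 else E_465
def eT_462_466 (j : ℕ) : ℕ := bif Nat.blt j 464 then (eT_462_464 j) else (eT_464_466 j)
def eT_458_466 (j : ℕ) : ℕ := bif Nat.blt j 462 then (eT_458_462 j) else (eT_462_466 j)
def eT_451_466 (j : ℕ) : ℕ := bif Nat.blt j 458 then (eT_451_458 j) else (eT_458_466 j)
def eT_466_468 (j : ℕ) : ℕ := bif Nat.blt j 467 then E_466 else E_467
def eT_468_470 (j : ℕ) : ℕ := bif Nat.blt j 469 then E_468 else E_469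
def eT_466_470 (j : ℕ) : ℕ := bif Nat.blt j 468 then (eT_466_468 j) else (eT_468_470 j)
def eT_470_472 (j : ℕ) : ℕ := bif Nat.blt j 471 then E_470 else E_471
def eT_472_474 (j : ℕ) : ℕ := bif Nat.blt j 473 then E_472 else E_473
def eT_470_474 (j : ℕ) : ℕ := bif Nat.blt j 472 then (eT_470_472 j) else (eT_472_474 j)
def eT_466_474 (j : ℕ) : ℕ := bif Nat.blt j 470 then (eT_466_470 j) else (eT_470_474 j)
def eT_474_476 (j : ℕ) : ℕ := bif Nat.blt j 475 then E_474 else E_475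
def eT_476_478 (j : ℕ) : ℕ := bif Nat.blt j 477 then E_476 else E_477
def eT_474_478 (j : ℕ) : ℕ := bif Nat.blt j 476 then (eT_474_476 j) else (eT_476_478 j)
def eT_478_480 (j : ℕ) : ℕ := bif Nat.blt j 479 then E_478 else E_479
def eT_480_482 (j : ℕ) : ℕ := bif Nat.blt j 481 then E_480 else E_481
def eT_478_482 (j : ℕ) : ℕ := bif Nat.blt j 480 then (eT_478_480 j) else (eT_480_482 j)
def eT_474_482 (j : ℕ) : ℕ := bif Nat.blt j 478 then (eT_474_478 j) else (eT_478_482 j)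
def eT_466_482 (j : ℕ) : ℕ := bif Nat.blt j 474 then (eT_466_474 j) else (eT_474_482 j)
def eT_451_482 (j : ℕ) : ℕ := bif Nat.blt j 466 then (eT_451_466 j) else (eT_466_482 j)
def eT_421_482 (j : ℕ) : ℕ := bif Nat.blt j 451 then (eT_421_451 j) else (eT_451_482 j)
def eT_361_482 (j : ℕ) : ℕ := bif Nat.blt j 421 then (eT_361_421 j) else (eT_421_482 j)
def eT_241_482 (j : ℕ) : ℕ := bif Nat.blt j 361 then (eT_241_361 j) else (eT_361_482 j)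
def eT_0_482 (j : ℕ) : ℕ := bif Nat.blt j 241 then (eT_0_241 j) else (eT_241_482 j)
def eT (j : ℕ) : ℕ := (eT_0_482 j)
noncomputable def chunkF (h : ℕ) : ℕ := Nat.rec (motive := fun _ => ℕ) (eT 0) (fun n _ => eT (Nat.succ n)) h
noncomputable def Eo (r : ℕ) : ℕ := Nat.land (Nat.shiftRight (chunkF (Nat.shiftRight r 8)) (Nat.mul (Nat.land r 255) 54)) 18014398509481983
def invT : ℕ := 0xffef7cefae78df6d74cf2c70beeb6caeaa689e69648e28607de75c6da6585d65544d24503ce34c2ca2481c61440c2040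
def inv (y : ℕ) : ℕ := invOf invT y
def Wt_0_2 (j : ℕ) : List ℕ := bif Nat.blt j 1 then [nat_lit 2, nat_lit 3, nat_lit 0, nat_lit 1, nat_lit 2, nat_lit 1, nat_lit 0, nat_lit 2, nat_lit 0, nat_lit 2, nat_lit 1, nat_lit 2, nat_lit 0, nat_lit 2, nat_lit 0, nat_lit 1, nat_lit 2, nat_lit 1, nat_lit 0, nat_lit 3] else [nat_lit 0, nat_lit 3, nat_lit 0, nat_lit 2, nat_lit 3, nat_lit 2, nat_lit 0, nat_lit 2, nat_lit 1, nat_lit 0, nat_lit 1, nat_lit 2, nat_lit 1, nat_lit 0, nat_lit 1, nat_lit 2, nat_lit 3, nat_lit 0, nat_lit 3]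
def Wt_3_5 (j : ℕ) : List ℕ := bif Nat.blt j 4 then [nat_lit 2, nat_lit 1, nat_lit 0, nat_lit 1, nat_lit 2, nat_lit 3, nat_lit 0, nat_lit 2, nat_lit 3, nat_lit 2, nat_lit 0, nat_lit 3, nat_lit 0, nat_lit 3, nat_lit 0, nat_lit 2, nat_lit 1, nat_lit 0, nat_lit 1] else [nat_lit 3, nat_lit 1, nat_lit 2, nat_lit 0, nat_lit 1, nat_lit 2, nat_lit 1, nat_lit 0, nat_lit 1, nat_lit 2, nat_lit 3, nat_lit 0, nat_lit 3, nat_lit 0, nat_lit 3, nat_lit 0, nat_lit 3, nat_lit 0, nat_lit 1, nat_lit 3, nat_lit 2]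
def Wt_2_5 (j : ℕ) : List ℕ := bif Nat.blt j 3 then [nat_lit 2, nat_lit 0, nat_lit 3, nat_lit 0, nat_lit 3, nat_lit 0, nat_lit 2, nat_lit 1, nat_lit 0, nat_lit 1, nat_lit 2, nat_lit 1, nat_lit 0, nat_lit 1, nat_lit 2, nat_lit 3, nat_lit 0, nat_lit 2, nat_lit 3] else (Wt_3_5 j)
def Wt_0_5 (j : ℕ) : List ℕ := bif Nat.blt j 2 then (Wt_0_2 j) else (Wt_2_5 j)
def Wt_6_8 (j : ℕ) : List ℕ := bif Nat.blt j 7 then [nat_lit 2, nat_lit 3, nat_lit 1, nat_lit 0, nat_lit 1, nat_lit 2, nat_lit 3, nat_lit 0, nat_lit 3, nat_lit 0, nat_lit 3, nat_lit 0, nat_lit 3, nat_lit 0, nat_lit 2, nat_lit 1, nat_lit 0, nat_lit 1, nat_lit 3] else [nat_lit 3, nat_lit 1, nat_lit 2, nat_lit 0, nat_lit 1, nat_lit 2, nat_lit 3, nat_lit 0, nat_lit 2, nat_lit 3, nat_lit 2, nat_lit 0, nat_lit 3, nat_lit 0, nat_lit 3, nat_lit 0, nat_lit 2, nat_lit 1, nat_lit 0, nat_lit 3, nat_lit 2]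
def Wt_5_8 (j : ℕ) : List ℕ := bif Nat.blt j 6 then [nat_lit 0, nat_lit 3, nat_lit 1, nat_lit 3, nat_lit 0, nat_lit 2, nat_lit 3, nat_lit 1, nat_lit 3, nat_lit 2, nat_lit 3, nat_lit 1, nat_lit 3, nat_lit 2, nat_lit 0, nat_lit 3, nat_lit 1, nat_lit 3] else (Wt_6_8 j)
def Wt_9_11 (j : ℕ) : List ℕ := bif Nat.blt j 10 then [nat_lit 3, nat_lit 0, nat_lit 2, nat_lit 3, nat_lit 1, nat_lit 3, nat_lit 2, nat_lit 3, nat_lit 1, nat_lit 3, nat_lit 2, nat_lit 0, nat_lit 3, nat_lit 1, nat_lit 3, nat_lit 0, nat_lit 3, nat_lit 1] else [nat_lit 3, nat_lit 2, nat_lit 3, nat_lit 1, nat_lit 0, nat_lit 3, nat_lit 0, nat_lit 3, nat_lit 0, nat_lit 3, nat_lit 0, nat_lit 3, nat_lit 2, nat_lit 1, nat_lit 0, nat_lit 1, nat_lit 2, nat_lit 1, nat_lit 0, nat_lit 2, nat_lit 1]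
def Wt_8_11 (j : ℕ) : List ℕ := bif Nat.blt j 9 then [nat_lit 1, nat_lit 2, nat_lit 0, nat_lit 1, nat_lit 2, nat_lit 1, nat_lit 0, nat_lit 1, nat_lit 2, nat_lit 3, nat_lit 0, nat_lit 3, nat_lit 0, nat_lit 3, nat_lit 0, nat_lit 3, nat_lit 0, nat_lit 1, nat_lit 3, nat_lit 2, nat_lit 3] else (Wt_9_11 j)
def Wt_5_11 (j : ℕ) : List ℕ := bif Nat.blt j 8 then (Wt_5_8 j) else (Wt_8_11 j)
def Wt_0_11 (j : ℕ) : List ℕ := bif Nat.blt j 5 then (Wt_0_5 j) else (Wt_5_11 j)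
def Wt_12_14 (j : ℕ) : List ℕ := bif Nat.blt j 13 then [nat_lit 1, nat_lit 0, nat_lit 3, nat_lit 0, nat_lit 1, nat_lit 0, nat_lit 1, nat_lit 3, nat_lit 1, nat_lit 0, nat_lit 1, nat_lit 0, nat_lit 3, nat_lit 0, nat_lit 1, nat_lit 0, nat_lit 1, nat_lit 3, nat_lit 1, nat_lit 0] else [nat_lit 2, nat_lit 1, nat_lit 3, nat_lit 0, nat_lit 1, nat_lit 0, nat_lit 3, nat_lit 0, nat_lit 3, nat_lit 2, nat_lit 1, nat_lit 0, nat_lit 1, nat_lit 0, nat_lit 3, nat_lit 0, nat_lit 1, nat_lit 2, nat_lit 1, nat_lit 3, nat_lit 1, nat_lit 0]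
def Wt_11_14 (j : ℕ) : List ℕ := bif Nat.blt j 12 then [nat_lit 2, nat_lit 3, nat_lit 1, nat_lit 3, nat_lit 2, nat_lit 0, nat_lit 3, nat_lit 1, nat_lit 3, nat_lit 0, nat_lit 3, nat_lit 1, nat_lit 3, nat_lit 0, nat_lit 2, nat_lit 3, nat_lit 1, nat_lit 3] else (Wt_12_14 j)
def Wt_15_17 (j : ℕ) : List ℕ := bif Nat.blt j 16 then [nat_lit 0, nat_lit 3, nat_lit 0, nat_lit 3, nat_lit 2, nat_lit 1, nat_lit 0, nat_lit 1, nat_lit 3, nat_lit 2, nat_lit 3, nat_lit 1, nat_lit 0, nat_lit 1, nat_lit 2, nat_lit 0, nat_lit 3, nat_lit 0, nat_lit 3] else [nat_lit 63, nat_lit 3, nat_lit 2, nat_lit 0, nat_lit 2, nat_lit 1, nat_lit 0, nat_lit 1, nat_lit 2, nat_lit 1, nat_lit 0, nat_lit 1, nat_lit 2, nat_lit 3, nat_lit 0, nat_lit 3, nat_lit 0, nat_lit 3, nat_lit 0, nat_lit 2]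
def Wt_14_17 (j : ℕ) : List ℕ := bif Nat.blt j 15 then [nat_lit 1, nat_lit 0, nat_lit 1, nat_lit 3, nat_lit 1, nat_lit 3, nat_lit 1, nat_lit 3, nat_lit 1, nat_lit 0, nat_lit 1, nat_lit 3, nat_lit 2, nat_lit 0, nat_lit 1, nat_lit 3, nat_lit 1, nat_lit 0, nat_lit 2, nat_lit 3] else (Wt_15_17 j)
def Wt_11_17 (j : ℕ) : List ℕ := bif Nat.blt j 14 then (Wt_11_14 j) else (Wt_14_17 j)
def Wt_18_20 (j : ℕ) : List ℕ := bif Nat.blt j 19 then [nat_lit 2, nat_lit 2, nat_lit 63] else [nat_lit 3, nat_lit 1, nat_lit 3, nat_lit 1, nat_lit 3, nat_lit 1, nat_lit 0, nat_lit 1, nat_lit 3, nat_lit 2, nat_lit 0, nat_lit 1, nat_lit 3, nat_lit 1, nat_lit 0, nat_lit 2, nat_lit 3, nat_lit 1, nat_lit 0, nat_lit 1]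
def Wt_17_20 (j : ℕ) : List ℕ := bif Nat.blt j 18 then [nat_lit 63, nat_lit 2, nat_lit 63, nat_lit 2] else (Wt_18_20 j)
def Wt_21_23 (j : ℕ) : List ℕ := bif Nat.blt j 22 then [nat_lit 0, nat_lit 3, nat_lit 0, nat_lit 2, nat_lit 1, nat_lit 0, nat_lit 1, nat_lit 3, nat_lit 2, nat_lit 3, nat_lit 1, nat_lit 0, nat_lit 1, nat_lit 2, nat_lit 3, nat_lit 0, nat_lit 3, nat_lit 0, nat_lit 3] else [nat_lit 2, nat_lit 0, nat_lit 1, nat_lit 2, nat_lit 1, nat_lit 0, nat_lit 2, nat_lit 0, nat_lit 1, nat_lit 3, nat_lit 2, nat_lit 3, nat_lit 1, nat_lit 0, nat_lit 2, nat_lit 0, nat_lit 1, nat_lit 2, nat_lit 1, nat_lit 0]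
def Wt_20_23 (j : ℕ) : List ℕ := bif Nat.blt j 21 then [nat_lit 3, nat_lit 0, nat_lit 3, nat_lit 2, nat_lit 1, nat_lit 0, nat_lit 1, nat_lit 0, nat_lit 3, nat_lit 0, nat_lit 1, nat_lit 2, nat_lit 1, nat_lit 3, nat_lit 1, nat_lit 0, nat_lit 2, nat_lit 1, nat_lit 3, nat_lit 0, nat_lit 1, nat_lit 0] else (Wt_21_23 j)
def Wt_17_23 (j : ℕ) : List ℕ := bif Nat.blt j 20 then (Wt_17_20 j) else (Wt_20_23 j)
def Wt_11_23 (j : ℕ) : List ℕ := bif Nat.blt j 17 then (Wt_11_17 j) else (Wt_17_23 j)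
def Wt_0_23 (j : ℕ) : List ℕ := bif Nat.blt j 11 then (Wt_0_11 j) else (Wt_11_23 j)
def Wt_23_25 (j : ℕ) : List ℕ := bif Nat.blt j 24 then [nat_lit 63, nat_lit 2, nat_lit 3, nat_lit 1, nat_lit 0, nat_lit 2, nat_lit 0, nat_lit 1, nat_lit 2, nat_lit 1, nat_lit 0, nat_lit 2, nat_lit 0, nat_lit 1, nat_lit 2, nat_lit 1, nat_lit 0, nat_lit 2, nat_lit 0, nat_lit 1, nat_lit 3] else [nat_lit 0, nat_lit 1, nat_lit 0, nat_lit 1, nat_lit 0, nat_lit 1, nat_lit 0, nat_lit 1, nat_lit 0, nat_lit 1, nat_lit 0, nat_lit 1, nat_lit 0, nat_lit 1, nat_lit 0, nat_lit 1]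
def Wt_26_28 (j : ℕ) : List ℕ := bif Nat.blt j 27 then [nat_lit 3, nat_lit 0, nat_lit 3, nat_lit 2, nat_lit 1, nat_lit 0, nat_lit 1, nat_lit 3, nat_lit 2, nat_lit 3, nat_lit 1, nat_lit 0, nat_lit 1, nat_lit 2, nat_lit 0, nat_lit 3, nat_lit 0, nat_lit 3, nat_lit 0] else [nat_lit 1, nat_lit 3, nat_lit 2, nat_lit 3, nat_lit 1, nat_lit 0, nat_lit 3, nat_lit 0, nat_lit 3, nat_lit 0, nat_lit 3, nat_lit 0, nat_lit 3, nat_lit 2, nat_lit 1, nat_lit 0, nat_lit 1, nat_lit 2, nat_lit 1, nat_lit 0, nat_lit 2]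
def Wt_25_28 (j : ℕ) : List ℕ := bif Nat.blt j 26 then [nat_lit 0, nat_lit 1, nat_lit 0, nat_lit 3, nat_lit 0, nat_lit 1, nat_lit 2, nat_lit 1, nat_lit 3, nat_lit 1, nat_lit 0, nat_lit 2, nat_lit 1, nat_lit 3, nat_lit 0, nat_lit 1, nat_lit 0, nat_lit 3, nat_lit 0, nat_lit 3, nat_lit 2, nat_lit 1] else (Wt_26_28 j)
def Wt_23_28 (j : ℕ) : List ℕ := bif Nat.blt j 25 then (Wt_23_25 j) else (Wt_25_28 j)
def Wt_29_31 (j : ℕ) : List ℕ := bif Nat.blt j 30 then [nat_lit 2, nat_lit 3, nat_lit 1, nat_lit 2, nat_lit 0, nat_lit 1, nat_lit 2, nat_lit 1, nat_lit 0, nat_lit 1, nat_lit 2, nat_lit 3, nat_lit 0, nat_lit 3, nat_lit 0, nat_lit 3, nat_lit 0, nat_lit 3, nat_lit 0, nat_lit 1, nat_lit 3] else [nat_lit 1, nat_lit 3, nat_lit 0, nat_lit 2, nat_lit 3, nat_lit 1, nat_lit 3, nat_lit 2, nat_lit 3, nat_lit 1, nat_lit 3, nat_lit 2, nat_lit 0, nat_lit 3, nat_lit 1, nat_lit 3, nat_lit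 0, nat_lit 3]
def Wt_28_31 (j : ℕ) : List ℕ := bif Nat.blt j 29 then [nat_lit 1, nat_lit 2, nat_lit 0, nat_lit 2, nat_lit 0, nat_lit 1, nat_lit 2, nat_lit 1, nat_lit 0, nat_lit 3, nat_lit 2, nat_lit 3, nat_lit 0, nat_lit 1, nat_lit 2, nat_lit 1, nat_lit 0, nat_lit 2, nat_lit 0, nat_lit 2] else (Wt_29_31 j)
def Wt_32_34 (j : ℕ) : List ℕ := bif Nat.blt j 33 then [nat_lit 2, nat_lit 1, nat_lit 0, nat_lit 2, nat_lit 0, nat_lit 1, nat_lit 2, nat_lit 1, nat_lit 0, nat_lit 2, nat_lit 0, nat_lit 1, nat_lit 3, nat_lit 2, nat_lit 3, nat_lit 1, nat_lit 0, nat_lit 2, nat_lit 0, nat_lit 1] else [nat_lit 63, nat_lit 0, nat_lit 1, nat_lit 2, nat_lit 1, nat_lit 0, nat_lit 2, nat_lit 0, nat_lit 2, nat_lit 1, nat_lit 2, nat_lit 0, nat_lit 2, nat_lit 0, nat_lit 1, nat_lit 2, nat_lit 1, nat_lit 0, nat_lit 3, nat_lit 2, nat_lit 3]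
def Wt_31_34 (j : ℕ) : List ℕ := bif Nat.blt j 32 then [nat_lit 2, nat_lit 0, nat_lit 3, nat_lit 0, nat_lit 3, nat_lit 0, nat_lit 3, nat_lit 2, nat_lit 1, nat_lit 0, nat_lit 1, nat_lit 2, nat_lit 1, nat_lit 0, nat_lit 1, nat_lit 2, nat_lit 0, nat_lit 2, nat_lit 3] else (Wt_32_34 j)
def Wt_28_34 (j : ℕ) : List ℕ := bif Nat.blt j 31 then (Wt_28_31 j) else (Wt_31_34 j)
def Wt_23_34 (j : ℕ) : List ℕ := bif Nat.blt j 28 then (Wt_23_28 j) else (Wt_28_34 j)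
def Wt_35_37 (j : ℕ) : List ℕ := bif Nat.blt j 36 then [nat_lit 2, nat_lit 0, nat_lit 3, nat_lit 1, nat_lit 3, nat_lit 0, nat_lit 3, nat_lit 1, nat_lit 3, nat_lit 0, nat_lit 2, nat_lit 3, nat_lit 1, nat_lit 3, nat_lit 2, nat_lit 3, nat_lit 1, nat_lit 3] else [nat_lit 2, nat_lit 1, nat_lit 0, nat_lit 1, nat_lit 2, nat_lit 3, nat_lit 0, nat_lit 3, nat_lit 0, nat_lit 3, nat_lit 0, nat_lit 2, nat_lit 3, nat_lit 2, nat_lit 0, nat_lit 2, nat_lit 1, nat_lit 0, nat_lit 1]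
def Wt_34_37 (j : ℕ) : List ℕ := bif Nat.blt j 35 then [nat_lit 63, nat_lit 3, nat_lit 63, nat_lit 3] else (Wt_35_37 j)
def Wt_38_40 (j : ℕ) : List ℕ := bif Nat.blt j 39 then [nat_lit 3, nat_lit 2, nat_lit 0, nat_lit 3, nat_lit 2, nat_lit 1, nat_lit 0, nat_lit 1, nat_lit 2, nat_lit 1, nat_lit 0, nat_lit 1, nat_lit 2, nat_lit 0, nat_lit 3, nat_lit 0, nat_lit 3, nat_lit 0, nat_lit 2] else [nat_lit 63, nat_lit 1, nat_lit 2, nat_lit 0, nat_lit 3, nat_lit 0, nat_lit 3, nat_lit 0, nat_lit 2, nat_lit 3, nat_lit 2, nat_lit 0, nat_lit 3, nat_lit 2, nat_lit 1, nat_lit 0, nat_lit 2, nat_lit 1, nat_lit 3, nat_lit 2, nat_lit 3, nat_lit 0]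
def Wt_37_40 (j : ℕ) : List ℕ := bif Nat.blt j 38 then [nat_lit 0, nat_lit 2, nat_lit 3, nat_lit 1, nat_lit 0, nat_lit 1, nat_lit 3, nat_lit 1, nat_lit 3, nat_lit 1, nat_lit 3, nat_lit 1, nat_lit 0, nat_lit 1, nat_lit 3, nat_lit 2, nat_lit 0, nat_lit 1, nat_lit 3, nat_lit 1] else (Wt_38_40 j)
def Wt_34_40 (j : ℕ) : List ℕ := bif Nat.blt j 37 then (Wt_34_37 j) else (Wt_37_40 j)
def Wt_41_43 (j : ℕ) : List ℕ := bif Nat.blt j 42 then [nat_lit 63, nat_lit 1, nat_lit 63, nat_lit 1] else [nat_lit 1, nat_lit 1, nat_lit 63]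
def Wt_40_43 (j : ℕ) : List ℕ := bif Nat.blt j 41 then [nat_lit 63, nat_lit 0, nat_lit 63, nat_lit 0] else (Wt_41_43 j)
def Wt_44_46 (j : ℕ) : List ℕ := bif Nat.blt j 45 then [nat_lit 63, nat_lit 1, nat_lit 2, nat_lit 0, nat_lit 2, nat_lit 0, nat_lit 1, nat_lit 2, nat_lit 1, nat_lit 0, nat_lit 3, nat_lit 2, nat_lit 3, nat_lit 0, nat_lit 1, nat_lit 2, nat_lit 1, nat_lit 0, nat_lit 2, nat_lit 0, nat_lit 2] else [nat_lit 63, nat_lit 2, nat_lit 0, nat_lit 3, nat_lit 2, nat_lit 1, nat_lit 0, nat_lit 2, nat_lit 1, nat_lit 3, nat_lit 2, nat_lit 3, nat_lit 0, nat_lit 1, nat_lit 2, nat_lit 0, nat_lit 3, nat_lit 0, nat_lit 3, nat_lit 0, nat_lit 2, nat_lit 3]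
def Wt_43_46 (j : ℕ) : List ℕ := bif Nat.blt j 44 then [nat_lit 3, nat_lit 3, nat_lit 63] else (Wt_44_46 j)
def Wt_40_46 (j : ℕ) : List ℕ := bif Nat.blt j 43 then (Wt_40_43 j) else (Wt_43_46 j)
def Wt_34_46 (j : ℕ) : List ℕ := bif Nat.blt j 40 then (Wt_34_40 j) else (Wt_40_46 j)
def Wt_23_46 (j : ℕ) : List ℕ := bif Nat.blt j 34 then (Wt_23_34 j) else (Wt_34_46 j)
def Wt_0_46 (j : ℕ) : List ℕ := bif Nat.blt j 23 then (Wt_0_23 j) else (Wt_23_46 j)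
def Wt_46_48 (j : ℕ) : List ℕ := bif Nat.blt j 47 then [nat_lit 1, nat_lit 0, nat_lit 2, nat_lit 0, nat_lit 2, nat_lit 1, nat_lit 0, nat_lit 2, nat_lit 0, nat_lit 2, nat_lit 1, nat_lit 2, nat_lit 0, nat_lit 1, nat_lit 2, nat_lit 0, nat_lit 1, nat_lit 2, nat_lit 0, nat_lit 1, nat_lit 0, nat_lit 2, nat_lit 0] else [nat_lit 2, nat_lit 0, nat_lit 1, nat_lit 2, nat_lit 0, nat_lit 2, nat_lit 0, nat_lit 1, nat_lit 0, nat_lit 2, nat_lit 0, nat_lit 1, nat_lit 0, nat_lit 2, nat_lit 1, nat_lit 0, nat_lit 2, nat_lit 1, nat_lit 0, nat_lit 2, nat_lit 1, nat_lit 2, nat_lit 0]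
def Wt_49_51 (j : ℕ) : List ℕ := bif Nat.blt j 50 then [nat_lit 2, nat_lit 0, nat_lit 2, nat_lit 1, nat_lit 2, nat_lit 0, nat_lit 1, nat_lit 0, nat_lit 1, nat_lit 0, nat_lit 1, nat_lit 0, nat_lit 2, nat_lit 1, nat_lit 0, nat_lit 2, nat_lit 1, nat_lit 0, nat_lit 2, nat_lit 0, nat_lit 2, nat_lit 0, nat_lit 1] else [nat_lit 63, nat_lit 0, nat_lit 3, nat_lit 0, nat_lit 2, nat_lit 1, nat_lit 0, nat_lit 1, nat_lit 3, nat_lit 2, nat_lit 3, nat_lit 1, nat_lit 0, nat_lit 1, nat_lit 2, nat_lit 3, nat_lit 0, nat_lit 3, nat_lit 0, nat_lit 3]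
def Wt_48_51 (j : ℕ) : List ℕ := bif Nat.blt j 49 then [nat_lit 63, nat_lit 2, nat_lit 0, nat_lit 1, nat_lit 2, nat_lit 1, nat_lit 0, nat_lit 3, nat_lit 2, nat_lit 3, nat_lit 0, nat_lit 1, nat_lit 2, nat_lit 1, nat_lit 0, nat_lit 2, nat_lit 0, nat_lit 2, nat_lit 1, nat_lit 2, nat_lit 0] else (Wt_49_51 j)
def Wt_46_51 (j : ℕ) : List ℕ := bif Nat.blt j 48 then (Wt_46_48 j) else (Wt_48_51 j)
def Wt_52_54 (j : ℕ) : List ℕ := bif Nat.blt j 53 then [nat_lit 63, nat_lit 3, nat_lit 0, nat_lit 3, nat_lit 2, nat_lit 1, nat_lit 0, nat_lit 1, nat_lit 3, nat_lit 2, nat_lit 3, nat_lit 1, nat_lit 0, nat_lit 1, nat_lit 2, nat_lit 0, nat_lit 3, nat_lit 0, nat_lit 3, nat_lit 0] else [nat_lit 63, nat_lit 3, nat_lit 1, nat_lit 0, nat_lit 2, nat_lit 0, nat_lit 1, nat_lit 2, nat_lit 1, nat_lit 0, nat_lit 2, nat_lit 0, nat_lit 1, nat_lit 2, nat_lit 1, nat_lit 0, nat_lit 2, nat_lit 0, nat_lit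 1, nat_lit 3, nat_lit 2]
def Wt_51_54 (j : ℕ) : List ℕ := bif Nat.blt j 52 then [nat_lit 0, nat_lit 0, nat_lit 63] else (Wt_52_54 j)
def Wt_55_57 (j : ℕ) : List ℕ := bif Nat.blt j 56 then [nat_lit 63, nat_lit 3, nat_lit 0, nat_lit 1, nat_lit 3, nat_lit 2, nat_lit 3, nat_lit 1, nat_lit 2, nat_lit 0, nat_lit 1, nat_lit 2, nat_lit 1, nat_lit 0, nat_lit 1, nat_lit 2, nat_lit 3, nat_lit 0, nat_lit 3, nat_lit 0, nat_lit 3, nat_lit 0] else [nat_lit 63, nat_lit 0, nat_lit 3, nat_lit 2, nat_lit 1, nat_lit 0, nat_lit 1, nat_lit 2, nat_lit 1, nat_lit 0, nat_lit 2, nat_lit 1, nat_lit 3, nat_lit 2, nat_lit 3, nat_lit 1, nat_lit 0, nat_lit 3, nat_lit 0, nat_lit 3, nat_lit 0, nat_lit 3]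
def Wt_54_57 (j : ℕ) : List ℕ := bif Nat.blt j 55 then [nat_lit 63, nat_lit 2, nat_lit 63, nat_lit 2, nat_lit 63] else (Wt_55_57 j)
def Wt_51_57 (j : ℕ) : List ℕ := bif Nat.blt j 54 then (Wt_51_54 j) else (Wt_54_57 j)
def Wt_46_57 (j : ℕ) : List ℕ := bif Nat.blt j 51 then (Wt_46_51 j) else (Wt_51_57 j)
def Wt_58_60 (j : ℕ) : List ℕ := bif Nat.blt j 59 then [nat_lit 63, nat_lit 0, nat_lit 3, nat_lit 0, nat_lit 3, nat_lit 0, nat_lit 2, nat_lit 1, nat_lit 0, nat_lit 1, nat_lit 2, nat_lit 1, nat_lit 0, nat_lit 1, nat_lit 2, nat_lit 3, nat_lit 0, nat_lit 2, nat_lit 3, nat_lit 2] else [nat_lit 63, nat_lit 0, nat_lit 3, nat_lit 2, nat_lit 1, nat_lit 0, nat_lit 1, nat_lit 2, nat_lit 1, nat_lit 0, nat_lit 1, nat_lit 2, nat_lit 0, nat_lit 3, nat_lit 0, nat_lit 3, nat_lit 0, nat_lit 2, nat_lit 3, nat_lit 2]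
def Wt_57_60 (j : ℕ) : List ℕ := bif Nat.blt j 58 then [nat_lit 63, nat_lit 0, nat_lit 3, nat_lit 0, nat_lit 3, nat_lit 0, nat_lit 2, nat_lit 1, nat_lit 0, nat_lit 3, nat_lit 2, nat_lit 3, nat_lit 1, nat_lit 2, nat_lit 0, nat_lit 1, nat_lit 2, nat_lit 3, nat_lit 0, nat_lit 2, nat_lit 3, nat_lit 2] else (Wt_58_60 j)
def Wt_61_63 (j : ℕ) : List ℕ := bif Nat.blt j 62 then [nat_lit 63, nat_lit 2, nat_lit 1, nat_lit 0, nat_lit 1, nat_lit 2, nat_lit 1, nat_lit 0, nat_lit 1, nat_lit 2, nat_lit 3, nat_lit 0, nat_lit 3, nat_lit 0, nat_lit 3, nat_lit 0, nat_lit 2, nat_lit 3, nat_lit 2, nat_lit 0] else [nat_lit 63, nat_lit 3, nat_lit 0, nat_lit 3, nat_lit 0, nat_lit 3, nat_lit 2, nat_lit 1, nat_lit 0, nat_lit 1, nat_lit 2, nat_lit 1, nat_lit 0, nat_lit 1, nat_lit 2, nat_lit 0, nat_lit 2, nat_lit 3, nat_lit 2, nat_lit 0]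
def Wt_60_63 (j : ℕ) : List ℕ := bif Nat.blt j 61 then [nat_lit 63, nat_lit 0, nat_lit 2, nat_lit 1, nat_lit 0, nat_lit 1, nat_lit 2, nat_lit 1, nat_lit 0, nat_lit 1, nat_lit 2, nat_lit 3, nat_lit 0, nat_lit 3, nat_lit 0, nat_lit 3, nat_lit 0, nat_lit 2, nat_lit 3, nat_lit 2] else (Wt_61_63 j)
def Wt_57_63 (j : ℕ) : List ℕ := bif Nat.blt j 60 then (Wt_57_60 j) else (Wt_60_63 j)
def Wt_64_66 (j : ℕ) : List ℕ := bif Nat.blt j 65 then [nat_lit 0, nat_lit 1, nat_lit 2, nat_lit 3, nat_lit 0, nat_lit 2, nat_lit 3, nat_lit 2, nat_lit 0, nat_lit 3, nat_lit 0, nat_lit 3, nat_lit 0, nat_lit 2, nat_lit 1, nat_lit 0, nat_lit 1, nat_lit 2, nat_lit 1] else [nat_lit 63, nat_lit 3, nat_lit 1, nat_lit 0, nat_lit 1, nat_lit 2, nat_lit 3, nat_lit 0, nat_lit 3, nat_lit 0, nat_lit 3, nat_lit 0, nat_lit 3, nat_lit 0, nat_lit 2, nat_lit 1, nat_lit 0, nat_lit 1, nat_lit 3, nat_lit 2]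
def Wt_63_66 (j : ℕ) : List ℕ := bif Nat.blt j 64 then [nat_lit 63, nat_lit 2, nat_lit 0, nat_lit 3, nat_lit 0, nat_lit 3, nat_lit 0, nat_lit 3, nat_lit 2, nat_lit 1, nat_lit 0, nat_lit 1, nat_lit 2, nat_lit 1, nat_lit 0, nat_lit 1, nat_lit 2, nat_lit 0, nat_lit 2, nat_lit 3] else (Wt_64_66 j)
def Wt_67_69 (j : ℕ) : List ℕ := bif Nat.blt j 68 then [nat_lit 3, nat_lit 1, nat_lit 3, nat_lit 0, nat_lit 3, nat_lit 1, nat_lit 3, nat_lit 0, nat_lit 2, nat_lit 3, nat_lit 1, nat_lit 3, nat_lit 2, nat_lit 3, nat_lit 1, nat_lit 3, nat_lit 2, nat_lit 0] else [nat_lit 63, nat_lit 1, nat_lit 0, nat_lit 1, nat_lit 2, nat_lit 3, nat_lit 0, nat_lit 2, nat_lit 3, nat_lit 2, nat_lit 0, nat_lit 3, nat_lit 0, nat_lit 3, nat_lit 0, nat_lit 2, nat_lit 1, nat_lit 0, nat_lit 1, nat_lit 2]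
def Wt_66_69 (j : ℕ) : List ℕ := bif Nat.blt j 67 then [nat_lit 63, nat_lit 1, nat_lit 2, nat_lit 0, nat_lit 1, nat_lit 2, nat_lit 1, nat_lit 0, nat_lit 1, nat_lit 2, nat_lit 3, nat_lit 0, nat_lit 3, nat_lit 0, nat_lit 3, nat_lit 0, nat_lit 3, nat_lit 0, nat_lit 1, nat_lit 3, nat_lit 2, nat_lit 3] else (Wt_67_69 j)
def Wt_63_69 (j : ℕ) : List ℕ := bif Nat.blt j 66 then (Wt_63_66 j) else (Wt_66_69 j)
def Wt_57_69 (j : ℕ) : List ℕ := bif Nat.blt j 63 then (Wt_57_63 j) else (Wt_63_69 j)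
def Wt_46_69 (j : ℕ) : List ℕ := bif Nat.blt j 57 then (Wt_46_57 j) else (Wt_57_69 j)
def Wt_69_71 (j : ℕ) : List ℕ := bif Nat.blt j 70 then [nat_lit 0, nat_lit 1, nat_lit 2, nat_lit 1, nat_lit 0, nat_lit 1, nat_lit 2, nat_lit 0, nat_lit 3, nat_lit 0, nat_lit 3, nat_lit 0, nat_lit 2, nat_lit 3, nat_lit 2, nat_lit 0, nat_lit 3, nat_lit 2, nat_lit 1] else [nat_lit 63, nat_lit 2, nat_lit 3, nat_lit 1, nat_lit 0, nat_lit 1, nat_lit 2, nat_lit 3, nat_lit 0, nat_lit 3, nat_lit 0, nat_lit 3, nat_lit 0, nat_lit 3, nat_lit 0, nat_lit 2, nat_lit 1, nat_lit 0, nat_lit 1, nat_lit 3]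
def Wt_72_74 (j : ℕ) : List ℕ := bif Nat.blt j 73 then [nat_lit 63, nat_lit 3, nat_lit 2, nat_lit 3, nat_lit 1, nat_lit 0, nat_lit 3, nat_lit 0, nat_lit 3, nat_lit 0, nat_lit 3, nat_lit 0, nat_lit 3, nat_lit 2, nat_lit 1, nat_lit 0, nat_lit 1, nat_lit 2, nat_lit 1, nat_lit 0, nat_lit 2, nat_lit 1] else [nat_lit 63, nat_lit 2, nat_lit 1, nat_lit 0, nat_lit 1, nat_lit 2, nat_lit 0, nat_lit 2, nat_lit 3, nat_lit 2, nat_lit 0, nat_lit 3, nat_lit 0, nat_lit 3, nat_lit 0, nat_lit 3, nat_lit 2, nat_lit 1, nat_lit 0, nat_lit 1]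
def Wt_71_74 (j : ℕ) : List ℕ := bif Nat.blt j 72 then [nat_lit 63, nat_lit 2, nat_lit 0, nat_lit 1, nat_lit 2, nat_lit 1, nat_lit 0, nat_lit 1, nat_lit 2, nat_lit 3, nat_lit 0, nat_lit 3, nat_lit 0, nat_lit 3, nat_lit 0, nat_lit 3, nat_lit 0, nat_lit 1, nat_lit 3, nat_lit 2, nat_lit 3, nat_lit 1] else (Wt_72_74 j)
def Wt_69_74 (j : ℕ) : List ℕ := bif Nat.blt j 71 then (Wt_69_71 j) else (Wt_71_74 j)
def Wt_75_77 (j : ℕ) : List ℕ := bif Nat.blt j 76 then [nat_lit 63, nat_lit 2, nat_lit 0, nat_lit 3, nat_lit 0, nat_lit 3, nat_lit 0, nat_lit 2, nat_lit 1, nat_lit 0, nat_lit 1, nat_lit 2, nat_lit 1, nat_lit 0, nat_lit 1, nat_lit 2, nat_lit 3, nat_lit 0, nat_lit 2, nat_lit 3] else [nat_lit 63, nat_lit 2, nat_lit 0, nat_lit 3, nat_lit 2, nat_lit 1, nat_lit 0, nat_lit 1, nat_lit 2, nat_lit 1, nat_lit 0, nat_lit 1, nat_lit 2, nat_lit 0, nat_lit 3, nat_lit 0, nat_lit 3, nat_lit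 0, nat_lit 2, nat_lit 3]
def Wt_74_77 (j : ℕ) : List ℕ := bif Nat.blt j 75 then [nat_lit 63, nat_lit 2, nat_lit 3, nat_lit 1, nat_lit 0, nat_lit 3, nat_lit 0, nat_lit 3, nat_lit 0, nat_lit 3, nat_lit 0, nat_lit 3, nat_lit 2, nat_lit 1, nat_lit 0, nat_lit 1, nat_lit 2, nat_lit 1, nat_lit 0, nat_lit 2, nat_lit 1, nat_lit 3] else (Wt_75_77 j)
def Wt_78_80 (j : ℕ) : List ℕ := bif Nat.blt j 79 then [nat_lit 63, nat_lit 1, nat_lit 0, nat_lit 2, nat_lit 0, nat_lit 1, nat_lit 0, nat_lit 2, nat_lit 1, nat_lit 0, nat_lit 2, nat_lit 1, nat_lit 0, nat_lit 2, nat_lit 1, nat_lit 2, nat_lit 0, nat_lit 2, nat_lit 0, nat_lit 1, nat_lit 2, nat_lit 0, nat_lit 2, nat_lit 0] else [nat_lit 2, nat_lit 1, nat_lit 2, nat_lit 0, nat_lit 2, nat_lit 0, nat_lit 1, nat_lit 2, nat_lit 0, nat_lit 2, nat_lit 0, nat_lit 1, nat_lit 0, nat_lit 2, nat_lit 0, nat_lit 1, nat_lit 0, nat_lit 2, nat_lit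 1, nat_lit 0, nat_lit 2, nat_lit 1, nat_lit 0]
def Wt_77_80 (j : ℕ) : List ℕ := bif Nat.blt j 78 then [nat_lit 63, nat_lit 3, nat_lit 0, nat_lit 3, nat_lit 2, nat_lit 1, nat_lit 0, nat_lit 1, nat_lit 2, nat_lit 1, nat_lit 0, nat_lit 1, nat_lit 2, nat_lit 0, nat_lit 2, nat_lit 3, nat_lit 2, nat_lit 0, nat_lit 3, nat_lit 0] else (Wt_78_80 j)
def Wt_74_80 (j : ℕ) : List ℕ := bif Nat.blt j 77 then (Wt_74_77 j) else (Wt_77_80 j)
def Wt_69_80 (j : ℕ) : List ℕ := bif Nat.blt j 74 then (Wt_69_74 j) else (Wt_74_80 j)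
def Wt_81_83 (j : ℕ) : List ℕ := bif Nat.blt j 82 then [nat_lit 63, nat_lit 2, nat_lit 0, nat_lit 2, nat_lit 1, nat_lit 0, nat_lit 2, nat_lit 0, nat_lit 2, nat_lit 0, nat_lit 1, nat_lit 2, nat_lit 0, nat_lit 1, nat_lit 2, nat_lit 0, nat_lit 1, nat_lit 0, nat_lit 1, nat_lit 0, nat_lit 1, nat_lit 0, nat_lit 2, nat_lit 1] else [nat_lit 63, nat_lit 0, nat_lit 2, nat_lit 1, nat_lit 2, nat_lit 0, nat_lit 2, nat_lit 0, nat_lit 1, nat_lit 2, nat_lit 1, nat_lit 0, nat_lit 3, nat_lit 2, nat_lit 3, nat_lit 0, nat_lit 1, nat_lit 2, nat_lit 1, nat_lit 0, nat_lit 2]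
def Wt_80_83 (j : ℕ) : List ℕ := bif Nat.blt j 81 then [nat_lit 63, nat_lit 2, nat_lit 0, nat_lit 2, nat_lit 0, nat_lit 1, nat_lit 2, nat_lit 0, nat_lit 2, nat_lit 1, nat_lit 2, nat_lit 0, nat_lit 1, nat_lit 0, nat_lit 1, nat_lit 0, nat_lit 1, nat_lit 0, nat_lit 2, nat_lit 1, nat_lit 0, nat_lit 2, nat_lit 1, nat_lit 0] else (Wt_81_83 j)
def Wt_84_86 (j : ℕ) : List ℕ := bif Nat.blt j 85 then [nat_lit 63, nat_lit 2, nat_lit 0, nat_lit 2, nat_lit 0, nat_lit 1, nat_lit 2, nat_lit 1, nat_lit 0, nat_lit 3, nat_lit 2, nat_lit 3, nat_lit 0, nat_lit 1, nat_lit 2, nat_lit 1, nat_lit 0, nat_lit 2, nat_lit 0, nat_lit 2, nat_lit 1] else [nat_lit 63, nat_lit 1, nat_lit 0, nat_lit 2, nat_lit 0, nat_lit 1, nat_lit 2, nat_lit 1, nat_lit 0, nat_lit 2, nat_lit 0, nat_lit 1, nat_lit 2, nat_lit 1, nat_lit 0, nat_lit 2, nat_lit 0, nat_lit 1, nat_lit 3, nat_lit 2, nat_lit 3]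
def Wt_83_86 (j : ℕ) : List ℕ := bif Nat.blt j 84 then [nat_lit 1, nat_lit 2, nat_lit 1, nat_lit 0, nat_lit 2, nat_lit 0, nat_lit 1, nat_lit 3, nat_lit 2, nat_lit 3, nat_lit 1, nat_lit 0, nat_lit 2, nat_lit 0, nat_lit 1, nat_lit 2, nat_lit 1, nat_lit 0, nat_lit 2, nat_lit 0] else (Wt_84_86 j)
def Wt_80_86 (j : ℕ) : List ℕ := bif Nat.blt j 83 then (Wt_80_83 j) else (Wt_83_86 j)
def Wt_87_89 (j : ℕ) : List ℕ := bif Nat.blt j 88 then [nat_lit 63, nat_lit 1, nat_lit 0, nat_lit 2, nat_lit 0, nat_lit 2, nat_lit 1, nat_lit 2, nat_lit 0, nat_lit 1, nat_lit 2, nat_lit 0, nat_lit 1, nat_lit 2, nat_lit 0, nat_lit 1, nat_lit 0, nat_lit 2, nat_lit 0, nat_lit 1, nat_lit 0, nat_lit 2, nat_lit 0, nat_lit 2] else [nat_lit 3, nat_lit 0, nat_lit 2, nat_lit 3, nat_lit 2, nat_lit 0, nat_lit 3, nat_lit 2, nat_lit 1, nat_lit 0, nat_lit 1, nat_lit 2, nat_lit 1, nat_lit 0, nat_lit 1, nat_lit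 2, nat_lit 0, nat_lit 3, nat_lit 0]
def Wt_86_89 (j : ℕ) : List ℕ := bif Nat.blt j 87 then [nat_lit 63, nat_lit 0, nat_lit 1, nat_lit 2, nat_lit 0, nat_lit 2, nat_lit 1, nat_lit 2, nat_lit 0, nat_lit 1, nat_lit 0, nat_lit 1, nat_lit 0, nat_lit 1, nat_lit 0, nat_lit 2, nat_lit 1, nat_lit 0, nat_lit 2, nat_lit 1, nat_lit 0, nat_lit 2, nat_lit 0, nat_lit 2] else (Wt_87_89 j)
def Wt_90_92 (j : ℕ) : List ℕ := bif Nat.blt j 91 then [nat_lit 63, nat_lit 0, nat_lit 1, nat_lit 2, nat_lit 0, nat_lit 3, nat_lit 0, nat_lit 3, nat_lit 0, nat_lit 2, nat_lit 3, nat_lit 2, nat_lit 0, nat_lit 3, nat_lit 2, nat_lit 1, nat_lit 0, nat_lit 2, nat_lit 1, nat_lit 3, nat_lit 2, nat_lit 3] else [nat_lit 63, nat_lit 0, nat_lit 3, nat_lit 0, nat_lit 3, nat_lit 2, nat_lit 1, nat_lit 0, nat_lit 1, nat_lit 2, nat_lit 1, nat_lit 0, nat_lit 1, nat_lit 2, nat_lit 0, nat_lit 2, nat_lit 3, nat_lit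 2, nat_lit 0, nat_lit 3]
def Wt_89_92 (j : ℕ) : List ℕ := bif Nat.blt j 90 then [nat_lit 0, nat_lit 3, nat_lit 0, nat_lit 3, nat_lit 0, nat_lit 3, nat_lit 0, nat_lit 1, nat_lit 3, nat_lit 2, nat_lit 3, nat_lit 1, nat_lit 2, nat_lit 0, nat_lit 1, nat_lit 2, nat_lit 1, nat_lit 0, nat_lit 1, nat_lit 2, nat_lit 3] else (Wt_90_92 j)
def Wt_86_92 (j : ℕ) : List ℕ := bif Nat.blt j 89 then (Wt_86_89 j) else (Wt_89_92 j)
def Wt_80_92 (j : ℕ) : List ℕ := bif Nat.blt j 86 then (Wt_80_86 j) else (Wt_86_92 j)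
def Wt_69_92 (j : ℕ) : List ℕ := bif Nat.blt j 80 then (Wt_69_80 j) else (Wt_80_92 j)
def Wt_46_92 (j : ℕ) : List ℕ := bif Nat.blt j 69 then (Wt_46_69 j) else (Wt_69_92 j)
def Wt_0_92 (j : ℕ) : List ℕ := bif Nat.blt j 46 then (Wt_0_46 j) else (Wt_46_92 j)
def Wt_92_94 (j : ℕ) : List ℕ := bif Nat.blt j 93 then [nat_lit 63, nat_lit 1, nat_lit 0, nat_lit 1, nat_lit 2, nat_lit 0, nat_lit 3, nat_lit 0, nat_lit 3, nat_lit 0, nat_lit 3, nat_lit 0, nat_lit 3, nat_lit 2, nat_lit 1, nat_lit 0, nat_lit 1, nat_lit 3, nat_lit 2, nat_lit 3] else [nat_lit 2, nat_lit 0, nat_lit 2, nat_lit 1, nat_lit 2, nat_lit 0, nat_lit 1, nat_lit 2, nat_lit 0, nat_lit 1, nat_lit 2, nat_lit 0, nat_lit 1, nat_lit 0, nat_lit 2, nat_lit 0, nat_lit 1, nat_lit 0, nat_lit 2, nat_lit 0, nat_lit 2, nat_lit 1, nat_lit 0]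
def Wt_95_97 (j : ℕ) : List ℕ := bif Nat.blt j 96 then [nat_lit 2, nat_lit 3, nat_lit 1, nat_lit 2, nat_lit 0, nat_lit 1, nat_lit 2, nat_lit 3, nat_lit 0, nat_lit 2, nat_lit 3, nat_lit 2, nat_lit 0, nat_lit 3, nat_lit 0, nat_lit 3, nat_lit 0, nat_lit 2, nat_lit 1, nat_lit 0, nat_lit 3] else [nat_lit 63, nat_lit 3, nat_lit 0, nat_lit 1, nat_lit 2, nat_lit 1, nat_lit 0, nat_lit 2, nat_lit 0, nat_lit 2, nat_lit 1, nat_lit 2, nat_lit 0, nat_lit 2, nat_lit 0, nat_lit 1, nat_lit 2, nat_lit 1, nat_lit 0, nat_lit 3, nat_lit 2]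
def Wt_94_97 (j : ℕ) : List ℕ := bif Nat.blt j 95 then [nat_lit 63, nat_lit 2, nat_lit 0, nat_lit 1, nat_lit 0, nat_lit 2, nat_lit 1, nat_lit 2, nat_lit 0, nat_lit 1, nat_lit 2, nat_lit 0, nat_lit 1, nat_lit 0, nat_lit 2, nat_lit 1, nat_lit 0, nat_lit 2, nat_lit 1, nat_lit 0, nat_lit 2, nat_lit 0, nat_lit 2, nat_lit 0] else (Wt_95_97 j)
def Wt_92_97 (j : ℕ) : List ℕ := bif Nat.blt j 94 then (Wt_92_94 j) else (Wt_94_97 j)
def Wt_98_100 (j : ℕ) : List ℕ := bif Nat.blt j 99 then [nat_lit 1, nat_lit 0, nat_lit 1, nat_lit 2, nat_lit 0, nat_lit 3, nat_lit 0, nat_lit 3, nat_lit 0, nat_lit 2, nat_lit 3, nat_lit 2, nat_lit 0, nat_lit 3, nat_lit 2, nat_lit 1, nat_lit 0, nat_lit 1, nat_lit 2] else [nat_lit 63, nat_lit 1, nat_lit 2, nat_lit 0, nat_lit 1, nat_lit 2, nat_lit 3, nat_lit 0, nat_lit 2, nat_lit 3, nat_lit 2, nat_lit 0, nat_lit 3, nat_lit 0, nat_lit 3, nat_lit 0, nat_lit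 2, nat_lit 1, nat_lit 0, nat_lit 3, nat_lit 2, nat_lit 3]
def Wt_97_100 (j : ℕ) : List ℕ := bif Nat.blt j 98 then [nat_lit 63, nat_lit 2, nat_lit 1, nat_lit 0, nat_lit 2, nat_lit 0, nat_lit 1, nat_lit 3, nat_lit 2, nat_lit 3, nat_lit 1, nat_lit 0, nat_lit 2, nat_lit 0, nat_lit 1, nat_lit 2, nat_lit 1, nat_lit 0, nat_lit 2, nat_lit 0, nat_lit 1] else (Wt_98_100 j)
def Wt_101_103 (j : ℕ) : List ℕ := bif Nat.blt j 102 then [nat_lit 63, nat_lit 3, nat_lit 0, nat_lit 3, nat_lit 0, nat_lit 2, nat_lit 1, nat_lit 0, nat_lit 1, nat_lit 3, nat_lit 2, nat_lit 3, nat_lit 1, nat_lit 0, nat_lit 1, nat_lit 2, nat_lit 3, nat_lit 0, nat_lit 3, nat_lit 0] else [nat_lit 63, nat_lit 3, nat_lit 2, nat_lit 0, nat_lit 3, nat_lit 0, nat_lit 3, nat_lit 0, nat_lit 2, nat_lit 1, nat_lit 0, nat_lit 1, nat_lit 2, nat_lit 1, nat_lit 0, nat_lit 1, nat_lit 2, nat_lit 3, nat_lit 0, nat_lit 2]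
def Wt_100_103 (j : ℕ) : List ℕ := bif Nat.blt j 101 then [nat_lit 63, nat_lit 2, nat_lit 3, nat_lit 1, nat_lit 0, nat_lit 1, nat_lit 2, nat_lit 0, nat_lit 3, nat_lit 0, nat_lit 3, nat_lit 0, nat_lit 3, nat_lit 0, nat_lit 3, nat_lit 2, nat_lit 1, nat_lit 0, nat_lit 1, nat_lit 3] else (Wt_101_103 j)
def Wt_97_103 (j : ℕ) : List ℕ := bif Nat.blt j 100 then (Wt_97_100 j) else (Wt_100_103 j)
def Wt_92_103 (j : ℕ) : List ℕ := bif Nat.blt j 97 then (Wt_92_97 j) else (Wt_97_103 j)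
def Wt_104_106 (j : ℕ) : List ℕ := bif Nat.blt j 105 then [nat_lit 63, nat_lit 2, nat_lit 3, nat_lit 0, nat_lit 1, nat_lit 2, nat_lit 0, nat_lit 3, nat_lit 0, nat_lit 3, nat_lit 0, nat_lit 2, nat_lit 3, nat_lit 2, nat_lit 0, nat_lit 3, nat_lit 2, nat_lit 1, nat_lit 0, nat_lit 2, nat_lit 1, nat_lit 3] else [nat_lit 63, nat_lit 0, nat_lit 1, nat_lit 2, nat_lit 3, nat_lit 0, nat_lit 2, nat_lit 3, nat_lit 2, nat_lit 0, nat_lit 3, nat_lit 0, nat_lit 3, nat_lit 0, nat_lit 2, nat_lit 1, nat_lit 0, nat_lit 1, nat_lit 2, nat_lit 1]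
def Wt_103_106 (j : ℕ) : List ℕ := bif Nat.blt j 104 then [nat_lit 1, nat_lit 0, nat_lit 2, nat_lit 0, nat_lit 1, nat_lit 2, nat_lit 1, nat_lit 0, nat_lit 2, nat_lit 0, nat_lit 1, nat_lit 3, nat_lit 2, nat_lit 3, nat_lit 1, nat_lit 0, nat_lit 2, nat_lit 0, nat_lit 1, nat_lit 2] else (Wt_104_106 j)
def Wt_107_109 (j : ℕ) : List ℕ := bif Nat.blt j 108 then [nat_lit 63, nat_lit 3, nat_lit 2, nat_lit 3, nat_lit 0, nat_lit 1, nat_lit 2, nat_lit 0, nat_lit 3, nat_lit 0, nat_lit 3, nat_lit 0, nat_lit 2, nat_lit 3, nat_lit 2, nat_lit 0, nat_lit 3, nat_lit 2, nat_lit 1, nat_lit 0, nat_lit 2, nat_lit 1] else [nat_lit 63, nat_lit 3, nat_lit 1, nat_lit 2, nat_lit 0, nat_lit 1, nat_lit 2, nat_lit 3, nat_lit 0, nat_lit 2, nat_lit 3, nat_lit 2, nat_lit 0, nat_lit 3, nat_lit 0, nat_lit 3, nat_lit 0, nat_lit 2, nat_lit 1, nat_lit 0, nat_lit 3, nat_lit 2]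
def Wt_106_109 (j : ℕ) : List ℕ := bif Nat.blt j 107 then [nat_lit 63, nat_lit 0, nat_lit 3, nat_lit 1, nat_lit 3, nat_lit 0, nat_lit 2, nat_lit 3, nat_lit 1, nat_lit 3, nat_lit 2, nat_lit 3, nat_lit 1, nat_lit 3, nat_lit 2, nat_lit 0, nat_lit 3, nat_lit 1, nat_lit 3] else (Wt_107_109 j)
def Wt_103_109 (j : ℕ) : List ℕ := bif Nat.blt j 106 then (Wt_103_106 j) else (Wt_106_109 j)
def Wt_110_112 (j : ℕ) : List ℕ := bif Nat.blt j 111 then [nat_lit 63, nat_lit 0, nat_lit 1, nat_lit 2, nat_lit 3, nat_lit 0, nat_lit 3, nat_lit 0, nat_lit 3, nat_lit 0, nat_lit 2, nat_lit 3, nat_lit 2, nat_lit 0, nat_lit 2, nat_lit 1, nat_lit 0, nat_lit 1, nat_lit 2, nat_lit 1] else [nat_lit 63, nat_lit 3, nat_lit 0, nat_lit 3, nat_lit 0, nat_lit 2, nat_lit 1, nat_lit 0, nat_lit 1, nat_lit 2, nat_lit 1, nat_lit 0, nat_lit 1, nat_lit 2, nat_lit 3, nat_lit 0, nat_lit 2, nat_lit 3, nat_lit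 2, nat_lit 0]
def Wt_109_112 (j : ℕ) : List ℕ := bif Nat.blt j 110 then [nat_lit 63, nat_lit 3, nat_lit 1, nat_lit 3, nat_lit 0, nat_lit 2, nat_lit 3, nat_lit 1, nat_lit 3, nat_lit 2, nat_lit 3, nat_lit 1, nat_lit 3, nat_lit 2, nat_lit 0, nat_lit 3, nat_lit 1, nat_lit 3, nat_lit 0] else (Wt_110_112 j)
def Wt_113_115 (j : ℕ) : List ℕ := bif Nat.blt j 114 then [nat_lit 1, nat_lit 0, nat_lit 2, nat_lit 0, nat_lit 1, nat_lit 0, nat_lit 2, nat_lit 1, nat_lit 0, nat_lit 2, nat_lit 1, nat_lit 0, nat_lit 2, nat_lit 1, nat_lit 2, nat_lit 0, nat_lit 2, nat_lit 0, nat_lit 1, nat_lit 2, nat_lit 0, nat_lit 2, nat_lit 0] else [nat_lit 3, nat_lit 0, nat_lit 3, nat_lit 0, nat_lit 2, nat_lit 3, nat_lit 2, nat_lit 0, nat_lit 2, nat_lit 1, nat_lit 0, nat_lit 1, nat_lit 2, nat_lit 1, nat_lit 0, nat_lit 1, nat_lit 2, nat_lit 3, nat_lit 0]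
def Wt_112_115 (j : ℕ) : List ℕ := bif Nat.blt j 113 then [nat_lit 63, nat_lit 3, nat_lit 1, nat_lit 0, nat_lit 3, nat_lit 0, nat_lit 3, nat_lit 0, nat_lit 3, nat_lit 0, nat_lit 3, nat_lit 2, nat_lit 1, nat_lit 0, nat_lit 1, nat_lit 2, nat_lit 1, nat_lit 0, nat_lit 2, nat_lit 1, nat_lit 3, nat_lit 2] else (Wt_113_115 j)
def Wt_109_115 (j : ℕ) : List ℕ := bif Nat.blt j 112 then (Wt_109_112 j) else (Wt_112_115 j)
def Wt_103_115 (j : ℕ) : List ℕ := bif Nat.blt j 109 then (Wt_103_109 j) else (Wt_109_115 j)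
def Wt_92_115 (j : ℕ) : List ℕ := bif Nat.blt j 103 then (Wt_92_103 j) else (Wt_103_115 j)
def Wt_115_117 (j : ℕ) : List ℕ := bif Nat.blt j 116 then [nat_lit 0, nat_lit 1, nat_lit 2, nat_lit 0, nat_lit 2, nat_lit 3, nat_lit 2, nat_lit 0, nat_lit 3, nat_lit 0, nat_lit 3, nat_lit 0, nat_lit 3, nat_lit 2, nat_lit 1, nat_lit 0, nat_lit 1, nat_lit 2, nat_lit 1] else [nat_lit 1, nat_lit 3, nat_lit 2, nat_lit 3, nat_lit 0, nat_lit 1, nat_lit 2, nat_lit 0, nat_lit 3, nat_lit 0, nat_lit 3, nat_lit 0, nat_lit 2, nat_lit 3, nat_lit 2, nat_lit 0, nat_lit 3, nat_lit 2, nat_lit 1, nat_lit 0, nat_lit 2]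
def Wt_118_120 (j : ℕ) : List ℕ := bif Nat.blt j 119 then [nat_lit 2, nat_lit 0, nat_lit 2, nat_lit 0, nat_lit 1, nat_lit 0, nat_lit 2, nat_lit 1, nat_lit 2, nat_lit 0, nat_lit 1, nat_lit 2, nat_lit 0, nat_lit 1, nat_lit 0, nat_lit 2, nat_lit 1, nat_lit 0, nat_lit 2, nat_lit 1, nat_lit 0, nat_lit 2, nat_lit 0] else [nat_lit 1, nat_lit 0, nat_lit 1, nat_lit 2, nat_lit 1, nat_lit 0, nat_lit 1, nat_lit 2, nat_lit 3, nat_lit 0, nat_lit 2, nat_lit 3, nat_lit 2, nat_lit 0, nat_lit 3, nat_lit 0, nat_lit 3, nat_lit 0, nat_lit 2]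
def Wt_117_120 (j : ℕ) : List ℕ := bif Nat.blt j 118 then [nat_lit 0, nat_lit 3, nat_lit 0, nat_lit 1, nat_lit 0, nat_lit 1, nat_lit 2, nat_lit 3, nat_lit 0, nat_lit 3, nat_lit 0, nat_lit 1, nat_lit 0, nat_lit 3, nat_lit 1, nat_lit 2, nat_lit 0, nat_lit 1, nat_lit 3, nat_lit 1, nat_lit 2, nat_lit 1] else (Wt_118_120 j)
def Wt_115_120 (j : ℕ) : List ℕ := bif Nat.blt j 117 then (Wt_115_117 j) else (Wt_117_120 j)
def Wt_121_123 (j : ℕ) : List ℕ := bif Nat.blt j 122 then [nat_lit 3, nat_lit 0, nat_lit 3, nat_lit 0, nat_lit 3, nat_lit 2, nat_lit 1, nat_lit 0, nat_lit 1, nat_lit 3, nat_lit 2, nat_lit 3, nat_lit 1, nat_lit 0, nat_lit 1, nat_lit 2, nat_lit 0, nat_lit 3, nat_lit 0] else [nat_lit 2, nat_lit 3, nat_lit 2, nat_lit 0, nat_lit 2, nat_lit 1, nat_lit 0, nat_lit 1, nat_lit 2, nat_lit 1, nat_lit 0, nat_lit 1, nat_lit 2, nat_lit 3, nat_lit 0, nat_lit 3, nat_lit 0,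 nat_lit 3, nat_lit 0]
def Wt_120_123 (j : ℕ) : List ℕ := bif Nat.blt j 121 then [nat_lit 0, nat_lit 1, nat_lit 3, nat_lit 1, nat_lit 2, nat_lit 1, nat_lit 0, nat_lit 3, nat_lit 0, nat_lit 1, nat_lit 0, nat_lit 1, nat_lit 2, nat_lit 3, nat_lit 0, nat_lit 3, nat_lit 0, nat_lit 1, nat_lit 0, nat_lit 3, nat_lit 1, nat_lit 2] else (Wt_121_123 j)
def Wt_124_126 (j : ℕ) : List ℕ := bif Nat.blt j 125 then [nat_lit 2, nat_lit 3, nat_lit 1, nat_lit 0, nat_lit 2, nat_lit 0, nat_lit 1, nat_lit 2, nat_lit 1, nat_lit 0, nat_lit 2, nat_lit 0, nat_lit 1, nat_lit 2, nat_lit 1, nat_lit 0, nat_lit 2, nat_lit 0, nat_lit 1, nat_lit 3] else [nat_lit 63, nat_lit 3, nat_lit 2, nat_lit 0, nat_lit 3, nat_lit 2, nat_lit 1, nat_lit 0, nat_lit 1, nat_lit 2, nat_lit 1, nat_lit 0, nat_lit 1, nat_lit 2, nat_lit 0, nat_lit 3, nat_lit 0, nat_lit 3, nat_lit 0, nat_lit 2]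
def Wt_123_126 (j : ℕ) : List ℕ := bif Nat.blt j 124 then [nat_lit 2, nat_lit 1, nat_lit 2, nat_lit 0, nat_lit 2, nat_lit 0, nat_lit 1, nat_lit 2, nat_lit 1, nat_lit 0, nat_lit 3, nat_lit 2, nat_lit 3, nat_lit 0, nat_lit 1, nat_lit 2, nat_lit 1, nat_lit 0, nat_lit 2, nat_lit 0] else (Wt_124_126 j)
def Wt_120_126 (j : ℕ) : List ℕ := bif Nat.blt j 123 then (Wt_120_123 j) else (Wt_123_126 j)
def Wt_115_126 (j : ℕ) : List ℕ := bif Nat.blt j 120 then (Wt_115_120 j) else (Wt_120_126 j)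
def Wt_127_129 (j : ℕ) : List ℕ := bif Nat.blt j 128 then [nat_lit 63, nat_lit 1, nat_lit 0, nat_lit 1, nat_lit 2, nat_lit 3, nat_lit 0, nat_lit 3, nat_lit 0, nat_lit 3, nat_lit 0, nat_lit 3, nat_lit 0, nat_lit 2, nat_lit 1, nat_lit 0, nat_lit 1, nat_lit 3, nat_lit 2, nat_lit 3] else [nat_lit 63, nat_lit 1, nat_lit 2, nat_lit 1, nat_lit 0, nat_lit 1, nat_lit 2, nat_lit 3, nat_lit 0, nat_lit 3, nat_lit 0, nat_lit 3, nat_lit 0, nat_lit 3, nat_lit 0, nat_lit 1, nat_lit 3, nat_lit 2, nat_lit 3, nat_lit 1, nat_lit 2, nat_lit 0]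
def Wt_126_129 (j : ℕ) : List ℕ := bif Nat.blt j 127 then [nat_lit 1, nat_lit 2, nat_lit 3, nat_lit 0, nat_lit 2, nat_lit 3, nat_lit 2, nat_lit 0, nat_lit 3, nat_lit 0, nat_lit 3, nat_lit 0, nat_lit 2, nat_lit 1, nat_lit 0, nat_lit 1, nat_lit 2, nat_lit 1, nat_lit 0] else (Wt_127_129 j)
def Wt_130_132 (j : ℕ) : List ℕ := bif Nat.blt j 131 then [nat_lit 63, nat_lit 2, nat_lit 0, nat_lit 1, nat_lit 2, nat_lit 3, nat_lit 0, nat_lit 2, nat_lit 3, nat_lit 2, nat_lit 0, nat_lit 3, nat_lit 0, nat_lit 3, nat_lit 0, nat_lit 2, nat_lit 1, nat_lit 0, nat_lit 3, nat_lit 2, nat_lit 3, nat_lit 1] else [nat_lit 3, nat_lit 1, nat_lit 0, nat_lit 2, nat_lit 1, nat_lit 3, nat_lit 0, nat_lit 1, nat_lit 0, nat_lit 3, nat_lit 0, nat_lit 3, nat_lit 2, nat_lit 1, nat_lit 0, nat_lit 1, nat_lit 0, nat_lit 3, nat_lit 0, nat_lit 1, nat_lit 2, nat_lit 1]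
def Wt_129_132 (j : ℕ) : List ℕ := bif Nat.blt j 130 then [nat_lit 63, nat_lit 3, nat_lit 0, nat_lit 1, nat_lit 2, nat_lit 0, nat_lit 3, nat_lit 0, nat_lit 3, nat_lit 0, nat_lit 2, nat_lit 3, nat_lit 2, nat_lit 0, nat_lit 3, nat_lit 2, nat_lit 1, nat_lit 0, nat_lit 2, nat_lit 1, nat_lit 3, nat_lit 2] else (Wt_130_132 j)
def Wt_126_132 (j : ℕ) : List ℕ := bif Nat.blt j 129 then (Wt_126_129 j) else (Wt_129_132 j)
def Wt_133_135 (j : ℕ) : List ℕ := bif Nat.blt j 134 then [nat_lit 1, nat_lit 0, nat_lit 1, nat_lit 2, nat_lit 3, nat_lit 0, nat_lit 2, nat_lit 3, nat_lit 2, nat_lit 0, nat_lit 3, nat_lit 0, nat_lit 3, nat_lit 0, nat_lit 2, nat_lit 1, nat_lit 0, nat_lit 1, nat_lit 2] else [nat_lit 3, nat_lit 0, nat_lit 1, nat_lit 2, nat_lit 0, nat_lit 3, nat_lit 0, nat_lit 3, nat_lit 0, nat_lit 2, nat_lit 3, nat_lit 2, nat_lit 0, nat_lit 3, nat_lit 2, nat_lit 1, nat_lit 0,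 nat_lit 2, nat_lit 1, nat_lit 3, nat_lit 2]
def Wt_132_135 (j : ℕ) : List ℕ := bif Nat.blt j 133 then [nat_lit 2, nat_lit 0, nat_lit 1, nat_lit 2, nat_lit 0, nat_lit 1, nat_lit 2, nat_lit 0, nat_lit 1, nat_lit 0, nat_lit 2, nat_lit 1, nat_lit 0, nat_lit 2, nat_lit 1, nat_lit 2, nat_lit 0, nat_lit 1, nat_lit 0, nat_lit 2, nat_lit 0, nat_lit 2, nat_lit 0] else (Wt_133_135 j)
def Wt_136_138 (j : ℕ) : List ℕ := bif Nat.blt j 137 then [nat_lit 63, nat_lit 0, nat_lit 1, nat_lit 2, nat_lit 0, nat_lit 1, nat_lit 0, nat_lit 2, nat_lit 1, nat_lit 0, nat_lit 2, nat_lit 1, nat_lit 0, nat_lit 2, nat_lit 0, nat_lit 2, nat_lit 0, nat_lit 2, nat_lit 0, nat_lit 1, nat_lit 0, nat_lit 2, nat_lit 1, nat_lit 2] else [nat_lit 2, nat_lit 0, nat_lit 1, nat_lit 2, nat_lit 0, nat_lit 1, nat_lit 0, nat_lit 1, nat_lit 0, nat_lit 1, nat_lit 0, nat_lit 2, nat_lit 1, nat_lit 2, nat_lit 0, nat_lit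 2, nat_lit 1, nat_lit 0, nat_lit 2, nat_lit 0, nat_lit 2, nat_lit 0, nat_lit 1]
def Wt_135_138 (j : ℕ) : List ℕ := bif Nat.blt j 136 then [nat_lit 1, nat_lit 0, nat_lit 2, nat_lit 1, nat_lit 2, nat_lit 0, nat_lit 2, nat_lit 0, nat_lit 1, nat_lit 2, nat_lit 0, nat_lit 2, nat_lit 0, nat_lit 1, nat_lit 0, nat_lit 2, nat_lit 0, nat_lit 1, nat_lit 0, nat_lit 2, nat_lit 1, nat_lit 0, nat_lit 2] else (Wt_136_138 j)
def Wt_132_138 (j : ℕ) : List ℕ := bif Nat.blt j 135 then (Wt_132_135 j) else (Wt_135_138 j)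
def Wt_126_138 (j : ℕ) : List ℕ := bif Nat.blt j 132 then (Wt_126_132 j) else (Wt_132_138 j)
def Wt_115_138 (j : ℕ) : List ℕ := bif Nat.blt j 126 then (Wt_115_126 j) else (Wt_126_138 j)
def Wt_92_138 (j : ℕ) : List ℕ := bif Nat.blt j 115 then (Wt_92_115 j) else (Wt_115_138 j)
def Wt_138_140 (j : ℕ) : List ℕ := bif Nat.blt j 139 then [nat_lit 2, nat_lit 3, nat_lit 0, nat_lit 1, nat_lit 2, nat_lit 0, nat_lit 3, nat_lit 0, nat_lit 3, nat_lit 0, nat_lit 2, nat_lit 3, nat_lit 2, nat_lit 0, nat_lit 3, nat_lit 2, nat_lit 1, nat_lit 0, nat_lit 2, nat_lit 1, nat_lit 3] else [nat_lit 0, nat_lit 1, nat_lit 0, nat_lit 1, nat_lit 3, nat_lit 1, nat_lit 0, nat_lit 1, nat_lit 0, nat_lit 3, nat_lit 0, nat_lit 1, nat_lit 0, nat_lit 1, nat_lit 3, nat_lit 1, nat_lit 0, nat_lit 1, nat_lit 0, nat_lit 3]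
def Wt_141_143 (j : ℕ) : List ℕ := bif Nat.blt j 142 then [nat_lit 63, nat_lit 0, nat_lit 1, nat_lit 2, nat_lit 1, nat_lit 0, nat_lit 1, nat_lit 2, nat_lit 3, nat_lit 0, nat_lit 3, nat_lit 0, nat_lit 3, nat_lit 0, nat_lit 3, nat_lit 0, nat_lit 1, nat_lit 3, nat_lit 2, nat_lit 3, nat_lit 1, nat_lit 2] else [nat_lit 3, nat_lit 2, nat_lit 0, nat_lit 3, nat_lit 0, nat_lit 3, nat_lit 0, nat_lit 2, nat_lit 1, nat_lit 0, nat_lit 1, nat_lit 2, nat_lit 1, nat_lit 0, nat_lit 1, nat_lit 2, nat_lit 3, nat_lit 0, nat_lit 2]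
def Wt_140_143 (j : ℕ) : List ℕ := bif Nat.blt j 141 then [nat_lit 2, nat_lit 3, nat_lit 1, nat_lit 0, nat_lit 3, nat_lit 0, nat_lit 3, nat_lit 0, nat_lit 3, nat_lit 0, nat_lit 3, nat_lit 2, nat_lit 1, nat_lit 0, nat_lit 1, nat_lit 2, nat_lit 1, nat_lit 0, nat_lit 2, nat_lit 1, nat_lit 3] else (Wt_141_143 j)
def Wt_138_143 (j : ℕ) : List ℕ := bif Nat.blt j 140 then (Wt_138_140 j) else (Wt_140_143 j)
def Wt_144_146 (j : ℕ) : List ℕ := bif Nat.blt j 145 then [nat_lit 0, nat_lit 1, nat_lit 2, nat_lit 0, nat_lit 1, nat_lit 2, nat_lit 0, nat_lit 1, nat_lit 0, nat_lit 1, nat_lit 0, nat_lit 1, nat_lit 0, nat_lit 2, nat_lit 1, nat_lit 2, nat_lit 0, nat_lit 2, nat_lit 1, nat_lit 0, nat_lit 2, nat_lit 0, nat_lit 2] else [nat_lit 3, nat_lit 0, nat_lit 3, nat_lit 0, nat_lit 2, nat_lit 1, nat_lit 0, nat_lit 1, nat_lit 3, nat_lit 2, nat_lit 3, nat_lit 1, nat_lit 0, nat_lit 1,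 nat_lit 2, nat_lit 3, nat_lit 0, nat_lit 3, nat_lit 0]
def Wt_143_146 (j : ℕ) : List ℕ := bif Nat.blt j 144 then [nat_lit 63, nat_lit 3, nat_lit 1, nat_lit 3, nat_lit 2, nat_lit 0, nat_lit 3, nat_lit 1, nat_lit 3, nat_lit 0, nat_lit 3, nat_lit 1, nat_lit 3, nat_lit 0, nat_lit 2, nat_lit 3, nat_lit 1, nat_lit 3, nat_lit 2] else (Wt_144_146 j)
def Wt_147_149 (j : ℕ) : List ℕ := bif Nat.blt j 148 then [nat_lit 2, nat_lit 0, nat_lit 3, nat_lit 2, nat_lit 1, nat_lit 0, nat_lit 1, nat_lit 2, nat_lit 1, nat_lit 0, nat_lit 1, nat_lit 2, nat_lit 0, nat_lit 3, nat_lit 0, nat_lit 3, nat_lit 0, nat_lit 2, nat_lit 3] else [nat_lit 3, nat_lit 0, nat_lit 1, nat_lit 3, nat_lit 2, nat_lit 3, nat_lit 1, nat_lit 2, nat_lit 0, nat_lit 1, nat_lit 2, nat_lit 1, nat_lit 0, nat_lit 1, nat_lit 2, nat_lit 3, nat_lit 0, nat_lit 3, nat_lit 0, nat_lit 3, nat_lit 0]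
def Wt_146_149 (j : ℕ) : List ℕ := bif Nat.blt j 147 then [nat_lit 63, nat_lit 3, nat_lit 1, nat_lit 2, nat_lit 0, nat_lit 1, nat_lit 2, nat_lit 1, nat_lit 0, nat_lit 1, nat_lit 2, nat_lit 3, nat_lit 0, nat_lit 3, nat_lit 0, nat_lit 3, nat_lit 0, nat_lit 3, nat_lit 0, nat_lit 1, nat_lit 3, nat_lit 2] else (Wt_147_149 j)
def Wt_143_149 (j : ℕ) : List ℕ := bif Nat.blt j 146 then (Wt_143_146 j) else (Wt_146_149 j)
def Wt_138_149 (j : ℕ) : List ℕ := bif Nat.blt j 143 then (Wt_138_143 j) else (Wt_143_149 j)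
def Wt_150_152 (j : ℕ) : List ℕ := bif Nat.blt j 151 then [nat_lit 63, nat_lit 2, nat_lit 1, nat_lit 0, nat_lit 1, nat_lit 3, nat_lit 2, nat_lit 3, nat_lit 1, nat_lit 0, nat_lit 1, nat_lit 2, nat_lit 0, nat_lit 3, nat_lit 0, nat_lit 3, nat_lit 0, nat_lit 3, nat_lit 0, nat_lit 3] else [nat_lit 63, nat_lit 1, nat_lit 0, nat_lit 1, nat_lit 2, nat_lit 1, nat_lit 0, nat_lit 1, nat_lit 2, nat_lit 3, nat_lit 0, nat_lit 2, nat_lit 3, nat_lit 2, nat_lit 0, nat_lit 3, nat_lit 0, nat_lit 3, nat_lit 0, nat_lit 2]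
def Wt_149_152 (j : ℕ) : List ℕ := bif Nat.blt j 150 then [nat_lit 0, nat_lit 3, nat_lit 0, nat_lit 3, nat_lit 0, nat_lit 2, nat_lit 3, nat_lit 2, nat_lit 0, nat_lit 3, nat_lit 2, nat_lit 1, nat_lit 0, nat_lit 2, nat_lit 1, nat_lit 3, nat_lit 2, nat_lit 3, nat_lit 0, nat_lit 1, nat_lit 2] else (Wt_150_152 j)
def Wt_153_155 (j : ℕ) : List ℕ := bif Nat.blt j 154 then [nat_lit 2, nat_lit 1, nat_lit 0, nat_lit 2, nat_lit 0, nat_lit 2, nat_lit 0, nat_lit 1, nat_lit 2, nat_lit 0, nat_lit 2, nat_lit 1, nat_lit 2, nat_lit 0, nat_lit 1, nat_lit 0, nat_lit 1, nat_lit 0, nat_lit 1, nat_lit 0, nat_lit 2, nat_lit 1, nat_lit 0] else [nat_lit 2, nat_lit 0, nat_lit 2, nat_lit 1, nat_lit 0, nat_lit 2, nat_lit 0, nat_lit 2, nat_lit 0, nat_lit 1, nat_lit 2, nat_lit 0, nat_lit 1, nat_lit 2, nat_lit 0, nat_lit 1, nat_lit 0, nat_lit 1, nat_lit 0, nat_lit 1, nat_lit 0, nat_lit 2, nat_lit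 1]
def Wt_152_155 (j : ℕ) : List ℕ := bif Nat.blt j 153 then [nat_lit 63, nat_lit 2, nat_lit 1, nat_lit 0, nat_lit 1, nat_lit 2, nat_lit 3, nat_lit 0, nat_lit 2, nat_lit 3, nat_lit 2, nat_lit 0, nat_lit 3, nat_lit 0, nat_lit 3, nat_lit 0, nat_lit 2, nat_lit 1, nat_lit 0, nat_lit 1] else (Wt_153_155 j)
def Wt_149_155 (j : ℕ) : List ℕ := bif Nat.blt j 152 then (Wt_149_152 j) else (Wt_152_155 j)
def Wt_156_158 (j : ℕ) : List ℕ := bif Nat.blt j 157 then [nat_lit 0, nat_lit 1, nat_lit 2, nat_lit 3, nat_lit 0, nat_lit 3, nat_lit 0, nat_lit 3, nat_lit 0, nat_lit 2, nat_lit 3, nat_lit 2, nat_lit 0, nat_lit 2, nat_lit 1, nat_lit 0, nat_lit 1, nat_lit 2, nat_lit 1] else [nat_lit 63, nat_lit 2, nat_lit 0, nat_lit 1, nat_lit 0, nat_lit 2, nat_lit 0, nat_lit 2, nat_lit 0, nat_lit 2, nat_lit 0, nat_lit 1, nat_lit 2, nat_lit 0, nat_lit 1, nat_lit 2, nat_lit 0, nat_lit 1, nat_lit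 0, nat_lit 2, nat_lit 1, nat_lit 0, nat_lit 2, nat_lit 1]
def Wt_155_158 (j : ℕ) : List ℕ := bif Nat.blt j 156 then [nat_lit 1, nat_lit 2, nat_lit 1, nat_lit 0, nat_lit 1, nat_lit 2, nat_lit 3, nat_lit 0, nat_lit 2, nat_lit 3, nat_lit 2, nat_lit 0, nat_lit 3, nat_lit 0, nat_lit 3, nat_lit 0, nat_lit 2, nat_lit 1, nat_lit 0] else (Wt_156_158 j)
def Wt_159_161 (j : ℕ) : List ℕ := bif Nat.blt j 160 then [nat_lit 2, nat_lit 3, nat_lit 0, nat_lit 3, nat_lit 0, nat_lit 3, nat_lit 0, nat_lit 2, nat_lit 3, nat_lit 2, nat_lit 0, nat_lit 2, nat_lit 1, nat_lit 0, nat_lit 1, nat_lit 2, nat_lit 1, nat_lit 0, nat_lit 1] else [nat_lit 63, nat_lit 2, nat_lit 0, nat_lit 3, nat_lit 0, nat_lit 3, nat_lit 0, nat_lit 2, nat_lit 1, nat_lit 0, nat_lit 3, nat_lit 2, nat_lit 3, nat_lit 1, nat_lit 2, nat_lit 0, nat_lit 1, nat_lit 2, nat_lit 3, nat_lit 0, nat_lit 2, nat_lit 3]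
def Wt_158_161 (j : ℕ) : List ℕ := bif Nat.blt j 159 then [nat_lit 2, nat_lit 0, nat_lit 1, nat_lit 0, nat_lit 2, nat_lit 1, nat_lit 0, nat_lit 2, nat_lit 1, nat_lit 0, nat_lit 2, nat_lit 1, nat_lit 2, nat_lit 0, nat_lit 2, nat_lit 0, nat_lit 1, nat_lit 2, nat_lit 0, nat_lit 2, nat_lit 0, nat_lit 1, nat_lit 0] else (Wt_159_161 j)
def Wt_155_161 (j : ℕ) : List ℕ := bif Nat.blt j 158 then (Wt_155_158 j) else (Wt_158_161 j)
def Wt_149_161 (j : ℕ) : List ℕ := bif Nat.blt j 155 then (Wt_149_155 j) else (Wt_155_161 j)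
def Wt_138_161 (j : ℕ) : List ℕ := bif Nat.blt j 149 then (Wt_138_149 j) else (Wt_149_161 j)
def Wt_162_164 (j : ℕ) : List ℕ := bif Nat.blt j 163 then [nat_lit 0, nat_lit 1, nat_lit 0, nat_lit 3, nat_lit 0, nat_lit 3, nat_lit 2, nat_lit 1, nat_lit 0, nat_lit 1, nat_lit 0, nat_lit 3, nat_lit 0, nat_lit 1, nat_lit 2, nat_lit 1, nat_lit 3, nat_lit 1, nat_lit 0, nat_lit 2, nat_lit 1, nat_lit 3] else [nat_lit 2, nat_lit 1, nat_lit 0, nat_lit 1, nat_lit 2, nat_lit 1, nat_lit 0, nat_lit 1, nat_lit 2, nat_lit 0, nat_lit 2, nat_lit 3, nat_lit 2, nat_lit 0, nat_lit 3, nat_lit 0, nat_lit 3, nat_lit 0, nat_lit 3]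
def Wt_161_164 (j : ℕ) : List ℕ := bif Nat.blt j 162 then [nat_lit 1, nat_lit 3, nat_lit 1, nat_lit 0, nat_lit 2, nat_lit 1, nat_lit 3, nat_lit 0, nat_lit 1, nat_lit 0, nat_lit 3, nat_lit 0, nat_lit 3, nat_lit 2, nat_lit 1, nat_lit 0, nat_lit 1, nat_lit 0, nat_lit 3, nat_lit 0, nat_lit 1, nat_lit 2] else (Wt_162_164 j)
def Wt_165_167 (j : ℕ) : List ℕ := bif Nat.blt j 166 then [nat_lit 63, nat_lit 0, nat_lit 3, nat_lit 2, nat_lit 1, nat_lit 0, nat_lit 2, nat_lit 1, nat_lit 3, nat_lit 2, nat_lit 3, nat_lit 0, nat_lit 1, nat_lit 2, nat_lit 0, nat_lit 3, nat_lit 0, nat_lit 3, nat_lit 0, nat_lit 2, nat_lit 3, nat_lit 2] else [nat_lit 3, nat_lit 0, nat_lit 3, nat_lit 1, nat_lit 3, nat_lit 0, nat_lit 2, nat_lit 3, nat_lit 1, nat_lit 3, nat_lit 2, nat_lit 3, nat_lit 1, nat_lit 3, nat_lit 2, nat_lit 0, nat_lit 3, nat_lit 1]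
def Wt_164_167 (j : ℕ) : List ℕ := bif Nat.blt j 165 then [nat_lit 0, nat_lit 2, nat_lit 1, nat_lit 0, nat_lit 1, nat_lit 3, nat_lit 2, nat_lit 3, nat_lit 1, nat_lit 0, nat_lit 1, nat_lit 2, nat_lit 3, nat_lit 0, nat_lit 3, nat_lit 0, nat_lit 3, nat_lit 0, nat_lit 3] else (Wt_165_167 j)
def Wt_161_167 (j : ℕ) : List ℕ := bif Nat.blt j 164 then (Wt_161_164 j) else (Wt_164_167 j)
def Wt_168_170 (j : ℕ) : List ℕ := bif Nat.blt j 169 then [nat_lit 63, nat_lit 3, nat_lit 0, nat_lit 3, nat_lit 0, nat_lit 1, nat_lit 3, nat_lit 2, nat_lit 3, nat_lit 1, nat_lit 2, nat_lit 0, nat_lit 1, nat_lit 2, nat_lit 1, nat_lit 0, nat_lit 1, nat_lit 2, nat_lit 3, nat_lit 0, nat_lit 3, nat_lit 0] else [nat_lit 63, nat_lit 2, nat_lit 0, nat_lit 2, nat_lit 1, nat_lit 0, nat_lit 1, nat_lit 2, nat_lit 1, nat_lit 0, nat_lit 1, nat_lit 2, nat_lit 3, nat_lit 0, nat_lit 3, nat_lit 0, nat_lit 3,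 nat_lit 0, nat_lit 2, nat_lit 3]
def Wt_167_170 (j : ℕ) : List ℕ := bif Nat.blt j 168 then [nat_lit 1, nat_lit 0, nat_lit 2, nat_lit 0, nat_lit 2, nat_lit 1, nat_lit 2, nat_lit 0, nat_lit 2, nat_lit 0, nat_lit 1, nat_lit 2, nat_lit 1, nat_lit 0, nat_lit 3, nat_lit 2, nat_lit 3, nat_lit 0, nat_lit 1, nat_lit 2] else (Wt_168_170 j)
def Wt_171_173 (j : ℕ) : List ℕ := bif Nat.blt j 172 then [nat_lit 63, nat_lit 0, nat_lit 3, nat_lit 0, nat_lit 3, nat_lit 2, nat_lit 1, nat_lit 0, nat_lit 1, nat_lit 3, nat_lit 2, nat_lit 3, nat_lit 1, nat_lit 0, nat_lit 1, nat_lit 2, nat_lit 0, nat_lit 3, nat_lit 0, nat_lit 3] else [nat_lit 1, nat_lit 0, nat_lit 1, nat_lit 0, nat_lit 2, nat_lit 1, nat_lit 0, nat_lit 2, nat_lit 1, nat_lit 0, nat_lit 2, nat_lit 0, nat_lit 2, nat_lit 0, nat_lit 1, nat_lit 2, nat_lit 0, nat_lit 2, nat_lit 1, nat_lit 2, nat_lit 0, nat_lit 1, nat_lit 0]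
def Wt_170_173 (j : ℕ) : List ℕ := bif Nat.blt j 171 then [nat_lit 1, nat_lit 0, nat_lit 1, nat_lit 2, nat_lit 0, nat_lit 2, nat_lit 3, nat_lit 2, nat_lit 0, nat_lit 3, nat_lit 0, nat_lit 3, nat_lit 0, nat_lit 3, nat_lit 2, nat_lit 1, nat_lit 0, nat_lit 1, nat_lit 2] else (Wt_171_173 j)
def Wt_167_173 (j : ℕ) : List ℕ := bif Nat.blt j 170 then (Wt_167_170 j) else (Wt_170_173 j)
def Wt_161_173 (j : ℕ) : List ℕ := bif Nat.blt j 167 then (Wt_161_167 j) else (Wt_167_173 j)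
def Wt_174_176 (j : ℕ) : List ℕ := bif Nat.blt j 175 then [nat_lit 3, nat_lit 2, nat_lit 3, nat_lit 1, nat_lit 0, nat_lit 2, nat_lit 0, nat_lit 1, nat_lit 2, nat_lit 1, nat_lit 0, nat_lit 2, nat_lit 0, nat_lit 1, nat_lit 2, nat_lit 1, nat_lit 0, nat_lit 2, nat_lit 0, nat_lit 1] else [nat_lit 63, nat_lit 3, nat_lit 2, nat_lit 1, nat_lit 0, nat_lit 1, nat_lit 2, nat_lit 1, nat_lit 0, nat_lit 1, nat_lit 2, nat_lit 0, nat_lit 3, nat_lit 0, nat_lit 3, nat_lit 0, nat_lit 2, nat_lit 3, nat_lit 2, nat_lit 0]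
def Wt_173_176 (j : ℕ) : List ℕ := bif Nat.blt j 174 then [nat_lit 3, nat_lit 0, nat_lit 1, nat_lit 2, nat_lit 1, nat_lit 0, nat_lit 2, nat_lit 0, nat_lit 2, nat_lit 1, nat_lit 2, nat_lit 0, nat_lit 2, nat_lit 0, nat_lit 1, nat_lit 2, nat_lit 1, nat_lit 0, nat_lit 3, nat_lit 2] else (Wt_174_176 j)
def Wt_177_179 (j : ℕ) : List ℕ := bif Nat.blt j 178 then [nat_lit 1, nat_lit 2, nat_lit 1, nat_lit 0, nat_lit 1, nat_lit 2, nat_lit 3, nat_lit 0, nat_lit 3, nat_lit 0, nat_lit 3, nat_lit 0, nat_lit 2, nat_lit 3, nat_lit 2, nat_lit 0, nat_lit 2, nat_lit 1, nat_lit 0] else [nat_lit 0, nat_lit 3, nat_lit 0, nat_lit 3, nat_lit 0, nat_lit 2, nat_lit 1, nat_lit 0, nat_lit 1, nat_lit 3, nat_lit 2, nat_lit 3, nat_lit 1, nat_lit 0, nat_lit 1, nat_lit 2, nat_lit 3, nat_lit 0, nat_lit 3]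
def Wt_176_179 (j : ℕ) : List ℕ := bif Nat.blt j 177 then [nat_lit 1, nat_lit 0, nat_lit 1, nat_lit 0, nat_lit 1, nat_lit 0, nat_lit 1, nat_lit 0, nat_lit 1, nat_lit 0, nat_lit 1, nat_lit 0, nat_lit 1, nat_lit 0, nat_lit 1, nat_lit 0] else (Wt_177_179 j)
def Wt_173_179 (j : ℕ) : List ℕ := bif Nat.blt j 176 then (Wt_173_176 j) else (Wt_176_179 j)
def Wt_180_182 (j : ℕ) : List ℕ := bif Nat.blt j 181 then [nat_lit 1, nat_lit 0, nat_lit 3, nat_lit 0, nat_lit 3, nat_lit 2, nat_lit 1, nat_lit 0, nat_lit 1, nat_lit 0, nat_lit 3, nat_lit 0, nat_lit 1, nat_lit 2, nat_lit 1, nat_lit 3, nat_lit 1, nat_lit 0, nat_lit 2, nat_lit 1, nat_lit 3, nat_lit 0] else [nat_lit 3, nat_lit 0, nat_lit 3, nat_lit 0, nat_lit 3, nat_lit 0, nat_lit 2, nat_lit 1, nat_lit 0, nat_lit 1, nat_lit 3, nat_lit 2, nat_lit 3, nat_lit 1, nat_lit 0, nat_lit 1, nat_lit 2, nat_lit 3, nat_lit 0]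
def Wt_179_182 (j : ℕ) : List ℕ := bif Nat.blt j 180 then [nat_lit 0, nat_lit 2, nat_lit 0, nat_lit 1, nat_lit 2, nat_lit 0, nat_lit 2, nat_lit 1, nat_lit 2, nat_lit 0, nat_lit 1, nat_lit 0, nat_lit 1, nat_lit 0, nat_lit 1, nat_lit 0, nat_lit 2, nat_lit 1, nat_lit 0, nat_lit 2, nat_lit 1, nat_lit 0, nat_lit 2] else (Wt_180_182 j)
def Wt_183_185 (j : ℕ) : List ℕ := bif Nat.blt j 184 then [nat_lit 0, nat_lit 2, nat_lit 1, nat_lit 2, nat_lit 0, nat_lit 2, nat_lit 0, nat_lit 1, nat_lit 2, nat_lit 0, nat_lit 2, nat_lit 0, nat_lit 1, nat_lit 0, nat_lit 2, nat_lit 0, nat_lit 1, nat_lit 0, nat_lit 2, nat_lit 1, nat_lit 0, nat_lit 2, nat_lit 1] else [nat_lit 63, nat_lit 0, nat_lit 2, nat_lit 0, nat_lit 2, nat_lit 1, nat_lit 2, nat_lit 0, nat_lit 1, nat_lit 2, nat_lit 0, nat_lit 1, nat_lit 2, nat_lit 0, nat_lit 1, nat_lit 0, nat_lit 2, nat_lit 0, nat_lit 1, nat_lit 0, nat_lit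 2, nat_lit 0, nat_lit 2, nat_lit 1]
def Wt_182_185 (j : ℕ) : List ℕ := bif Nat.blt j 183 then [nat_lit 0, nat_lit 1, nat_lit 2, nat_lit 1, nat_lit 0, nat_lit 1, nat_lit 2, nat_lit 3, nat_lit 0, nat_lit 2, nat_lit 3, nat_lit 2, nat_lit 0, nat_lit 3, nat_lit 0, nat_lit 3, nat_lit 0, nat_lit 2, nat_lit 1] else (Wt_183_185 j)
def Wt_179_185 (j : ℕ) : List ℕ := bif Nat.blt j 182 then (Wt_179_182 j) else (Wt_182_185 j)
def Wt_173_185 (j : ℕ) : List ℕ := bif Nat.blt j 179 then (Wt_173_179 j) else (Wt_179_185 j)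
def Wt_161_185 (j : ℕ) : List ℕ := bif Nat.blt j 173 then (Wt_161_173 j) else (Wt_173_185 j)
def Wt_138_185 (j : ℕ) : List ℕ := bif Nat.blt j 161 then (Wt_138_161 j) else (Wt_161_185 j)
def Wt_92_185 (j : ℕ) : List ℕ := bif Nat.blt j 138 then (Wt_92_138 j) else (Wt_138_185 j)
def Wt_0_185 (j : ℕ) : List ℕ := bif Nat.blt j 92 then (Wt_0_92 j) else (Wt_92_185 j)
def Wt_185_187 (j : ℕ) : List ℕ := bif Nat.blt j 186 then [nat_lit 0, nat_lit 2, nat_lit 1, nat_lit 2, nat_lit 0, nat_lit 1, nat_lit 2, nat_lit 0, nat_lit 1, nat_lit 2, nat_lit 0, nat_lit 1, nat_lit 0, nat_lit 2, nat_lit 0, nat_lit 1, nat_lit 0, nat_lit 2, nat_lit 0, nat_lit 2, nat_lit 1, nat_lit 0, nat_lit 2] else [nat_lit 2, nat_lit 0, nat_lit 1, nat_lit 2, nat_lit 0, nat_lit 1, nat_lit 0, nat_lit 2, nat_lit 1, nat_lit 0, nat_lit 2, nat_lit 1, nat_lit 0, nat_lit 2, nat_lit 0, nat_lit 2, nat_lit 0, nat_lit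 2, nat_lit 0, nat_lit 1, nat_lit 0, nat_lit 2, nat_lit 1]
def Wt_188_190 (j : ℕ) : List ℕ := bif Nat.blt j 189 then [nat_lit 2, nat_lit 1, nat_lit 0, nat_lit 2, nat_lit 0, nat_lit 2, nat_lit 1, nat_lit 2, nat_lit 0, nat_lit 2, nat_lit 0, nat_lit 1, nat_lit 2, nat_lit 1, nat_lit 0, nat_lit 3, nat_lit 2, nat_lit 3, nat_lit 0, nat_lit 1] else [nat_lit 1, nat_lit 2, nat_lit 0, nat_lit 1, nat_lit 0, nat_lit 1, nat_lit 0, nat_lit 1, nat_lit 0, nat_lit 2, nat_lit 1, nat_lit 0, nat_lit 2, nat_lit 1, nat_lit 0, nat_lit 2, nat_lit 0, nat_lit 2, nat_lit 0, nat_lit 1, nat_lit 2, nat_lit 0, nat_lit 2]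
def Wt_187_190 (j : ℕ) : List ℕ := bif Nat.blt j 188 then [nat_lit 2, nat_lit 0, nat_lit 1, nat_lit 2, nat_lit 0, nat_lit 1, nat_lit 2, nat_lit 0, nat_lit 1, nat_lit 0, nat_lit 1, nat_lit 0, nat_lit 1, nat_lit 0, nat_lit 2, nat_lit 1, nat_lit 2, nat_lit 0, nat_lit 2, nat_lit 1, nat_lit 0, nat_lit 2, nat_lit 0] else (Wt_188_190 j)
def Wt_185_190 (j : ℕ) : List ℕ := bif Nat.blt j 187 then (Wt_185_187 j) else (Wt_187_190 j)
def Wt_191_193 (j : ℕ) : List ℕ := bif Nat.blt j 192 then [nat_lit 0, nat_lit 2, nat_lit 1, nat_lit 0, nat_lit 2, nat_lit 1, nat_lit 0, nat_lit 2, nat_lit 1, nat_lit 2, nat_lit 0, nat_lit 2, nat_lit 0, nat_lit 1, nat_lit 2, nat_lit 0, nat_lit 2, nat_lit 0, nat_lit 1, nat_lit 0, nat_lit 2, nat_lit 0, nat_lit 1] else [nat_lit 1, nat_lit 2, nat_lit 0, nat_lit 1, nat_lit 0, nat_lit 2, nat_lit 1, nat_lit 0, nat_lit 2, nat_lit 1, nat_lit 0, nat_lit 2,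 nat_lit 0, nat_lit 2, nat_lit 0, nat_lit 2, nat_lit 0, nat_lit 1, nat_lit 0, nat_lit 2, nat_lit 1, nat_lit 2, nat_lit 0]
def Wt_190_193 (j : ℕ) : List ℕ := bif Nat.blt j 191 then [nat_lit 63, nat_lit 1, nat_lit 2, nat_lit 1, nat_lit 0, nat_lit 3, nat_lit 2, nat_lit 3, nat_lit 0, nat_lit 1, nat_lit 2, nat_lit 1, nat_lit 0, nat_lit 2, nat_lit 0, nat_lit 2, nat_lit 1, nat_lit 2, nat_lit 0, nat_lit 2, nat_lit 0] else (Wt_191_193 j)
def Wt_194_196 (j : ℕ) : List ℕ := bif Nat.blt j 195 then [nat_lit 3, nat_lit 0, nat_lit 2, nat_lit 3, nat_lit 2, nat_lit 0, nat_lit 2, nat_lit 1, nat_lit 0, nat_lit 1, nat_lit 2, nat_lit 1, nat_lit 0, nat_lit 1, nat_lit 2, nat_lit 3, nat_lit 0, nat_lit 3, nat_lit 0] else [nat_lit 2, nat_lit 3, nat_lit 2, nat_lit 0, nat_lit 3, nat_lit 2, nat_lit 1, nat_lit 0, nat_lit 1, nat_lit 2, nat_lit 1, nat_lit 0, nat_lit 1, nat_lit 2, nat_lit 0, nat_lit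 3, nat_lit 0, nat_lit 3, nat_lit 0]
def Wt_193_196 (j : ℕ) : List ℕ := bif Nat.blt j 194 then [nat_lit 1, nat_lit 2, nat_lit 0, nat_lit 1, nat_lit 2, nat_lit 0, nat_lit 1, nat_lit 0, nat_lit 2, nat_lit 1, nat_lit 0, nat_lit 2, nat_lit 1, nat_lit 0, nat_lit 2, nat_lit 0, nat_lit 2, nat_lit 0, nat_lit 2, nat_lit 0, nat_lit 1, nat_lit 0, nat_lit 2] else (Wt_194_196 j)
def Wt_190_196 (j : ℕ) : List ℕ := bif Nat.blt j 193 then (Wt_190_193 j) else (Wt_193_196 j)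
def Wt_185_196 (j : ℕ) : List ℕ := bif Nat.blt j 190 then (Wt_185_190 j) else (Wt_190_196 j)
def Wt_197_199 (j : ℕ) : List ℕ := bif Nat.blt j 198 then [nat_lit 1, nat_lit 2, nat_lit 0, nat_lit 1, nat_lit 2, nat_lit 3, nat_lit 0, nat_lit 2, nat_lit 3, nat_lit 2, nat_lit 0, nat_lit 3, nat_lit 0, nat_lit 3, nat_lit 0, nat_lit 2, nat_lit 1, nat_lit 0, nat_lit 3, nat_lit 2, nat_lit 3] else [nat_lit 0, nat_lit 1, nat_lit 0, nat_lit 3, nat_lit 0, nat_lit 1, nat_lit 0, nat_lit 1, nat_lit 3, nat_lit 1, nat_lit 0, nat_lit 1, nat_lit 0, nat_lit 3, nat_lit 0, nat_lit 1, nat_lit 0, nat_lit 1, nat_lit 3, nat_lit 1]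
def Wt_196_199 (j : ℕ) : List ℕ := bif Nat.blt j 197 then [nat_lit 0, nat_lit 3, nat_lit 2, nat_lit 1, nat_lit 0, nat_lit 1, nat_lit 2, nat_lit 1, nat_lit 0, nat_lit 1, nat_lit 2, nat_lit 0, nat_lit 2, nat_lit 3, nat_lit 2, nat_lit 0, nat_lit 3, nat_lit 0, nat_lit 3] else (Wt_197_199 j)
def Wt_200_202 (j : ℕ) : List ℕ := bif Nat.blt j 201 then [nat_lit 63, nat_lit 3, nat_lit 2, nat_lit 0, nat_lit 3, nat_lit 0, nat_lit 3, nat_lit 0, nat_lit 3, nat_lit 2, nat_lit 1, nat_lit 0, nat_lit 1, nat_lit 2, nat_lit 1, nat_lit 0, nat_lit 1, nat_lit 2, nat_lit 0, nat_lit 2] else [nat_lit 2, nat_lit 0, nat_lit 1, nat_lit 0, nat_lit 2, nat_lit 0, nat_lit 1, nat_lit 0, nat_lit 2, nat_lit 1, nat_lit 0, nat_lit 2, nat_lit 1, nat_lit 0, nat_lit 2, nat_lit 1, nat_lit 2, nat_lit 0, nat_lit 2, nat_lit 0, nat_lit 1, nat_lit 2, nat_lit 0]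
def Wt_199_202 (j : ℕ) : List ℕ := bif Nat.blt j 200 then [nat_lit 2, nat_lit 0, nat_lit 3, nat_lit 0, nat_lit 3, nat_lit 0, nat_lit 3, nat_lit 0, nat_lit 3, nat_lit 2, nat_lit 1, nat_lit 0, nat_lit 1, nat_lit 3, nat_lit 2, nat_lit 3, nat_lit 1, nat_lit 0, nat_lit 1] else (Wt_200_202 j)
def Wt_196_202 (j : ℕ) : List ℕ := bif Nat.blt j 199 then (Wt_196_199 j) else (Wt_199_202 j)
def Wt_203_205 (j : ℕ) : List ℕ := bif Nat.blt j 204 then [nat_lit 0, nat_lit 2, nat_lit 0, nat_lit 2, nat_lit 1, nat_lit 0, nat_lit 2, nat_lit 0, nat_lit 2, nat_lit 1, nat_lit 2, nat_lit 0, nat_lit 1, nat_lit 2, nat_lit 0, nat_lit 1, nat_lit 2, nat_lit 0, nat_lit 1, nat_lit 0, nat_lit 2, nat_lit 0, nat_lit 1] else [nat_lit 2, nat_lit 1, nat_lit 2, nat_lit 0, nat_lit 1, nat_lit 0, nat_lit 1, nat_lit 0, nat_lit 1, nat_lit 0, nat_lit 2, nat_lit 1, nat_lit 0, nat_lit 2, nat_lit 1, nat_lit 0,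 nat_lit 2, nat_lit 0, nat_lit 2, nat_lit 0, nat_lit 1, nat_lit 2, nat_lit 0]
def Wt_202_205 (j : ℕ) : List ℕ := bif Nat.blt j 203 then [nat_lit 1, nat_lit 0, nat_lit 2, nat_lit 1, nat_lit 0, nat_lit 2, nat_lit 1, nat_lit 0, nat_lit 2, nat_lit 0, nat_lit 2, nat_lit 0, nat_lit 2, nat_lit 0, nat_lit 1, nat_lit 0, nat_lit 2, nat_lit 1, nat_lit 2, nat_lit 0, nat_lit 1, nat_lit 2, nat_lit 0] else (Wt_203_205 j)
def Wt_206_208 (j : ℕ) : List ℕ := bif Nat.blt j 207 then [nat_lit 1, nat_lit 0, nat_lit 2, nat_lit 1, nat_lit 0, nat_lit 2, nat_lit 1, nat_lit 0, nat_lit 2, nat_lit 1, nat_lit 2, nat_lit 0, nat_lit 2, nat_lit 0, nat_lit 1, nat_lit 2, nat_lit 0, nat_lit 2, nat_lit 0, nat_lit 1, nat_lit 0, nat_lit 2, nat_lit 0] else [nat_lit 63, nat_lit 0, nat_lit 2, nat_lit 0, nat_lit 1, nat_lit 2, nat_lit 1, nat_lit 0, nat_lit 3, nat_lit 2, nat_lit 3, nat_lit 0, nat_lit 1, nat_lit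 2, nat_lit 1, nat_lit 0, nat_lit 2, nat_lit 0, nat_lit 2, nat_lit 1, nat_lit 2]
def Wt_205_208 (j : ℕ) : List ℕ := bif Nat.blt j 206 then [nat_lit 3, nat_lit 2, nat_lit 3, nat_lit 0, nat_lit 1, nat_lit 2, nat_lit 0, nat_lit 3, nat_lit 0, nat_lit 3, nat_lit 0, nat_lit 2, nat_lit 3, nat_lit 2, nat_lit 0, nat_lit 3, nat_lit 2, nat_lit 1, nat_lit 0, nat_lit 2, nat_lit 1] else (Wt_206_208 j)
def Wt_202_208 (j : ℕ) : List ℕ := bif Nat.blt j 205 then (Wt_202_205 j) else (Wt_205_208 j)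
def Wt_196_208 (j : ℕ) : List ℕ := bif Nat.blt j 202 then (Wt_196_202 j) else (Wt_202_208 j)
def Wt_185_208 (j : ℕ) : List ℕ := bif Nat.blt j 196 then (Wt_185_196 j) else (Wt_196_208 j)
def Wt_208_210 (j : ℕ) : List ℕ := bif Nat.blt j 209 then [nat_lit 2, nat_lit 0, nat_lit 2, nat_lit 0, nat_lit 1, nat_lit 2, nat_lit 0, nat_lit 2, nat_lit 1, nat_lit 2, nat_lit 0, nat_lit 1, nat_lit 0, nat_lit 1, nat_lit 0, nat_lit 1, nat_lit 0, nat_lit 2, nat_lit 1, nat_lit 0, nat_lit 2, nat_lit 1, nat_lit 0] else [nat_lit 2, nat_lit 1, nat_lit 0, nat_lit 3, nat_lit 2, nat_lit 3, nat_lit 0, nat_lit 1, nat_lit 2, nat_lit 1, nat_lit 0, nat_lit 2, nat_lit 0, nat_lit 2, nat_lit 1, nat_lit 2, nat_lit 0, nat_lit 2, nat_lit 0, nat_lit 1]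
def Wt_211_213 (j : ℕ) : List ℕ := bif Nat.blt j 212 then [nat_lit 2, nat_lit 0, nat_lit 3, nat_lit 0, nat_lit 3, nat_lit 0, nat_lit 2, nat_lit 1, nat_lit 0, nat_lit 3, nat_lit 2, nat_lit 3, nat_lit 1, nat_lit 2, nat_lit 0, nat_lit 1, nat_lit 2, nat_lit 3, nat_lit 0, nat_lit 2, nat_lit 3] else [nat_lit 3, nat_lit 1, nat_lit 0, nat_lit 1, nat_lit 3, nat_lit 1, nat_lit 3, nat_lit 1, nat_lit 3, nat_lit 1, nat_lit 0, nat_lit 1, nat_lit 3, nat_lit 2, nat_lit 0, nat_lit 1, nat_lit 3, nat_lit 1, nat_lit 0, nat_lit 2]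
def Wt_210_213 (j : ℕ) : List ℕ := bif Nat.blt j 211 then [nat_lit 2, nat_lit 1, nat_lit 0, nat_lit 1, nat_lit 2, nat_lit 0, nat_lit 3, nat_lit 0, nat_lit 3, nat_lit 0, nat_lit 2, nat_lit 3, nat_lit 2, nat_lit 0, nat_lit 3, nat_lit 2, nat_lit 1, nat_lit 0, nat_lit 1] else (Wt_211_213 j)
def Wt_208_213 (j : ℕ) : List ℕ := bif Nat.blt j 210 then (Wt_208_210 j) else (Wt_210_213 j)
def Wt_214_216 (j : ℕ) : List ℕ := bif Nat.blt j 215 then [nat_lit 63, nat_lit 1, nat_lit 3, nat_lit 2, nat_lit 3, nat_lit 1, nat_lit 0, nat_lit 3, nat_lit 0, nat_lit 3, nat_lit 0, nat_lit 3, nat_lit 0, nat_lit 3, nat_lit 2, nat_lit 1, nat_lit 0, nat_lit 1, nat_lit 2, nat_lit 1, nat_lit 0, nat_lit 2] else [nat_lit 0, nat_lit 1, nat_lit 3, nat_lit 1, nat_lit 0, nat_lit 1, nat_lit 0, nat_lit 3, nat_lit 0, nat_lit 1, nat_lit 0, nat_lit 1, nat_lit 3, nat_lit 1, nat_lit 0, nat_lit 1, nat_lit 0,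 nat_lit 3, nat_lit 0, nat_lit 1]
def Wt_213_216 (j : ℕ) : List ℕ := bif Nat.blt j 214 then [nat_lit 63, nat_lit 2, nat_lit 0, nat_lit 3, nat_lit 1, nat_lit 3, nat_lit 0, nat_lit 3, nat_lit 1, nat_lit 3, nat_lit 0, nat_lit 2, nat_lit 3, nat_lit 1, nat_lit 3, nat_lit 2, nat_lit 3, nat_lit 1, nat_lit 3] else (Wt_214_216 j)
def Wt_217_219 (j : ℕ) : List ℕ := bif Nat.blt j 218 then [nat_lit 63, nat_lit 3, nat_lit 2, nat_lit 0, nat_lit 3, nat_lit 2, nat_lit 1, nat_lit 0, nat_lit 2, nat_lit 1, nat_lit 3, nat_lit 2, nat_lit 3, nat_lit 0, nat_lit 1, nat_lit 2, nat_lit 0, nat_lit 3, nat_lit 0, nat_lit 3, nat_lit 0, nat_lit 2] else [nat_lit 1, nat_lit 0, nat_lit 1, nat_lit 0, nat_lit 1, nat_lit 0, nat_lit 2, nat_lit 1, nat_lit 0, nat_lit 2, nat_lit 1, nat_lit 0, nat_lit 2, nat_lit 0, nat_lit 2, nat_lit 0, nat_lit 1, nat_lit 2, nat_lit 0, nat_lit 2, nat_lit 1, nat_lit 2, nat_lit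 0]
def Wt_216_219 (j : ℕ) : List ℕ := bif Nat.blt j 217 then [nat_lit 3, nat_lit 2, nat_lit 0, nat_lit 1, nat_lit 3, nat_lit 1, nat_lit 0, nat_lit 2, nat_lit 3, nat_lit 1, nat_lit 0, nat_lit 1, nat_lit 3, nat_lit 1, nat_lit 3, nat_lit 1, nat_lit 3, nat_lit 1, nat_lit 0, nat_lit 1] else (Wt_217_219 j)
def Wt_213_219 (j : ℕ) : List ℕ := bif Nat.blt j 216 then (Wt_213_216 j) else (Wt_216_219 j)
def Wt_208_219 (j : ℕ) : List ℕ := bif Nat.blt j 213 then (Wt_208_213 j) else (Wt_213_219 j)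
def Wt_220_222 (j : ℕ) : List ℕ := bif Nat.blt j 221 then [nat_lit 2, nat_lit 0, nat_lit 1, nat_lit 2, nat_lit 1, nat_lit 0, nat_lit 3, nat_lit 2, nat_lit 3, nat_lit 0, nat_lit 1, nat_lit 2, nat_lit 1, nat_lit 0, nat_lit 2, nat_lit 0, nat_lit 2, nat_lit 1, nat_lit 2, nat_lit 0] else [nat_lit 63, nat_lit 2, nat_lit 0, nat_lit 1, nat_lit 0, nat_lit 2, nat_lit 0, nat_lit 1, nat_lit 0, nat_lit 2, nat_lit 0, nat_lit 2, nat_lit 1, nat_lit 0, nat_lit 2, nat_lit 0, nat_lit 2, nat_lit 1, nat_lit 2, nat_lit 0, nat_lit 1, nat_lit 2, nat_lit 0, nat_lit 1]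
def Wt_219_222 (j : ℕ) : List ℕ := bif Nat.blt j 220 then [nat_lit 2, nat_lit 1, nat_lit 0, nat_lit 2, nat_lit 1, nat_lit 0, nat_lit 2, nat_lit 1, nat_lit 2, nat_lit 0, nat_lit 2, nat_lit 0, nat_lit 1, nat_lit 2, nat_lit 0, nat_lit 2, nat_lit 0, nat_lit 1, nat_lit 0, nat_lit 2, nat_lit 0, nat_lit 1, nat_lit 0] else (Wt_220_222 j)
def Wt_223_225 (j : ℕ) : List ℕ := bif Nat.blt j 224 then [nat_lit 63, nat_lit 0, nat_lit 2, nat_lit 1, nat_lit 0, nat_lit 2, nat_lit 0, nat_lit 2, nat_lit 0, nat_lit 1, nat_lit 2, nat_lit 0, nat_lit 1, nat_lit 2, nat_lit 0, nat_lit 1, nat_lit 0, nat_lit 1, nat_lit 0, nat_lit 1, nat_lit 0, nat_lit 2, nat_lit 1, nat_lit 2] else [nat_lit 1, nat_lit 2, nat_lit 0, nat_lit 1, nat_lit 0, nat_lit 2, nat_lit 0, nat_lit 2, nat_lit 0, nat_lit 2, nat_lit 0, nat_lit 1, nat_lit 2, nat_lit 0, nat_lit 1, nat_lit 2, nat_lit 0, nat_lit 1, nat_lit 0, nat_lit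 2, nat_lit 1, nat_lit 0, nat_lit 2]
def Wt_222_225 (j : ℕ) : List ℕ := bif Nat.blt j 223 then [nat_lit 1, nat_lit 0, nat_lit 2, nat_lit 1, nat_lit 0, nat_lit 2, nat_lit 0, nat_lit 2, nat_lit 0, nat_lit 1, nat_lit 2, nat_lit 0, nat_lit 2, nat_lit 1, nat_lit 2, nat_lit 0, nat_lit 1, nat_lit 0, nat_lit 1, nat_lit 0, nat_lit 1, nat_lit 0, nat_lit 2] else (Wt_223_225 j)
def Wt_219_225 (j : ℕ) : List ℕ := bif Nat.blt j 222 then (Wt_219_222 j) else (Wt_222_225 j)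
def Wt_226_228 (j : ℕ) : List ℕ := bif Nat.blt j 227 then [nat_lit 63, nat_lit 1, nat_lit 3, nat_lit 2, nat_lit 0, nat_lit 3, nat_lit 1, nat_lit 3, nat_lit 0, nat_lit 3, nat_lit 1, nat_lit 3, nat_lit 0, nat_lit 2, nat_lit 3, nat_lit 1, nat_lit 3, nat_lit 2, nat_lit 3] else [nat_lit 63, nat_lit 3, nat_lit 0, nat_lit 3, nat_lit 1, nat_lit 3, nat_lit 0, nat_lit 2, nat_lit 3, nat_lit 1, nat_lit 3, nat_lit 2, nat_lit 3, nat_lit 1, nat_lit 3, nat_lit 2, nat_lit 0, nat_lit 3, nat_lit 1]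
def Wt_225_228 (j : ℕ) : List ℕ := bif Nat.blt j 226 then [nat_lit 63, nat_lit 1, nat_lit 2, nat_lit 0, nat_lit 3, nat_lit 0, nat_lit 3, nat_lit 0, nat_lit 2, nat_lit 3, nat_lit 2, nat_lit 0, nat_lit 3, nat_lit 2, nat_lit 1, nat_lit 0, nat_lit 1, nat_lit 2, nat_lit 1, nat_lit 0] else (Wt_226_228 j)
def Wt_229_231 (j : ℕ) : List ℕ := bif Nat.blt j 230 then [nat_lit 0, nat_lit 3, nat_lit 0, nat_lit 3, nat_lit 2, nat_lit 1, nat_lit 0, nat_lit 1, nat_lit 2, nat_lit 1, nat_lit 0, nat_lit 1, nat_lit 2, nat_lit 0, nat_lit 2, nat_lit 3, nat_lit 2, nat_lit 0, nat_lit 3] else [nat_lit 3, nat_lit 1, nat_lit 0, nat_lit 1, nat_lit 3, nat_lit 2, nat_lit 0, nat_lit 1, nat_lit 3, nat_lit 1, nat_lit 0, nat_lit 2, nat_lit 3, nat_lit 1, nat_lit 0, nat_lit 1, nat_lit 3, nat_lit 1, nat_lit 3, nat_lit 1]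
def Wt_228_231 (j : ℕ) : List ℕ := bif Nat.blt j 229 then [nat_lit 63, nat_lit 3, nat_lit 0, nat_lit 2, nat_lit 3, nat_lit 2, nat_lit 0, nat_lit 2, nat_lit 1, nat_lit 0, nat_lit 1, nat_lit 2, nat_lit 1, nat_lit 0, nat_lit 1, nat_lit 2, nat_lit 3, nat_lit 0, nat_lit 3, nat_lit 0] else (Wt_229_231 j)
def Wt_225_231 (j : ℕ) : List ℕ := bif Nat.blt j 228 then (Wt_225_228 j) else (Wt_228_231 j)
def Wt_219_231 (j : ℕ) : List ℕ := bif Nat.blt j 225 then (Wt_219_225 j) else (Wt_225_231 j)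
def Wt_208_231 (j : ℕ) : List ℕ := bif Nat.blt j 219 then (Wt_208_219 j) else (Wt_219_231 j)
def Wt_185_231 (j : ℕ) : List ℕ := bif Nat.blt j 208 then (Wt_185_208 j) else (Wt_208_231 j)
def Wt_231_233 (j : ℕ) : List ℕ := bif Nat.blt j 232 then [nat_lit 0, nat_lit 3, nat_lit 0, nat_lit 3, nat_lit 0, nat_lit 3, nat_lit 2, nat_lit 1, nat_lit 0, nat_lit 1, nat_lit 3, nat_lit 2, nat_lit 3, nat_lit 1, nat_lit 0, nat_lit 1, nat_lit 2, nat_lit 0, nat_lit 3] else [nat_lit 1, nat_lit 2, nat_lit 0, nat_lit 3, nat_lit 0, nat_lit 3, nat_lit 0, nat_lit 2, nat_lit 3, nat_lit 2, nat_lit 0, nat_lit 3, nat_lit 2, nat_lit 1, nat_lit 0, nat_lit 1, nat_lit 2, nat_lit 1, nat_lit 0]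
def Wt_234_236 (j : ℕ) : List ℕ := bif Nat.blt j 235 then [nat_lit 2, nat_lit 0, nat_lit 1, nat_lit 2, nat_lit 1, nat_lit 0, nat_lit 2, nat_lit 0, nat_lit 1, nat_lit 2, nat_lit 1, nat_lit 0, nat_lit 2, nat_lit 0, nat_lit 1, nat_lit 3, nat_lit 2, nat_lit 3, nat_lit 1, nat_lit 0] else [nat_lit 63, nat_lit 3, nat_lit 2, nat_lit 3, nat_lit 1, nat_lit 3, nat_lit 2, nat_lit 0, nat_lit 3, nat_lit 1, nat_lit 3, nat_lit 0, nat_lit 3, nat_lit 1, nat_lit 3, nat_lit 0, nat_lit 2, nat_lit 3, nat_lit 1]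
def Wt_233_236 (j : ℕ) : List ℕ := bif Nat.blt j 234 then [nat_lit 63, nat_lit 3, nat_lit 1, nat_lit 0, nat_lit 1, nat_lit 2, nat_lit 0, nat_lit 3, nat_lit 0, nat_lit 3, nat_lit 0, nat_lit 3, nat_lit 0, nat_lit 3, nat_lit 2, nat_lit 1, nat_lit 0, nat_lit 1, nat_lit 3, nat_lit 2] else (Wt_234_236 j)
def Wt_231_236 (j : ℕ) : List ℕ := bif Nat.blt j 233 then (Wt_231_233 j) else (Wt_233_236 j)
def Wt_237_239 (j : ℕ) : List ℕ := bif Nat.blt j 238 then [nat_lit 63, nat_lit 0, nat_lit 2, nat_lit 0, nat_lit 1, nat_lit 2, nat_lit 1, nat_lit 0, nat_lit 2, nat_lit 0, nat_lit 1, nat_lit 2, nat_lit 1, nat_lit 0, nat_lit 2, nat_lit 0, nat_lit 1, nat_lit 3, nat_lit 2, nat_lit 3, nat_lit 1] else [nat_lit 2, nat_lit 0, nat_lit 2, nat_lit 0, nat_lit 1, nat_lit 2, nat_lit 1, nat_lit 0, nat_lit 3, nat_lit 2, nat_lit 3, nat_lit 0, nat_lit 1, nat_lit 2, nat_lit 1, nat_lit 0, nat_lit 2,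 nat_lit 0, nat_lit 2, nat_lit 1]
def Wt_236_239 (j : ℕ) : List ℕ := bif Nat.blt j 237 then [nat_lit 0, nat_lit 1, nat_lit 2, nat_lit 1, nat_lit 0, nat_lit 1, nat_lit 2, nat_lit 0, nat_lit 2, nat_lit 3, nat_lit 2, nat_lit 0, nat_lit 3, nat_lit 0, nat_lit 3, nat_lit 0, nat_lit 3, nat_lit 2, nat_lit 1] else (Wt_237_239 j)
def Wt_240_242 (j : ℕ) : List ℕ := bif Nat.blt j 241 then [nat_lit 3, nat_lit 0, nat_lit 1, nat_lit 0, nat_lit 3, nat_lit 0, nat_lit 3, nat_lit 2, nat_lit 1, nat_lit 0, nat_lit 1, nat_lit 0, nat_lit 3, nat_lit 0, nat_lit 1, nat_lit 2, nat_lit 1, nat_lit 3, nat_lit 1, nat_lit 0, nat_lit 2, nat_lit 1] else [nat_lit 3, nat_lit 0, nat_lit 1, nat_lit 0, nat_lit 1, nat_lit 2, nat_lit 3, nat_lit 0, nat_lit 3, nat_lit 0, nat_lit 1, nat_lit 0, nat_lit 3, nat_lit 1, nat_lit 2, nat_lit 0, nat_lit 1, nat_lit 3, nat_lit 1, nat_lit 2, nat_lit 1, nat_lit 0]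
def Wt_239_242 (j : ℕ) : List ℕ := bif Nat.blt j 240 then [nat_lit 2, nat_lit 0, nat_lit 1, nat_lit 0, nat_lit 2, nat_lit 0, nat_lit 2, nat_lit 1, nat_lit 0, nat_lit 2, nat_lit 0, nat_lit 2, nat_lit 1, nat_lit 2, nat_lit 0, nat_lit 1, nat_lit 2, nat_lit 0, nat_lit 1, nat_lit 2, nat_lit 0, nat_lit 1, nat_lit 0] else (Wt_240_242 j)
def Wt_236_242 (j : ℕ) : List ℕ := bif Nat.blt j 239 then (Wt_236_239 j) else (Wt_239_242 j)
def Wt_231_242 (j : ℕ) : List ℕ := bif Nat.blt j 236 then (Wt_231_236 j) else (Wt_236_242 j)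
def Wt_243_245 (j : ℕ) : List ℕ := bif Nat.blt j 244 then [nat_lit 63, nat_lit 0, nat_lit 3, nat_lit 0, nat_lit 3, nat_lit 0, nat_lit 3, nat_lit 2, nat_lit 1, nat_lit 0, nat_lit 1, nat_lit 2, nat_lit 1, nat_lit 0, nat_lit 1, nat_lit 2, nat_lit 0, nat_lit 2, nat_lit 3, nat_lit 2] else [nat_lit 1, nat_lit 3, nat_lit 1, nat_lit 3, nat_lit 1, nat_lit 3, nat_lit 1, nat_lit 0, nat_lit 1, nat_lit 3, nat_lit 2, nat_lit 0, nat_lit 1, nat_lit 3, nat_lit 1, nat_lit 0, nat_lit 2, nat_lit 3, nat_lit 1, nat_lit 0]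
def Wt_242_245 (j : ℕ) : List ℕ := bif Nat.blt j 243 then [nat_lit 63, nat_lit 3, nat_lit 0, nat_lit 3, nat_lit 0, nat_lit 3, nat_lit 0, nat_lit 3, nat_lit 2, nat_lit 1, nat_lit 0, nat_lit 1, nat_lit 2, nat_lit 1, nat_lit 0, nat_lit 2, nat_lit 1, nat_lit 3, nat_lit 2, nat_lit 3, nat_lit 1, nat_lit 0] else (Wt_243_245 j)
def Wt_246_248 (j : ℕ) : List ℕ := bif Nat.blt j 247 then [nat_lit 63, nat_lit 3, nat_lit 0, nat_lit 3, nat_lit 0, nat_lit 2, nat_lit 1, nat_lit 0, nat_lit 3, nat_lit 2, nat_lit 3, nat_lit 1, nat_lit 2, nat_lit 0, nat_lit 1, nat_lit 2, nat_lit 3, nat_lit 0, nat_lit 2, nat_lit 3, nat_lit 2, nat_lit 0] else [nat_lit 0, nat_lit 2, nat_lit 0, nat_lit 2, nat_lit 1, nat_lit 2, nat_lit 0, nat_lit 1, nat_lit 2, nat_lit 0, nat_lit 1, nat_lit 2, nat_lit 0, nat_lit 1, nat_lit 0, nat_lit 2, nat_lit 0, nat_lit 1, nat_lit 0, nat_lit 2, nat_lit 0, nat_lit 2, nat_lit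 1]
def Wt_245_248 (j : ℕ) : List ℕ := bif Nat.blt j 246 then [nat_lit 3, nat_lit 0, nat_lit 2, nat_lit 1, nat_lit 0, nat_lit 1, nat_lit 3, nat_lit 2, nat_lit 3, nat_lit 1, nat_lit 0, nat_lit 1, nat_lit 2, nat_lit 3, nat_lit 0, nat_lit 3, nat_lit 0, nat_lit 3, nat_lit 0] else (Wt_246_248 j)
def Wt_242_248 (j : ℕ) : List ℕ := bif Nat.blt j 245 then (Wt_242_245 j) else (Wt_245_248 j)
def Wt_249_251 (j : ℕ) : List ℕ := bif Nat.blt j 250 then [nat_lit 63, nat_lit 2, nat_lit 3, nat_lit 0, nat_lit 1, nat_lit 2, nat_lit 1, nat_lit 0, nat_lit 2, nat_lit 0, nat_lit 2, nat_lit 1, nat_lit 2, nat_lit 0, nat_lit 2, nat_lit 0, nat_lit 1, nat_lit 2, nat_lit 1, nat_lit 0, nat_lit 3] else [nat_lit 1, nat_lit 2, nat_lit 0, nat_lit 1, nat_lit 2, nat_lit 0, nat_lit 1, nat_lit 2, nat_lit 0, nat_lit 1, nat_lit 0, nat_lit 2, nat_lit 0, nat_lit 1, nat_lit 0, nat_lit 2, nat_lit 0, nat_lit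 2, nat_lit 1, nat_lit 0, nat_lit 2, nat_lit 0, nat_lit 2]
def Wt_248_251 (j : ℕ) : List ℕ := bif Nat.blt j 249 then [nat_lit 0, nat_lit 2, nat_lit 0, nat_lit 1, nat_lit 0, nat_lit 2, nat_lit 1, nat_lit 0, nat_lit 2, nat_lit 1, nat_lit 0, nat_lit 2, nat_lit 1, nat_lit 2, nat_lit 0, nat_lit 2, nat_lit 0, nat_lit 1, nat_lit 2, nat_lit 0, nat_lit 2, nat_lit 0, nat_lit 1] else (Wt_249_251 j)
def Wt_252_254 (j : ℕ) : List ℕ := bif Nat.blt j 253 then [nat_lit 3, nat_lit 1, nat_lit 0, nat_lit 1, nat_lit 0, nat_lit 3, nat_lit 0, nat_lit 1, nat_lit 0, nat_lit 1, nat_lit 3, nat_lit 1, nat_lit 0, nat_lit 1, nat_lit 0, nat_lit 3, nat_lit 0, nat_lit 1, nat_lit 0, nat_lit 1] else [nat_lit 2, nat_lit 0, nat_lit 3, nat_lit 0, nat_lit 3, nat_lit 0, nat_lit 2, nat_lit 3, nat_lit 2, nat_lit 0, nat_lit 3, nat_lit 2, nat_lit 1, nat_lit 0, nat_lit 2, nat_lit 1, nat_lit 3, nat_lit 2, nat_lit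 3, nat_lit 0, nat_lit 1]
def Wt_251_254 (j : ℕ) : List ℕ := bif Nat.blt j 252 then [nat_lit 3, nat_lit 1, nat_lit 3, nat_lit 0, nat_lit 2, nat_lit 3, nat_lit 1, nat_lit 3, nat_lit 2, nat_lit 3, nat_lit 1, nat_lit 3, nat_lit 2, nat_lit 0, nat_lit 3, nat_lit 1, nat_lit 3, nat_lit 0] else (Wt_252_254 j)
def Wt_248_254 (j : ℕ) : List ℕ := bif Nat.blt j 251 then (Wt_248_251 j) else (Wt_251_254 j)
def Wt_242_254 (j : ℕ) : List ℕ := bif Nat.blt j 248 then (Wt_242_248 j) else (Wt_248_254 j)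
def Wt_231_254 (j : ℕ) : List ℕ := bif Nat.blt j 242 then (Wt_231_242 j) else (Wt_242_254 j)
def Wt_255_257 (j : ℕ) : List ℕ := bif Nat.blt j 256 then [nat_lit 63, nat_lit 3, nat_lit 1, nat_lit 2, nat_lit 0, nat_lit 1, nat_lit 3, nat_lit 1, nat_lit 2, nat_lit 1, nat_lit 0, nat_lit 3, nat_lit 0, nat_lit 1, nat_lit 0, nat_lit 1, nat_lit 2, nat_lit 3, nat_lit 0, nat_lit 3, nat_lit 0, nat_lit 1, nat_lit 0] else [nat_lit 0, nat_lit 1, nat_lit 2, nat_lit 0, nat_lit 1, nat_lit 2, nat_lit 0, nat_lit 1, nat_lit 0, nat_lit 2, nat_lit 1, nat_lit 0, nat_lit 2, nat_lit 1, nat_lit 2, nat_lit 0, nat_lit 1, nat_lit 0, nat_lit 2, nat_lit 0, nat_lit 2, nat_lit 0, nat_lit 2]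
def Wt_254_257 (j : ℕ) : List ℕ := bif Nat.blt j 255 then [nat_lit 0, nat_lit 3, nat_lit 0, nat_lit 3, nat_lit 0, nat_lit 2, nat_lit 3, nat_lit 2, nat_lit 0, nat_lit 2, nat_lit 1, nat_lit 0, nat_lit 1, nat_lit 2, nat_lit 1, nat_lit 0, nat_lit 1, nat_lit 2, nat_lit 3] else (Wt_255_257 j)
def Wt_258_260 (j : ℕ) : List ℕ := bif Nat.blt j 259 then [nat_lit 0, nat_lit 2, nat_lit 1, nat_lit 2, nat_lit 0, nat_lit 1, nat_lit 2, nat_lit 0, nat_lit 1, nat_lit 0, nat_lit 2, nat_lit 1, nat_lit 0, nat_lit 2, nat_lit 1, nat_lit 0, nat_lit 2, nat_lit 0, nat_lit 2, nat_lit 0, nat_lit 2, nat_lit 0, nat_lit 1] else [nat_lit 63, nat_lit 1, nat_lit 2, nat_lit 0, nat_lit 1, nat_lit 0, nat_lit 1, nat_lit 0, nat_lit 1, nat_lit 0, nat_lit 2, nat_lit 1, nat_lit 0, nat_lit 2, nat_lit 1, nat_lit 0, nat_lit 2, nat_lit 0, nat_lit 2, nat_lit 0, nat_lit 1, nat_lit 2, nat_lit 0, nat_lit 2]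
def Wt_257_260 (j : ℕ) : List ℕ := bif Nat.blt j 258 then [nat_lit 63, nat_lit 2, nat_lit 1, nat_lit 2, nat_lit 0, nat_lit 1, nat_lit 0, nat_lit 1, nat_lit 0, nat_lit 1, nat_lit 0, nat_lit 2, nat_lit 1, nat_lit 0, nat_lit 2, nat_lit 1, nat_lit 0, nat_lit 2, nat_lit 0, nat_lit 2, nat_lit 0, nat_lit 1, nat_lit 2, nat_lit 0] else (Wt_258_260 j)
def Wt_254_260 (j : ℕ) : List ℕ := bif Nat.blt j 257 then (Wt_254_257 j) else (Wt_257_260 j)
def Wt_261_263 (j : ℕ) : List ℕ := bif Nat.blt j 262 then [nat_lit 2, nat_lit 0, nat_lit 1, nat_lit 0, nat_lit 2, nat_lit 0, nat_lit 1, nat_lit 0, nat_lit 2, nat_lit 0, nat_lit 2, nat_lit 1, nat_lit 0, nat_lit 2, nat_lit 0, nat_lit 2, nat_lit 1, nat_lit 2, nat_lit 0, nat_lit 1, nat_lit 2, nat_lit 0, nat_lit 1] else [nat_lit 0, nat_lit 2, nat_lit 0, nat_lit 1, nat_lit 0, nat_lit 2, nat_lit 0, nat_lit 2, nat_lit 1, nat_lit 0, nat_lit 2,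 nat_lit 0, nat_lit 2, nat_lit 1, nat_lit 2, nat_lit 0, nat_lit 1, nat_lit 2, nat_lit 0, nat_lit 1, nat_lit 2, nat_lit 0, nat_lit 1]
def Wt_260_263 (j : ℕ) : List ℕ := bif Nat.blt j 261 then [nat_lit 2, nat_lit 1, nat_lit 0, nat_lit 2, nat_lit 1, nat_lit 0, nat_lit 2, nat_lit 0, nat_lit 2, nat_lit 0, nat_lit 1, nat_lit 2, nat_lit 0, nat_lit 2, nat_lit 1, nat_lit 2, nat_lit 0, nat_lit 1, nat_lit 0, nat_lit 1, nat_lit 0, nat_lit 1, nat_lit 0] else (Wt_261_263 j)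
def Wt_264_266 (j : ℕ) : List ℕ := bif Nat.blt j 265 then [nat_lit 3, nat_lit 0, nat_lit 3, nat_lit 2, nat_lit 1, nat_lit 0, nat_lit 1, nat_lit 2, nat_lit 1, nat_lit 0, nat_lit 1, nat_lit 2, nat_lit 0, nat_lit 2, nat_lit 3, nat_lit 2, nat_lit 0, nat_lit 3, nat_lit 0] else [nat_lit 0, nat_lit 1, nat_lit 0, nat_lit 3, nat_lit 1, nat_lit 2, nat_lit 0, nat_lit 1, nat_lit 3, nat_lit 1, nat_lit 2, nat_lit 1, nat_lit 0, nat_lit 3, nat_lit 0, nat_lit 1, nat_lit 0, nat_lit 1, nat_lit 2, nat_lit 3, nat_lit 0, nat_lit 3]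
def Wt_263_266 (j : ℕ) : List ℕ := bif Nat.blt j 264 then [nat_lit 63, nat_lit 1, nat_lit 0, nat_lit 1, nat_lit 0, nat_lit 2, nat_lit 1, nat_lit 0, nat_lit 2, nat_lit 1, nat_lit 0, nat_lit 2, nat_lit 0, nat_lit 2, nat_lit 0, nat_lit 1, nat_lit 2, nat_lit 0, nat_lit 2, nat_lit 1, nat_lit 2, nat_lit 0, nat_lit 1, nat_lit 0] else (Wt_264_266 j)
def Wt_260_266 (j : ℕ) : List ℕ := bif Nat.blt j 263 then (Wt_260_263 j) else (Wt_263_266 j)
def Wt_254_266 (j : ℕ) : List ℕ := bif Nat.blt j 260 then (Wt_254_260 j) else (Wt_260_266 j)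
def Wt_267_269 (j : ℕ) : List ℕ := bif Nat.blt j 268 then [nat_lit 0, nat_lit 3, nat_lit 2, nat_lit 1, nat_lit 0, nat_lit 1, nat_lit 3, nat_lit 2, nat_lit 3, nat_lit 1, nat_lit 0, nat_lit 1, nat_lit 2, nat_lit 0, nat_lit 3, nat_lit 0, nat_lit 3, nat_lit 0, nat_lit 3] else [nat_lit 63, nat_lit 2, nat_lit 1, nat_lit 3, nat_lit 2, nat_lit 3, nat_lit 1, nat_lit 0, nat_lit 3, nat_lit 0, nat_lit 3, nat_lit 0, nat_lit 3, nat_lit 0, nat_lit 3, nat_lit 2, nat_lit 1, nat_lit 0, nat_lit 1, nat_lit 2, nat_lit 1, nat_lit 0]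
def Wt_266_269 (j : ℕ) : List ℕ := bif Nat.blt j 267 then [nat_lit 0, nat_lit 1, nat_lit 3, nat_lit 1, nat_lit 3, nat_lit 1, nat_lit 3, nat_lit 1, nat_lit 0, nat_lit 1, nat_lit 3, nat_lit 2, nat_lit 0, nat_lit 1, nat_lit 3, nat_lit 1, nat_lit 0, nat_lit 2, nat_lit 3, nat_lit 1] else (Wt_267_269 j)
def Wt_270_272 (j : ℕ) : List ℕ := bif Nat.blt j 271 then [nat_lit 0, nat_lit 63, nat_lit 0, nat_lit 63] else [nat_lit 63, nat_lit 3, nat_lit 0, nat_lit 3, nat_lit 0, nat_lit 3, nat_lit 0, nat_lit 3, nat_lit 0, nat_lit 2, nat_lit 1, nat_lit 0, nat_lit 1, nat_lit 3, nat_lit 2, nat_lit 3, nat_lit 1, nat_lit 0, nat_lit 1, nat_lit 2]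
def Wt_269_272 (j : ℕ) : List ℕ := bif Nat.blt j 270 then [nat_lit 63, nat_lit 2, nat_lit 1, nat_lit 0, nat_lit 1, nat_lit 2, nat_lit 0, nat_lit 3, nat_lit 0, nat_lit 3, nat_lit 0, nat_lit 2, nat_lit 3, nat_lit 2, nat_lit 0, nat_lit 3, nat_lit 2, nat_lit 1, nat_lit 0, nat_lit 1] else (Wt_270_272 j)
def Wt_266_272 (j : ℕ) : List ℕ := bif Nat.blt j 269 then (Wt_266_269 j) else (Wt_269_272 j)
def Wt_273_275 (j : ℕ) : List ℕ := bif Nat.blt j 274 then [nat_lit 63, nat_lit 3, nat_lit 2, nat_lit 0, nat_lit 3, nat_lit 1, nat_lit 3, nat_lit 0, nat_lit 3, nat_lit 1, nat_lit 3, nat_lit 0, nat_lit 2, nat_lit 3, nat_lit 1, nat_lit 3, nat_lit 2, nat_lit 3, nat_lit 1] else [nat_lit 63, nat_lit 1, nat_lit 3, nat_lit 0, nat_lit 2, nat_lit 3, nat_lit 1, nat_lit 3, nat_lit 2, nat_lit 3, nat_lit 1, nat_lit 3, nat_lit 2, nat_lit 0, nat_lit 3, nat_lit 1, nat_lit 3, nat_lit 0, nat_lit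 3]
def Wt_272_275 (j : ℕ) : List ℕ := bif Nat.blt j 273 then [nat_lit 1, nat_lit 3, nat_lit 1, nat_lit 3, nat_lit 1, nat_lit 0, nat_lit 1, nat_lit 3, nat_lit 2, nat_lit 0, nat_lit 1, nat_lit 3, nat_lit 1, nat_lit 0, nat_lit 2, nat_lit 3, nat_lit 1, nat_lit 0, nat_lit 1, nat_lit 3] else (Wt_273_275 j)
def Wt_276_278 (j : ℕ) : List ℕ := bif Nat.blt j 277 then [nat_lit 0, nat_lit 1, nat_lit 0, nat_lit 2, nat_lit 0, nat_lit 1, nat_lit 0, nat_lit 2, nat_lit 1, nat_lit 0, nat_lit 2, nat_lit 1, nat_lit 0, nat_lit 2, nat_lit 1, nat_lit 2, nat_lit 0, nat_lit 2, nat_lit 0, nat_lit 1, nat_lit 2, nat_lit 0, nat_lit 2] else [nat_lit 1, nat_lit 0, nat_lit 1, nat_lit 0, nat_lit 3, nat_lit 0, nat_lit 1, nat_lit 0, nat_lit 1, nat_lit 3, nat_lit 1, nat_lit 0, nat_lit 1, nat_lit 0, nat_lit 3, nat_lit 0, nat_lit 1, nat_lit 0, nat_lit 1, nat_lit 3]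
def Wt_275_278 (j : ℕ) : List ℕ := bif Nat.blt j 276 then [nat_lit 0, nat_lit 1, nat_lit 0, nat_lit 2, nat_lit 1, nat_lit 0, nat_lit 2, nat_lit 1, nat_lit 0, nat_lit 2, nat_lit 0, nat_lit 2, nat_lit 0, nat_lit 2, nat_lit 0, nat_lit 1, nat_lit 0, nat_lit 2, nat_lit 1, nat_lit 2, nat_lit 0, nat_lit 1, nat_lit 2] else (Wt_276_278 j)
def Wt_272_278 (j : ℕ) : List ℕ := bif Nat.blt j 275 then (Wt_272_275 j) else (Wt_275_278 j)
def Wt_266_278 (j : ℕ) : List ℕ := bif Nat.blt j 272 then (Wt_266_272 j) else (Wt_272_278 j)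
def Wt_254_278 (j : ℕ) : List ℕ := bif Nat.blt j 266 then (Wt_254_266 j) else (Wt_266_278 j)
def Wt_231_278 (j : ℕ) : List ℕ := bif Nat.blt j 254 then (Wt_231_254 j) else (Wt_254_278 j)
def Wt_185_278 (j : ℕ) : List ℕ := bif Nat.blt j 231 then (Wt_185_231 j) else (Wt_231_278 j)
def Wt_278_280 (j : ℕ) : List ℕ := bif Nat.blt j 279 then [nat_lit 63, nat_lit 1, nat_lit 3, nat_lit 2, nat_lit 3, nat_lit 1, nat_lit 3, nat_lit 2, nat_lit 0, nat_lit 3, nat_lit 1, nat_lit 3, nat_lit 0, nat_lit 3, nat_lit 1, nat_lit 3, nat_lit 0, nat_lit 2, nat_lit 3] else [nat_lit 3, nat_lit 2, nat_lit 0, nat_lit 2, nat_lit 1, nat_lit 0, nat_lit 1, nat_lit 2, nat_lit 1, nat_lit 0, nat_lit 1, nat_lit 2, nat_lit 3, nat_lit 0, nat_lit 3, nat_lit 0, nat_lit 3, nat_lit 0, nat_lit 2]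
def Wt_281_283 (j : ℕ) : List ℕ := bif Nat.blt j 282 then [nat_lit 2, nat_lit 3, nat_lit 1, nat_lit 0, nat_lit 1, nat_lit 3, nat_lit 1, nat_lit 3, nat_lit 1, nat_lit 3, nat_lit 1, nat_lit 0, nat_lit 1, nat_lit 3, nat_lit 2, nat_lit 0, nat_lit 1, nat_lit 3, nat_lit 1, nat_lit 0] else [nat_lit 3, nat_lit 1, nat_lit 2, nat_lit 1, nat_lit 0, nat_lit 3, nat_lit 0, nat_lit 1, nat_lit 0, nat_lit 1, nat_lit 2, nat_lit 3, nat_lit 0, nat_lit 3, nat_lit 0, nat_lit 1, nat_lit 0, nat_lit 3, nat_lit 1, nat_lit 2, nat_lit 0, nat_lit 1]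
def Wt_280_283 (j : ℕ) : List ℕ := bif Nat.blt j 281 then [nat_lit 63, nat_lit 0, nat_lit 1, nat_lit 3, nat_lit 2, nat_lit 3, nat_lit 1, nat_lit 2, nat_lit 0, nat_lit 1, nat_lit 2, nat_lit 1, nat_lit 0, nat_lit 1, nat_lit 2, nat_lit 3, nat_lit 0, nat_lit 3, nat_lit 0, nat_lit 3, nat_lit 0, nat_lit 3] else (Wt_281_283 j)
def Wt_278_283 (j : ℕ) : List ℕ := bif Nat.blt j 280 then (Wt_278_280 j) else (Wt_280_283 j)
def Wt_284_286 (j : ℕ) : List ℕ := bif Nat.blt j 285 then [nat_lit 2, nat_lit 0, nat_lit 2, nat_lit 0, nat_lit 1, nat_lit 2, nat_lit 0, nat_lit 1, nat_lit 2, nat_lit 0, nat_lit 1, nat_lit 0, nat_lit 1, nat_lit 0, nat_lit 1, nat_lit 0, nat_lit 2, nat_lit 1, nat_lit 2, nat_lit 0, nat_lit 2, nat_lit 1, nat_lit 0] else [nat_lit 0, nat_lit 2, nat_lit 0, nat_lit 2, nat_lit 0, nat_lit 2, nat_lit 0, nat_lit 1, nat_lit 2, nat_lit 0, nat_lit 1, nat_lit 2, nat_lit 0,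 nat_lit 1, nat_lit 0, nat_lit 2, nat_lit 1, nat_lit 0, nat_lit 2, nat_lit 1, nat_lit 2, nat_lit 0, nat_lit 1]
def Wt_283_286 (j : ℕ) : List ℕ := bif Nat.blt j 284 then [nat_lit 1, nat_lit 3, nat_lit 2, nat_lit 0, nat_lit 1, nat_lit 3, nat_lit 1, nat_lit 0, nat_lit 2, nat_lit 3, nat_lit 1, nat_lit 0, nat_lit 1, nat_lit 3, nat_lit 1, nat_lit 3, nat_lit 1, nat_lit 3, nat_lit 1, nat_lit 0] else (Wt_284_286 j)
def Wt_287_289 (j : ℕ) : List ℕ := bif Nat.blt j 288 then [nat_lit 0, nat_lit 1, nat_lit 2, nat_lit 0, nat_lit 2, nat_lit 0, nat_lit 1, nat_lit 0, nat_lit 2, nat_lit 0, nat_lit 1, nat_lit 0, nat_lit 2, nat_lit 1, nat_lit 0, nat_lit 2, nat_lit 1, nat_lit 0, nat_lit 2, nat_lit 1, nat_lit 2, nat_lit 0, nat_lit 2] else [nat_lit 63, nat_lit 2, nat_lit 1, nat_lit 0, nat_lit 3, nat_lit 2, nat_lit 3, nat_lit 0, nat_lit 1, nat_lit 2, nat_lit 1, nat_lit 0, nat_lit 2, nat_lit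 0, nat_lit 2, nat_lit 1, nat_lit 2, nat_lit 0, nat_lit 2, nat_lit 0, nat_lit 1]
def Wt_286_289 (j : ℕ) : List ℕ := bif Nat.blt j 287 then [nat_lit 63, nat_lit 1, nat_lit 0, nat_lit 3, nat_lit 0, nat_lit 3, nat_lit 0, nat_lit 3, nat_lit 0, nat_lit 3, nat_lit 2, nat_lit 1, nat_lit 0, nat_lit 1, nat_lit 2, nat_lit 1, nat_lit 0, nat_lit 2, nat_lit 1, nat_lit 3, nat_lit 2, nat_lit 3] else (Wt_287_289 j)
def Wt_283_289 (j : ℕ) : List ℕ := bif Nat.blt j 286 then (Wt_283_286 j) else (Wt_286_289 j)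
def Wt_278_289 (j : ℕ) : List ℕ := bif Nat.blt j 283 then (Wt_278_283 j) else (Wt_283_289 j)
def Wt_290_292 (j : ℕ) : List ℕ := bif Nat.blt j 291 then [nat_lit 0, nat_lit 2, nat_lit 1, nat_lit 2, nat_lit 0, nat_lit 2, nat_lit 1, nat_lit 0, nat_lit 2, nat_lit 0, nat_lit 2, nat_lit 0, nat_lit 1, nat_lit 2, nat_lit 0, nat_lit 1, nat_lit 2, nat_lit 0, nat_lit 1, nat_lit 0, nat_lit 1, nat_lit 0, nat_lit 1] else [nat_lit 1, nat_lit 0, nat_lit 2, nat_lit 1, nat_lit 0, nat_lit 2, nat_lit 1, nat_lit 2, nat_lit 0, nat_lit 2, nat_lit 0, nat_lit 1, nat_lit 2, nat_lit 0, nat_lit 2, nat_lit 0, nat_lit 1, nat_lit 0, nat_lit 2, nat_lit 0, nat_lit 1, nat_lit 0, nat_lit 2]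
def Wt_289_292 (j : ℕ) : List ℕ := bif Nat.blt j 290 then [nat_lit 1, nat_lit 2, nat_lit 1, nat_lit 0, nat_lit 3, nat_lit 2, nat_lit 3, nat_lit 0, nat_lit 1, nat_lit 2, nat_lit 1, nat_lit 0, nat_lit 2, nat_lit 0, nat_lit 2, nat_lit 1, nat_lit 2, nat_lit 0, nat_lit 2, nat_lit 0] else (Wt_290_292 j)
def Wt_293_295 (j : ℕ) : List ℕ := bif Nat.blt j 294 then [nat_lit 1, nat_lit 2, nat_lit 1, nat_lit 0, nat_lit 1, nat_lit 2, nat_lit 0, nat_lit 2, nat_lit 3, nat_lit 2, nat_lit 0, nat_lit 3, nat_lit 0, nat_lit 3, nat_lit 0, nat_lit 3, nat_lit 2, nat_lit 1, nat_lit 0] else [nat_lit 0, nat_lit 3, nat_lit 0, nat_lit 2, nat_lit 3, nat_lit 2, nat_lit 0, nat_lit 3, nat_lit 2, nat_lit 1, nat_lit 0, nat_lit 1, nat_lit 2, nat_lit 1, nat_lit 0, nat_lit 1, nat_lit 2, nat_lit 0, nat_lit 3]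
def Wt_292_295 (j : ℕ) : List ℕ := bif Nat.blt j 293 then [nat_lit 0, nat_lit 3, nat_lit 0, nat_lit 3, nat_lit 0, nat_lit 3, nat_lit 2, nat_lit 1, nat_lit 0, nat_lit 1, nat_lit 2, nat_lit 1, nat_lit 0, nat_lit 2, nat_lit 1, nat_lit 3, nat_lit 2, nat_lit 3, nat_lit 1, nat_lit 0, nat_lit 3] else (Wt_293_295 j)
def Wt_289_295 (j : ℕ) : List ℕ := bif Nat.blt j 292 then (Wt_289_292 j) else (Wt_292_295 j)
def Wt_296_298 (j : ℕ) : List ℕ := bif Nat.blt j 297 then [nat_lit 1, nat_lit 3, nat_lit 1, nat_lit 0, nat_lit 1, nat_lit 3, nat_lit 2, nat_lit 0, nat_lit 1, nat_lit 3, nat_lit 1, nat_lit 0, nat_lit 2, nat_lit 3, nat_lit 1, nat_lit 0, nat_lit 1, nat_lit 3, nat_lit 1, nat_lit 3] else [nat_lit 63, nat_lit 2, nat_lit 0, nat_lit 1, nat_lit 0, nat_lit 1, nat_lit 0, nat_lit 1, nat_lit 0, nat_lit 2, nat_lit 1, nat_lit 0, nat_lit 2, nat_lit 1, nat_lit 0, nat_lit 2, nat_lit 0,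 nat_lit 2, nat_lit 0, nat_lit 1, nat_lit 2, nat_lit 0, nat_lit 2, nat_lit 1]
def Wt_295_298 (j : ℕ) : List ℕ := bif Nat.blt j 296 then [nat_lit 0, nat_lit 3, nat_lit 0, nat_lit 3, nat_lit 2, nat_lit 1, nat_lit 0, nat_lit 1, nat_lit 2, nat_lit 1, nat_lit 0, nat_lit 2, nat_lit 1, nat_lit 3, nat_lit 2, nat_lit 3, nat_lit 1, nat_lit 0, nat_lit 3, nat_lit 0, nat_lit 3] else (Wt_296_298 j)
def Wt_299_301 (j : ℕ) : List ℕ := bif Nat.blt j 300 then [nat_lit 2, nat_lit 0, nat_lit 1, nat_lit 0, nat_lit 2, nat_lit 1, nat_lit 0, nat_lit 2, nat_lit 1, nat_lit 0, nat_lit 2, nat_lit 0, nat_lit 2, nat_lit 0, nat_lit 2, nat_lit 0, nat_lit 1, nat_lit 0, nat_lit 2, nat_lit 1, nat_lit 2, nat_lit 0, nat_lit 1] else [nat_lit 63, nat_lit 0, nat_lit 3, nat_lit 0, nat_lit 3, nat_lit 2, nat_lit 1, nat_lit 0, nat_lit 1, nat_lit 2, nat_lit 1, nat_lit 0, nat_lit 2, nat_lit 1, nat_lit 3, nat_lit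 2, nat_lit 3, nat_lit 1, nat_lit 0, nat_lit 3, nat_lit 0, nat_lit 3]
def Wt_298_301 (j : ℕ) : List ℕ := bif Nat.blt j 299 then [nat_lit 63, nat_lit 0, nat_lit 2, nat_lit 1, nat_lit 0, nat_lit 2, nat_lit 0, nat_lit 2, nat_lit 0, nat_lit 1, nat_lit 2, nat_lit 0, nat_lit 2, nat_lit 1, nat_lit 2, nat_lit 0, nat_lit 1, nat_lit 0, nat_lit 1, nat_lit 0, nat_lit 1, nat_lit 0, nat_lit 2, nat_lit 1] else (Wt_299_301 j)
def Wt_295_301 (j : ℕ) : List ℕ := bif Nat.blt j 298 then (Wt_295_298 j) else (Wt_298_301 j)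
def Wt_289_301 (j : ℕ) : List ℕ := bif Nat.blt j 295 then (Wt_289_295 j) else (Wt_295_301 j)
def Wt_278_301 (j : ℕ) : List ℕ := bif Nat.blt j 289 then (Wt_278_289 j) else (Wt_289_301 j)
def Wt_301_303 (j : ℕ) : List ℕ := bif Nat.blt j 302 then [nat_lit 3, nat_lit 2, nat_lit 3, nat_lit 1, nat_lit 0, nat_lit 1, nat_lit 2, nat_lit 3, nat_lit 0, nat_lit 3, nat_lit 0, nat_lit 3, nat_lit 0, nat_lit 3, nat_lit 0, nat_lit 2, nat_lit 1, nat_lit 0, nat_lit 1] else [nat_lit 1, nat_lit 2, nat_lit 3, nat_lit 0, nat_lit 3, nat_lit 0, nat_lit 3, nat_lit 0, nat_lit 2, nat_lit 3, nat_lit 2, nat_lit 0, nat_lit 2, nat_lit 1, nat_lit 0, nat_lit 1, nat_lit 2, nat_lit 1, nat_lit 0]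
def Wt_304_306 (j : ℕ) : List ℕ := bif Nat.blt j 305 then [nat_lit 63, nat_lit 3, nat_lit 0, nat_lit 3, nat_lit 0, nat_lit 3, nat_lit 0, nat_lit 2, nat_lit 1, nat_lit 0, nat_lit 1, nat_lit 3, nat_lit 2, nat_lit 3, nat_lit 1, nat_lit 0, nat_lit 1, nat_lit 2, nat_lit 3, nat_lit 0] else [nat_lit 1, nat_lit 2, nat_lit 0, nat_lit 2, nat_lit 1, nat_lit 0, nat_lit 2, nat_lit 0, nat_lit 2, nat_lit 0, nat_lit 1, nat_lit 2, nat_lit 0, nat_lit 1, nat_lit 2, nat_lit 0, nat_lit 1, nat_lit 0, nat_lit 1, nat_lit 0, nat_lit 1, nat_lit 0, nat_lit 2]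
def Wt_303_306 (j : ℕ) : List ℕ := bif Nat.blt j 304 then [nat_lit 63, nat_lit 0, nat_lit 1, nat_lit 2, nat_lit 0, nat_lit 3, nat_lit 0, nat_lit 3, nat_lit 0, nat_lit 3, nat_lit 0, nat_lit 3, nat_lit 2, nat_lit 1, nat_lit 0, nat_lit 1, nat_lit 3, nat_lit 2, nat_lit 3, nat_lit 1] else (Wt_304_306 j)
def Wt_301_306 (j : ℕ) : List ℕ := bif Nat.blt j 303 then (Wt_301_303 j) else (Wt_303_306 j)
def Wt_307_309 (j : ℕ) : List ℕ := bif Nat.blt j 308 then [nat_lit 63, nat_lit 0, nat_lit 3, nat_lit 0, nat_lit 2, nat_lit 3, nat_lit 2, nat_lit 0, nat_lit 2, nat_lit 1, nat_lit 0, nat_lit 1, nat_lit 2, nat_lit 1, nat_lit 0, nat_lit 1, nat_lit 2, nat_lit 3, nat_lit 0, nat_lit 3] else [nat_lit 63, nat_lit 1, nat_lit 2, nat_lit 1, nat_lit 0, nat_lit 1, nat_lit 2, nat_lit 3, nat_lit 0, nat_lit 3, nat_lit 0, nat_lit 3, nat_lit 0, nat_lit 2, nat_lit 3, nat_lit 2, nat_lit 0, nat_lit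 2, nat_lit 1, nat_lit 0]
def Wt_306_309 (j : ℕ) : List ℕ := bif Nat.blt j 307 then [nat_lit 1, nat_lit 0, nat_lit 3, nat_lit 2, nat_lit 3, nat_lit 0, nat_lit 1, nat_lit 2, nat_lit 1, nat_lit 0, nat_lit 2, nat_lit 0, nat_lit 2, nat_lit 1, nat_lit 2, nat_lit 0, nat_lit 2, nat_lit 0, nat_lit 1, nat_lit 2] else (Wt_307_309 j)
def Wt_310_312 (j : ℕ) : List ℕ := bif Nat.blt j 311 then [nat_lit 1, nat_lit 0, nat_lit 1, nat_lit 2, nat_lit 3, nat_lit 0, nat_lit 3, nat_lit 0, nat_lit 3, nat_lit 0, nat_lit 2, nat_lit 3, nat_lit 2, nat_lit 0, nat_lit 2, nat_lit 1, nat_lit 0, nat_lit 1, nat_lit 2] else [nat_lit 2, nat_lit 0, nat_lit 2, nat_lit 0, nat_lit 1, nat_lit 2, nat_lit 0, nat_lit 2, nat_lit 0, nat_lit 1, nat_lit 0, nat_lit 2, nat_lit 0, nat_lit 1, nat_lit 0, nat_lit 2, nat_lit 1, nat_lit 0, nat_lit 2, nat_lit 1, nat_lit 0, nat_lit 2, nat_lit 1]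
def Wt_309_312 (j : ℕ) : List ℕ := bif Nat.blt j 310 then [nat_lit 2, nat_lit 0, nat_lit 1, nat_lit 2, nat_lit 0, nat_lit 1, nat_lit 0, nat_lit 2, nat_lit 0, nat_lit 1, nat_lit 0, nat_lit 2, nat_lit 0, nat_lit 2, nat_lit 1, nat_lit 0, nat_lit 2, nat_lit 0, nat_lit 2, nat_lit 1, nat_lit 2, nat_lit 0, nat_lit 1] else (Wt_310_312 j)
def Wt_306_312 (j : ℕ) : List ℕ := bif Nat.blt j 309 then (Wt_306_309 j) else (Wt_309_312 j)
def Wt_301_312 (j : ℕ) : List ℕ := bif Nat.blt j 306 then (Wt_301_306 j) else (Wt_306_312 j)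
def Wt_313_315 (j : ℕ) : List ℕ := bif Nat.blt j 314 then [nat_lit 3, nat_lit 2, nat_lit 3, nat_lit 1, nat_lit 0, nat_lit 1, nat_lit 2, nat_lit 0, nat_lit 3, nat_lit 0, nat_lit 3, nat_lit 0, nat_lit 3, nat_lit 0, nat_lit 3, nat_lit 2, nat_lit 1, nat_lit 0, nat_lit 1] else [nat_lit 2, nat_lit 0, nat_lit 2, nat_lit 1, nat_lit 2, nat_lit 0, nat_lit 2, nat_lit 0, nat_lit 1, nat_lit 2, nat_lit 1, nat_lit 0, nat_lit 3, nat_lit 2, nat_lit 3, nat_lit 0, nat_lit 1, nat_lit 2, nat_lit 1, nat_lit 0]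
def Wt_312_315 (j : ℕ) : List ℕ := bif Nat.blt j 313 then [nat_lit 2, nat_lit 0, nat_lit 1, nat_lit 3, nat_lit 1, nat_lit 2, nat_lit 1, nat_lit 0, nat_lit 3, nat_lit 0, nat_lit 1, nat_lit 0, nat_lit 1, nat_lit 2, nat_lit 3, nat_lit 0, nat_lit 3, nat_lit 0, nat_lit 1, nat_lit 0, nat_lit 3, nat_lit 1] else (Wt_313_315 j)
def Wt_316_318 (j : ℕ) : List ℕ := bif Nat.blt j 317 then [nat_lit 63, nat_lit 0, nat_lit 3, nat_lit 0, nat_lit 3, nat_lit 0, nat_lit 3, nat_lit 0, nat_lit 3, nat_lit 2, nat_lit 1, nat_lit 0, nat_lit 1, nat_lit 2, nat_lit 1, nat_lit 0, nat_lit 2, nat_lit 1, nat_lit 3, nat_lit 2, nat_lit 3, nat_lit 1] else [nat_lit 1, nat_lit 3, nat_lit 0, nat_lit 3, nat_lit 1, nat_lit 3, nat_lit 0, nat_lit 2, nat_lit 3, nat_lit 1, nat_lit 3, nat_lit 2, nat_lit 3, nat_lit 1, nat_lit 3, nat_lit 2, nat_lit 0, nat_lit 3]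
def Wt_315_318 (j : ℕ) : List ℕ := bif Nat.blt j 316 then [nat_lit 63, nat_lit 2, nat_lit 1, nat_lit 2, nat_lit 0, nat_lit 2, nat_lit 0, nat_lit 1, nat_lit 2, nat_lit 1, nat_lit 0, nat_lit 3, nat_lit 2, nat_lit 3, nat_lit 0, nat_lit 1, nat_lit 2, nat_lit 1, nat_lit 0, nat_lit 2, nat_lit 0] else (Wt_316_318 j)
def Wt_312_318 (j : ℕ) : List ℕ := bif Nat.blt j 315 then (Wt_312_315 j) else (Wt_315_318 j)
def Wt_319_321 (j : ℕ) : List ℕ := bif Nat.blt j 320 then [nat_lit 1, nat_lit 0, nat_lit 2, nat_lit 3, nat_lit 1, nat_lit 0, nat_lit 1, nat_lit 3, nat_lit 1, nat_lit 3, nat_lit 1, nat_lit 3, nat_lit 1, nat_lit 0, nat_lit 1, nat_lit 3, nat_lit 2, nat_lit 0, nat_lit 1, nat_lit 3] else [nat_lit 63, nat_lit 2, nat_lit 3, nat_lit 1, nat_lit 3, nat_lit 2, nat_lit 3, nat_lit 1, nat_lit 3, nat_lit 2, nat_lit 0, nat_lit 3, nat_lit 1, nat_lit 3, nat_lit 0, nat_lit 3, nat_lit 1,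 nat_lit 3, nat_lit 0]
def Wt_318_321 (j : ℕ) : List ℕ := bif Nat.blt j 319 then [nat_lit 63, nat_lit 2, nat_lit 3, nat_lit 1, nat_lit 2, nat_lit 0, nat_lit 1, nat_lit 2, nat_lit 1, nat_lit 0, nat_lit 1, nat_lit 2, nat_lit 3, nat_lit 0, nat_lit 3, nat_lit 0, nat_lit 3, nat_lit 0, nat_lit 3, nat_lit 0, nat_lit 1, nat_lit 3] else (Wt_319_321 j)
def Wt_322_324 (j : ℕ) : List ℕ := bif Nat.blt j 323 then [nat_lit 1, nat_lit 3, nat_lit 1, nat_lit 0, nat_lit 2, nat_lit 3, nat_lit 1, nat_lit 0, nat_lit 1, nat_lit 3, nat_lit 1, nat_lit 3, nat_lit 1, nat_lit 3, nat_lit 1, nat_lit 0, nat_lit 1, nat_lit 3, nat_lit 2, nat_lit 0] else [nat_lit 63, nat_lit 0, nat_lit 2, nat_lit 0, nat_lit 2, nat_lit 1, nat_lit 2, nat_lit 0, nat_lit 2, nat_lit 0, nat_lit 1, nat_lit 2, nat_lit 1, nat_lit 0, nat_lit 3, nat_lit 2, nat_lit 3, nat_lit 0, nat_lit 1, nat_lit 2, nat_lit 1]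
def Wt_321_324 (j : ℕ) : List ℕ := bif Nat.blt j 322 then [nat_lit 63, nat_lit 1, nat_lit 2, nat_lit 1, nat_lit 0, nat_lit 1, nat_lit 2, nat_lit 3, nat_lit 0, nat_lit 2, nat_lit 3, nat_lit 2, nat_lit 0, nat_lit 3, nat_lit 0, nat_lit 3, nat_lit 0, nat_lit 2, nat_lit 1, nat_lit 0] else (Wt_322_324 j)
def Wt_318_324 (j : ℕ) : List ℕ := bif Nat.blt j 321 then (Wt_318_321 j) else (Wt_321_324 j)
def Wt_312_324 (j : ℕ) : List ℕ := bif Nat.blt j 318 then (Wt_312_318 j) else (Wt_318_324 j)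
def Wt_301_324 (j : ℕ) : List ℕ := bif Nat.blt j 312 then (Wt_301_312 j) else (Wt_312_324 j)
def Wt_278_324 (j : ℕ) : List ℕ := bif Nat.blt j 301 then (Wt_278_301 j) else (Wt_301_324 j)
def Wt_324_326 (j : ℕ) : List ℕ := bif Nat.blt j 325 then [nat_lit 1, nat_lit 2, nat_lit 0, nat_lit 1, nat_lit 2, nat_lit 0, nat_lit 1, nat_lit 0, nat_lit 2, nat_lit 0, nat_lit 1, nat_lit 0, nat_lit 2, nat_lit 0, nat_lit 2, nat_lit 1, nat_lit 0, nat_lit 2, nat_lit 0, nat_lit 2, nat_lit 1, nat_lit 2, nat_lit 0] else [nat_lit 0, nat_lit 2, nat_lit 1, nat_lit 0, nat_lit 2, nat_lit 1, nat_lit 0, nat_lit 2, nat_lit 0, nat_lit 2, nat_lit 0, nat_lit 1, nat_lit 2, nat_lit 0, nat_lit 2, nat_lit 1, nat_lit 2, nat_lit 0, nat_lit 1, nat_lit 0, nat_lit 1, nat_lit 0, nat_lit 1]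
def Wt_327_329 (j : ℕ) : List ℕ := bif Nat.blt j 328 then [nat_lit 63, nat_lit 2, nat_lit 0, nat_lit 1, nat_lit 2, nat_lit 0, nat_lit 1, nat_lit 0, nat_lit 2, nat_lit 1, nat_lit 0, nat_lit 2, nat_lit 1, nat_lit 0, nat_lit 2, nat_lit 0, nat_lit 2, nat_lit 0, nat_lit 2, nat_lit 0, nat_lit 1, nat_lit 0, nat_lit 2, nat_lit 1] else [nat_lit 3, nat_lit 0, nat_lit 3, nat_lit 2, nat_lit 1, nat_lit 0, nat_lit 1, nat_lit 2, nat_lit 1, nat_lit 0, nat_lit 2, nat_lit 1, nat_lit 3, nat_lit 2, nat_lit 3, nat_lit 1, nat_lit 0, nat_lit 3, nat_lit 0, nat_lit 3, nat_lit 0]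
def Wt_326_329 (j : ℕ) : List ℕ := bif Nat.blt j 327 then [nat_lit 0, nat_lit 2, nat_lit 1, nat_lit 2, nat_lit 0, nat_lit 2, nat_lit 0, nat_lit 1, nat_lit 2, nat_lit 1, nat_lit 0, nat_lit 3, nat_lit 2, nat_lit 3, nat_lit 0, nat_lit 1, nat_lit 2, nat_lit 1, nat_lit 0, nat_lit 2] else (Wt_327_329 j)
def Wt_324_329 (j : ℕ) : List ℕ := bif Nat.blt j 326 then (Wt_324_326 j) else (Wt_326_329 j)
def Wt_330_332 (j : ℕ) : List ℕ := bif Nat.blt j 331 then [nat_lit 2, nat_lit 0, nat_lit 1, nat_lit 0, nat_lit 1, nat_lit 0, nat_lit 1, nat_lit 0, nat_lit 2, nat_lit 1, nat_lit 0, nat_lit 2, nat_lit 1, nat_lit 0, nat_lit 2, nat_lit 0, nat_lit 2, nat_lit 0, nat_lit 1, nat_lit 2, nat_lit 0, nat_lit 2, nat_lit 1] else [nat_lit 2, nat_lit 1, nat_lit 0, nat_lit 2, nat_lit 1, nat_lit 2, nat_lit 0, nat_lit 2, nat_lit 0, nat_lit 1, nat_lit 2, nat_lit 0, nat_lit 2, nat_lit 0, nat_lit 1,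 nat_lit 0, nat_lit 2, nat_lit 0, nat_lit 1, nat_lit 0, nat_lit 2, nat_lit 1, nat_lit 0]
def Wt_329_332 (j : ℕ) : List ℕ := bif Nat.blt j 330 then [nat_lit 1, nat_lit 2, nat_lit 0, nat_lit 1, nat_lit 0, nat_lit 2, nat_lit 0, nat_lit 1, nat_lit 0, nat_lit 2, nat_lit 0, nat_lit 2, nat_lit 1, nat_lit 0, nat_lit 2, nat_lit 0, nat_lit 2, nat_lit 1, nat_lit 2, nat_lit 0, nat_lit 1, nat_lit 2, nat_lit 0] else (Wt_330_332 j)
def Wt_333_335 (j : ℕ) : List ℕ := bif Nat.blt j 334 then [nat_lit 3, nat_lit 2, nat_lit 1, nat_lit 0, nat_lit 1, nat_lit 2, nat_lit 1, nat_lit 0, nat_lit 1, nat_lit 2, nat_lit 0, nat_lit 2, nat_lit 3, nat_lit 2, nat_lit 0, nat_lit 3, nat_lit 0, nat_lit 3, nat_lit 0] else [nat_lit 2, nat_lit 0, nat_lit 3, nat_lit 2, nat_lit 1, nat_lit 0, nat_lit 2, nat_lit 1, nat_lit 3, nat_lit 2, nat_lit 3, nat_lit 0, nat_lit 1, nat_lit 2, nat_lit 0, nat_lit 3, nat_lit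 0, nat_lit 3, nat_lit 0, nat_lit 2, nat_lit 3]
def Wt_332_335 (j : ℕ) : List ℕ := bif Nat.blt j 333 then [nat_lit 1, nat_lit 3, nat_lit 2, nat_lit 0, nat_lit 3, nat_lit 1, nat_lit 3, nat_lit 0, nat_lit 3, nat_lit 1, nat_lit 3, nat_lit 0, nat_lit 2, nat_lit 3, nat_lit 1, nat_lit 3, nat_lit 2, nat_lit 3] else (Wt_333_335 j)
def Wt_329_335 (j : ℕ) : List ℕ := bif Nat.blt j 332 then (Wt_329_332 j) else (Wt_332_335 j)
def Wt_324_335 (j : ℕ) : List ℕ := bif Nat.blt j 329 then (Wt_324_329 j) else (Wt_329_335 j)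
def Wt_336_338 (j : ℕ) : List ℕ := bif Nat.blt j 337 then [nat_lit 2, nat_lit 1, nat_lit 0, nat_lit 2, nat_lit 0, nat_lit 2, nat_lit 1, nat_lit 2, nat_lit 0, nat_lit 1, nat_lit 2, nat_lit 0, nat_lit 1, nat_lit 2, nat_lit 0, nat_lit 1, nat_lit 0, nat_lit 2, nat_lit 0, nat_lit 1, nat_lit 0, nat_lit 2, nat_lit 0] else [nat_lit 2, nat_lit 0, nat_lit 1, nat_lit 3, nat_lit 1, nat_lit 0, nat_lit 2, nat_lit 3, nat_lit 1, nat_lit 0, nat_lit 1, nat_lit 3, nat_lit 1, nat_lit 3, nat_lit 1, nat_lit 3, nat_lit 1, nat_lit 0, nat_lit 1, nat_lit 3]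
def Wt_335_338 (j : ℕ) : List ℕ := bif Nat.blt j 336 then [nat_lit 3, nat_lit 0, nat_lit 1, nat_lit 0, nat_lit 3, nat_lit 1, nat_lit 2, nat_lit 0, nat_lit 1, nat_lit 3, nat_lit 1, nat_lit 2, nat_lit 1, nat_lit 0, nat_lit 3, nat_lit 0, nat_lit 1, nat_lit 0, nat_lit 1, nat_lit 2, nat_lit 3, nat_lit 0] else (Wt_336_338 j)
def Wt_339_341 (j : ℕ) : List ℕ := bif Nat.blt j 340 then [nat_lit 63, nat_lit 1, nat_lit 2, nat_lit 1, nat_lit 0, nat_lit 2, nat_lit 0, nat_lit 1, nat_lit 3, nat_lit 2, nat_lit 3, nat_lit 1, nat_lit 0, nat_lit 2, nat_lit 0, nat_lit 1, nat_lit 2, nat_lit 1, nat_lit 0, nat_lit 2, nat_lit 0] else [nat_lit 1, nat_lit 2, nat_lit 0, nat_lit 1, nat_lit 0, nat_lit 2, nat_lit 1, nat_lit 0, nat_lit 2, nat_lit 1, nat_lit 2, nat_lit 0, nat_lit 1, nat_lit 0, nat_lit 2, nat_lit 0, nat_lit 2, nat_lit 0, nat_lit 2, nat_lit 0, nat_lit 1, nat_lit 2, nat_lit 0]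
def Wt_338_341 (j : ℕ) : List ℕ := bif Nat.blt j 339 then [nat_lit 1, nat_lit 0, nat_lit 1, nat_lit 0, nat_lit 3, nat_lit 0, nat_lit 1, nat_lit 2, nat_lit 1, nat_lit 3, nat_lit 1, nat_lit 0, nat_lit 2, nat_lit 1, nat_lit 3, nat_lit 0, nat_lit 1, nat_lit 0, nat_lit 3, nat_lit 0, nat_lit 3, nat_lit 2] else (Wt_339_341 j)
def Wt_335_341 (j : ℕ) : List ℕ := bif Nat.blt j 338 then (Wt_335_338 j) else (Wt_338_341 j)
def Wt_342_344 (j : ℕ) : List ℕ := bif Nat.blt j 343 then [nat_lit 63, nat_lit 1, nat_lit 2, nat_lit 1, nat_lit 0, nat_lit 2, nat_lit 0, nat_lit 1, nat_lit 2, nat_lit 1, nat_lit 0, nat_lit 2, nat_lit 0, nat_lit 1, nat_lit 3, nat_lit 2, nat_lit 3, nat_lit 1, nat_lit 0, nat_lit 2, nat_lit 0] else [nat_lit 63, nat_lit 0, nat_lit 2, nat_lit 0, nat_lit 1, nat_lit 0, nat_lit 2, nat_lit 1, nat_lit 0, nat_lit 2, nat_lit 1, nat_lit 0, nat_lit 2, nat_lit 1, nat_lit 2,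 nat_lit 0, nat_lit 2, nat_lit 0, nat_lit 1, nat_lit 2, nat_lit 0, nat_lit 2, nat_lit 0, nat_lit 1]
def Wt_341_344 (j : ℕ) : List ℕ := bif Nat.blt j 342 then [nat_lit 0, nat_lit 2, nat_lit 3, nat_lit 2, nat_lit 0, nat_lit 2, nat_lit 1, nat_lit 0, nat_lit 1, nat_lit 2, nat_lit 1, nat_lit 0, nat_lit 1, nat_lit 2, nat_lit 3, nat_lit 0, nat_lit 3, nat_lit 0, nat_lit 3] else (Wt_342_344 j)
def Wt_345_347 (j : ℕ) : List ℕ := bif Nat.blt j 346 then [nat_lit 63, nat_lit 0, nat_lit 2, nat_lit 0, nat_lit 2, nat_lit 0, nat_lit 1, nat_lit 0, nat_lit 2, nat_lit 1, nat_lit 2, nat_lit 0, nat_lit 1, nat_lit 2, nat_lit 0, nat_lit 1, nat_lit 0, nat_lit 2, nat_lit 1, nat_lit 0, nat_lit 2, nat_lit 1, nat_lit 0, nat_lit 2] else [nat_lit 1, nat_lit 0, nat_lit 2, nat_lit 0, nat_lit 2, nat_lit 0, nat_lit 1, nat_lit 2, nat_lit 0, nat_lit 2, nat_lit 1, nat_lit 2, nat_lit 0, nat_lit 1, nat_lit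 0, nat_lit 1, nat_lit 0, nat_lit 1, nat_lit 0, nat_lit 2, nat_lit 1, nat_lit 0, nat_lit 2]
def Wt_344_347 (j : ℕ) : List ℕ := bif Nat.blt j 345 then [nat_lit 63, nat_lit 2, nat_lit 1, nat_lit 2, nat_lit 0, nat_lit 1, nat_lit 2, nat_lit 0, nat_lit 1, nat_lit 2, nat_lit 0, nat_lit 1, nat_lit 0, nat_lit 2, nat_lit 0, nat_lit 1, nat_lit 0, nat_lit 2, nat_lit 0, nat_lit 2, nat_lit 1, nat_lit 0, nat_lit 2, nat_lit 0] else (Wt_345_347 j)
def Wt_341_347 (j : ℕ) : List ℕ := bif Nat.blt j 344 then (Wt_341_344 j) else (Wt_344_347 j)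
def Wt_335_347 (j : ℕ) : List ℕ := bif Nat.blt j 341 then (Wt_335_341 j) else (Wt_341_347 j)
def Wt_324_347 (j : ℕ) : List ℕ := bif Nat.blt j 335 then (Wt_324_335 j) else (Wt_335_347 j)
def Wt_348_350 (j : ℕ) : List ℕ := bif Nat.blt j 349 then [nat_lit 2, nat_lit 0, nat_lit 1, nat_lit 0, nat_lit 2, nat_lit 0, nat_lit 2, nat_lit 0, nat_lit 2, nat_lit 0, nat_lit 1, nat_lit 2, nat_lit 0, nat_lit 1, nat_lit 2, nat_lit 0, nat_lit 1, nat_lit 0, nat_lit 2, nat_lit 1, nat_lit 0, nat_lit 2, nat_lit 1] else [nat_lit 63, nat_lit 0, nat_lit 1, nat_lit 0, nat_lit 1, nat_lit 0, nat_lit 1, nat_lit 0, nat_lit 2, nat_lit 1, nat_lit 0, nat_lit 2, nat_lit 1, nat_lit 0, nat_lit 2, nat_lit 0, nat_lit 2, nat_lit 0, nat_lit 1, nat_lit 2, nat_lit 0, nat_lit 2, nat_lit 1, nat_lit 2]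
def Wt_347_350 (j : ℕ) : List ℕ := bif Nat.blt j 348 then [nat_lit 0, nat_lit 2, nat_lit 0, nat_lit 1, nat_lit 2, nat_lit 0, nat_lit 1, nat_lit 2, nat_lit 0, nat_lit 1, nat_lit 0, nat_lit 2, nat_lit 1, nat_lit 0, nat_lit 2, nat_lit 1, nat_lit 2, nat_lit 0, nat_lit 1, nat_lit 0, nat_lit 2, nat_lit 0, nat_lit 2] else (Wt_348_350 j)
def Wt_351_353 (j : ℕ) : List ℕ := bif Nat.blt j 352 then [nat_lit 63, nat_lit 2, nat_lit 0, nat_lit 1, nat_lit 0, nat_lit 2, nat_lit 1, nat_lit 0, nat_lit 2, nat_lit 1, nat_lit 0, nat_lit 2, nat_lit 0, nat_lit 2, nat_lit 0, nat_lit 2, nat_lit 0, nat_lit 1, nat_lit 0, nat_lit 2, nat_lit 1, nat_lit 2, nat_lit 0, nat_lit 1] else [nat_lit 0, nat_lit 2, nat_lit 0, nat_lit 1, nat_lit 0, nat_lit 2, nat_lit 1, nat_lit 2, nat_lit 0, nat_lit 1, nat_lit 2, nat_lit 0, nat_lit 1, nat_lit 0, nat_lit 2, nat_lit 1, nat_lit 0, nat_lit 2, nat_lit 1, nat_lit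 0, nat_lit 2, nat_lit 0, nat_lit 2]
def Wt_350_353 (j : ℕ) : List ℕ := bif Nat.blt j 351 then [nat_lit 63, nat_lit 1, nat_lit 0, nat_lit 1, nat_lit 0, nat_lit 1, nat_lit 0, nat_lit 2, nat_lit 1, nat_lit 2, nat_lit 0, nat_lit 2, nat_lit 1, nat_lit 0, nat_lit 2, nat_lit 0, nat_lit 2, nat_lit 0, nat_lit 1, nat_lit 2, nat_lit 0, nat_lit 1, nat_lit 2, nat_lit 0] else (Wt_351_353 j)
def Wt_347_353 (j : ℕ) : List ℕ := bif Nat.blt j 350 then (Wt_347_350 j) else (Wt_350_353 j)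
def Wt_354_356 (j : ℕ) : List ℕ := bif Nat.blt j 355 then [nat_lit 63, nat_lit 0, nat_lit 2, nat_lit 3, nat_lit 2, nat_lit 0, nat_lit 2, nat_lit 1, nat_lit 0, nat_lit 1, nat_lit 2, nat_lit 1, nat_lit 0, nat_lit 1, nat_lit 2, nat_lit 3, nat_lit 0, nat_lit 3, nat_lit 0, nat_lit 3] else [nat_lit 63, nat_lit 3, nat_lit 0, nat_lit 3, nat_lit 0, nat_lit 3, nat_lit 2, nat_lit 1, nat_lit 0, nat_lit 1, nat_lit 3, nat_lit 2, nat_lit 3, nat_lit 1, nat_lit 0, nat_lit 1, nat_lit 2, nat_lit 0, nat_lit 3, nat_lit 0]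
def Wt_353_356 (j : ℕ) : List ℕ := bif Nat.blt j 354 then [nat_lit 63, nat_lit 2, nat_lit 3, nat_lit 2, nat_lit 0, nat_lit 3, nat_lit 2, nat_lit 1, nat_lit 0, nat_lit 1, nat_lit 2, nat_lit 1, nat_lit 0, nat_lit 1, nat_lit 2, nat_lit 0, nat_lit 3, nat_lit 0, nat_lit 3, nat_lit 0] else (Wt_354_356 j)
def Wt_357_359 (j : ℕ) : List ℕ := bif Nat.blt j 358 then [nat_lit 63, nat_lit 1, nat_lit 3, nat_lit 2, nat_lit 3, nat_lit 1, nat_lit 2, nat_lit 0, nat_lit 1, nat_lit 2, nat_lit 1, nat_lit 0, nat_lit 1, nat_lit 2, nat_lit 3, nat_lit 0, nat_lit 3, nat_lit 0, nat_lit 3, nat_lit 0, nat_lit 3, nat_lit 0] else [nat_lit 3, nat_lit 1, nat_lit 0, nat_lit 2, nat_lit 0, nat_lit 1, nat_lit 2, nat_lit 1, nat_lit 0, nat_lit 2, nat_lit 0, nat_lit 1, nat_lit 2, nat_lit 1, nat_lit 0, nat_lit 2, nat_lit 0, nat_lit 1, nat_lit 3, nat_lit 2]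
def Wt_356_359 (j : ℕ) : List ℕ := bif Nat.blt j 357 then [nat_lit 0, nat_lit 2, nat_lit 0, nat_lit 2, nat_lit 1, nat_lit 2, nat_lit 0, nat_lit 2, nat_lit 0, nat_lit 1, nat_lit 2, nat_lit 1, nat_lit 0, nat_lit 3, nat_lit 2, nat_lit 3, nat_lit 0, nat_lit 1, nat_lit 2, nat_lit 1] else (Wt_357_359 j)
def Wt_353_359 (j : ℕ) : List ℕ := bif Nat.blt j 356 then (Wt_353_356 j) else (Wt_356_359 j)
def Wt_347_359 (j : ℕ) : List ℕ := bif Nat.blt j 353 then (Wt_347_353 j) else (Wt_353_359 j)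
def Wt_360_362 (j : ℕ) : List ℕ := bif Nat.blt j 361 then [nat_lit 63, nat_lit 1, nat_lit 0, nat_lit 1, nat_lit 2, nat_lit 3, nat_lit 0, nat_lit 3, nat_lit 0, nat_lit 3, nat_lit 0, nat_lit 2, nat_lit 3, nat_lit 2, nat_lit 0, nat_lit 2, nat_lit 1, nat_lit 0, nat_lit 1, nat_lit 2] else [nat_lit 63, nat_lit 1, nat_lit 0, nat_lit 2, nat_lit 0, nat_lit 2, nat_lit 1, nat_lit 0, nat_lit 2, nat_lit 0, nat_lit 2, nat_lit 1, nat_lit 2, nat_lit 0, nat_lit 1, nat_lit 2, nat_lit 0, nat_lit 1, nat_lit 2, nat_lit 0, nat_lit 1, nat_lit 0, nat_lit 2, nat_lit 0]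
def Wt_359_362 (j : ℕ) : List ℕ := bif Nat.blt j 360 then [nat_lit 63, nat_lit 0, nat_lit 2, nat_lit 0, nat_lit 1, nat_lit 2, nat_lit 1, nat_lit 0, nat_lit 2, nat_lit 0, nat_lit 1, nat_lit 3, nat_lit 2, nat_lit 3, nat_lit 1, nat_lit 0, nat_lit 2, nat_lit 0, nat_lit 1, nat_lit 2, nat_lit 1] else (Wt_360_362 j)
def Wt_363_365 (j : ℕ) : List ℕ := bif Nat.blt j 364 then [nat_lit 0, nat_lit 3, nat_lit 2, nat_lit 1, nat_lit 0, nat_lit 1, nat_lit 0, nat_lit 3, nat_lit 0, nat_lit 1, nat_lit 2, nat_lit 1, nat_lit 3, nat_lit 1, nat_lit 0, nat_lit 2, nat_lit 1, nat_lit 3, nat_lit 0, nat_lit 1, nat_lit 0, nat_lit 3] else [nat_lit 0, nat_lit 1, nat_lit 0, nat_lit 2, nat_lit 0, nat_lit 2, nat_lit 1, nat_lit 0, nat_lit 2, nat_lit 0, nat_lit 2, nat_lit 1, nat_lit 2, nat_lit 0, nat_lit 1, nat_lit 2, nat_lit 0, nat_lit 1, nat_lit 2, nat_lit 0, nat_lit 1, nat_lit 0, nat_lit 2]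
def Wt_362_365 (j : ℕ) : List ℕ := bif Nat.blt j 363 then [nat_lit 2, nat_lit 1, nat_lit 0, nat_lit 2, nat_lit 0, nat_lit 1, nat_lit 3, nat_lit 2, nat_lit 3, nat_lit 1, nat_lit 0, nat_lit 2, nat_lit 0, nat_lit 1, nat_lit 2, nat_lit 1, nat_lit 0, nat_lit 2, nat_lit 0, nat_lit 1] else (Wt_363_365 j)
def Wt_359_365 (j : ℕ) : List ℕ := bif Nat.blt j 362 then (Wt_359_362 j) else (Wt_362_365 j)
def Wt_366_368 (j : ℕ) : List ℕ := bif Nat.blt j 367 then [nat_lit 63, nat_lit 2, nat_lit 1, nat_lit 3, nat_lit 2, nat_lit 3, nat_lit 0, nat_lit 1, nat_lit 2, nat_lit 0, nat_lit 3, nat_lit 0, nat_lit 3, nat_lit 0, nat_lit 2, nat_lit 3, nat_lit 2, nat_lit 0, nat_lit 3, nat_lit 2, nat_lit 1, nat_lit 0] else [nat_lit 3, nat_lit 2, nat_lit 0, nat_lit 3, nat_lit 0, nat_lit 3, nat_lit 0, nat_lit 3, nat_lit 2, nat_lit 1, nat_lit 0, nat_lit 1, nat_lit 2, nat_lit 1, nat_lit 0, nat_lit 1,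 nat_lit 2, nat_lit 0, nat_lit 2]
def Wt_365_368 (j : ℕ) : List ℕ := bif Nat.blt j 366 then [nat_lit 63, nat_lit 2, nat_lit 1, nat_lit 0, nat_lit 1, nat_lit 2, nat_lit 1, nat_lit 0, nat_lit 1, nat_lit 2, nat_lit 0, nat_lit 3, nat_lit 0, nat_lit 3, nat_lit 0, nat_lit 2, nat_lit 3, nat_lit 2, nat_lit 0, nat_lit 3] else (Wt_366_368 j)
def Wt_369_371 (j : ℕ) : List ℕ := bif Nat.blt j 370 then [nat_lit 63, nat_lit 0, nat_lit 1, nat_lit 2, nat_lit 3, nat_lit 0, nat_lit 2, nat_lit 3, nat_lit 2, nat_lit 0, nat_lit 3, nat_lit 0, nat_lit 3, nat_lit 0, nat_lit 2, nat_lit 1, nat_lit 0, nat_lit 3, nat_lit 2, nat_lit 3, nat_lit 1, nat_lit 2] else [nat_lit 0, nat_lit 2, nat_lit 1, nat_lit 0, nat_lit 2, nat_lit 0, nat_lit 2, nat_lit 1, nat_lit 2, nat_lit 0, nat_lit 1, nat_lit 2, nat_lit 0, nat_lit 1, nat_lit 2, nat_lit 0, nat_lit 1, nat_lit 0, nat_lit 2, nat_lit 0, nat_lit 1, nat_lit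 0, nat_lit 2]
def Wt_368_371 (j : ℕ) : List ℕ := bif Nat.blt j 369 then [nat_lit 63, nat_lit 0, nat_lit 1, nat_lit 3, nat_lit 2, nat_lit 3, nat_lit 1, nat_lit 0, nat_lit 1, nat_lit 2, nat_lit 3, nat_lit 0, nat_lit 3, nat_lit 0, nat_lit 3, nat_lit 0, nat_lit 3, nat_lit 0, nat_lit 2, nat_lit 1] else (Wt_369_371 j)
def Wt_365_371 (j : ℕ) : List ℕ := bif Nat.blt j 368 then (Wt_365_368 j) else (Wt_368_371 j)
def Wt_359_371 (j : ℕ) : List ℕ := bif Nat.blt j 365 then (Wt_359_365 j) else (Wt_365_371 j)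
def Wt_347_371 (j : ℕ) : List ℕ := bif Nat.blt j 359 then (Wt_347_359 j) else (Wt_359_371 j)
def Wt_324_371 (j : ℕ) : List ℕ := bif Nat.blt j 347 then (Wt_324_347 j) else (Wt_347_371 j)
def Wt_278_371 (j : ℕ) : List ℕ := bif Nat.blt j 324 then (Wt_278_324 j) else (Wt_324_371 j)
def Wt_185_371 (j : ℕ) : List ℕ := bif Nat.blt j 278 then (Wt_185_278 j) else (Wt_278_371 j)
def Wt_0_371 (j : ℕ) : List ℕ := bif Nat.blt j 185 then (Wt_0_185 j) else (Wt_185_371 j)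
def Wt_371_373 (j : ℕ) : List ℕ := bif Nat.blt j 372 then [nat_lit 3, nat_lit 0, nat_lit 3, nat_lit 0, nat_lit 3, nat_lit 0, nat_lit 2, nat_lit 3, nat_lit 2, nat_lit 0, nat_lit 2, nat_lit 1, nat_lit 0, nat_lit 1, nat_lit 2, nat_lit 1, nat_lit 0, nat_lit 1, nat_lit 2] else [nat_lit 63, nat_lit 0, nat_lit 1, nat_lit 2, nat_lit 3, nat_lit 0, nat_lit 3, nat_lit 0, nat_lit 3, nat_lit 0, nat_lit 3, nat_lit 0, nat_lit 2, nat_lit 1, nat_lit 0, nat_lit 1, nat_lit 3, nat_lit 2, nat_lit 3, nat_lit 1]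
def Wt_374_376 (j : ℕ) : List ℕ := bif Nat.blt j 375 then [nat_lit 63, nat_lit 3, nat_lit 2, nat_lit 1, nat_lit 0, nat_lit 2, nat_lit 1, nat_lit 3, nat_lit 2, nat_lit 3, nat_lit 0, nat_lit 1, nat_lit 2, nat_lit 0, nat_lit 3, nat_lit 0, nat_lit 3, nat_lit 0, nat_lit 2, nat_lit 3, nat_lit 2, nat_lit 0] else [nat_lit 3, nat_lit 0, nat_lit 3, nat_lit 0, nat_lit 1, nat_lit 0, nat_lit 3, nat_lit 1, nat_lit 2, nat_lit 0, nat_lit 1, nat_lit 3, nat_lit 1, nat_lit 2, nat_lit 1, nat_lit 0, nat_lit 3, nat_lit 0, nat_lit 1, nat_lit 0, nat_lit 1, nat_lit 2]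
def Wt_373_376 (j : ℕ) : List ℕ := bif Nat.blt j 374 then [nat_lit 0, nat_lit 3, nat_lit 0, nat_lit 3, nat_lit 0, nat_lit 3, nat_lit 0, nat_lit 3, nat_lit 2, nat_lit 1, nat_lit 0, nat_lit 1, nat_lit 3, nat_lit 2, nat_lit 3, nat_lit 1, nat_lit 0, nat_lit 1, nat_lit 2] else (Wt_374_376 j)
def Wt_371_376 (j : ℕ) : List ℕ := bif Nat.blt j 373 then (Wt_371_373 j) else (Wt_373_376 j)
def Wt_377_379 (j : ℕ) : List ℕ := bif Nat.blt j 378 then [nat_lit 2, nat_lit 1, nat_lit 0, nat_lit 1, nat_lit 2, nat_lit 0, nat_lit 2, nat_lit 3, nat_lit 2, nat_lit 0, nat_lit 3, nat_lit 0, nat_lit 3, nat_lit 0, nat_lit 3, nat_lit 2, nat_lit 1, nat_lit 0, nat_lit 1] else [nat_lit 0, nat_lit 2, nat_lit 1, nat_lit 0, nat_lit 2, nat_lit 1, nat_lit 2, nat_lit 0, nat_lit 2, nat_lit 0, nat_lit 1, nat_lit 2, nat_lit 0, nat_lit 2, nat_lit 0, nat_lit 1, nat_lit 0, nat_lit 2, nat_lit 0, nat_lit 1,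 nat_lit 0, nat_lit 2, nat_lit 1]
def Wt_376_379 (j : ℕ) : List ℕ := bif Nat.blt j 377 then [nat_lit 2, nat_lit 0, nat_lit 2, nat_lit 0, nat_lit 1, nat_lit 0, nat_lit 2, nat_lit 0, nat_lit 1, nat_lit 0, nat_lit 2, nat_lit 1, nat_lit 0, nat_lit 2, nat_lit 1, nat_lit 0, nat_lit 2, nat_lit 1, nat_lit 2, nat_lit 0, nat_lit 2, nat_lit 0, nat_lit 1] else (Wt_377_379 j)
def Wt_380_382 (j : ℕ) : List ℕ := bif Nat.blt j 381 then [nat_lit 1, nat_lit 2, nat_lit 0, nat_lit 2, nat_lit 0, nat_lit 1, nat_lit 0, nat_lit 2, nat_lit 0, nat_lit 1, nat_lit 0, nat_lit 2, nat_lit 1, nat_lit 0, nat_lit 2, nat_lit 1, nat_lit 0, nat_lit 2, nat_lit 1, nat_lit 2, nat_lit 0, nat_lit 2, nat_lit 0] else [nat_lit 3, nat_lit 0, nat_lit 3, nat_lit 0, nat_lit 3, nat_lit 2, nat_lit 1, nat_lit 0, nat_lit 1, nat_lit 2, nat_lit 1, nat_lit 0, nat_lit 1, nat_lit 2, nat_lit 0, nat_lit 2, nat_lit 3, nat_lit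 2, nat_lit 0]
def Wt_379_382 (j : ℕ) : List ℕ := bif Nat.blt j 380 then [nat_lit 1, nat_lit 2, nat_lit 0, nat_lit 2, nat_lit 0, nat_lit 1, nat_lit 2, nat_lit 0, nat_lit 2, nat_lit 0, nat_lit 1, nat_lit 0, nat_lit 2, nat_lit 0, nat_lit 1, nat_lit 0, nat_lit 2, nat_lit 1, nat_lit 0, nat_lit 2, nat_lit 1, nat_lit 0, nat_lit 2] else (Wt_380_382 j)
def Wt_376_382 (j : ℕ) : List ℕ := bif Nat.blt j 379 then (Wt_376_379 j) else (Wt_379_382 j)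
def Wt_371_382 (j : ℕ) : List ℕ := bif Nat.blt j 376 then (Wt_371_376 j) else (Wt_376_382 j)
def Wt_383_385 (j : ℕ) : List ℕ := bif Nat.blt j 384 then [nat_lit 0, nat_lit 2, nat_lit 1, nat_lit 2, nat_lit 0, nat_lit 1, nat_lit 0, nat_lit 2, nat_lit 0, nat_lit 2, nat_lit 0, nat_lit 2, nat_lit 0, nat_lit 1, nat_lit 2, nat_lit 0, nat_lit 1, nat_lit 2, nat_lit 0, nat_lit 1, nat_lit 0, nat_lit 2, nat_lit 1] else [nat_lit 0, nat_lit 2, nat_lit 0, nat_lit 1, nat_lit 2, nat_lit 0, nat_lit 2, nat_lit 0, nat_lit 1, nat_lit 0, nat_lit 2, nat_lit 0, nat_lit 1, nat_lit 0, nat_lit 2, nat_lit 1, nat_lit 0, nat_lit 2, nat_lit 1, nat_lit 0, nat_lit 2, nat_lit 1, nat_lit 2]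
def Wt_382_385 (j : ℕ) : List ℕ := bif Nat.blt j 383 then [nat_lit 0, nat_lit 1, nat_lit 2, nat_lit 0, nat_lit 1, nat_lit 0, nat_lit 2, nat_lit 0, nat_lit 1, nat_lit 0, nat_lit 2, nat_lit 0, nat_lit 2, nat_lit 1, nat_lit 0, nat_lit 2, nat_lit 0, nat_lit 2, nat_lit 1, nat_lit 2, nat_lit 0, nat_lit 1, nat_lit 2] else (Wt_383_385 j)
def Wt_386_388 (j : ℕ) : List ℕ := bif Nat.blt j 387 then [nat_lit 63, nat_lit 1, nat_lit 0, nat_lit 2, nat_lit 0, nat_lit 1, nat_lit 2, nat_lit 1, nat_lit 0, nat_lit 2, nat_lit 0, nat_lit 1, nat_lit 3, nat_lit 2, nat_lit 3, nat_lit 1, nat_lit 0, nat_lit 2, nat_lit 0, nat_lit 1, nat_lit 2] else [nat_lit 0, nat_lit 1, nat_lit 0, nat_lit 1, nat_lit 0, nat_lit 2, nat_lit 1, nat_lit 2, nat_lit 0, nat_lit 2, nat_lit 1, nat_lit 0, nat_lit 2, nat_lit 0, nat_lit 2, nat_lit 0, nat_lit 1, nat_lit 2, nat_lit 0, nat_lit 1, nat_lit 2, nat_lit 0, nat_lit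 1]
def Wt_385_388 (j : ℕ) : List ℕ := bif Nat.blt j 386 then [nat_lit 63, nat_lit 0, nat_lit 3, nat_lit 1, nat_lit 3, nat_lit 0, nat_lit 3, nat_lit 1, nat_lit 3, nat_lit 0, nat_lit 2, nat_lit 3, nat_lit 1, nat_lit 3, nat_lit 2, nat_lit 3, nat_lit 1, nat_lit 3, nat_lit 2] else (Wt_386_388 j)
def Wt_382_388 (j : ℕ) : List ℕ := bif Nat.blt j 385 then (Wt_382_385 j) else (Wt_385_388 j)
def Wt_389_391 (j : ℕ) : List ℕ := bif Nat.blt j 390 then [nat_lit 3, nat_lit 0, nat_lit 1, nat_lit 0, nat_lit 1, nat_lit 3, nat_lit 1, nat_lit 0, nat_lit 1, nat_lit 0, nat_lit 3, nat_lit 0, nat_lit 1, nat_lit 0, nat_lit 1, nat_lit 3, nat_lit 1, nat_lit 0, nat_lit 1, nat_lit 0] else [nat_lit 63, nat_lit 3, nat_lit 1, nat_lit 0, nat_lit 2, nat_lit 1, nat_lit 3, nat_lit 0, nat_lit 1, nat_lit 0, nat_lit 3, nat_lit 0, nat_lit 3, nat_lit 2, nat_lit 1, nat_lit 0, nat_lit 1, nat_lit 0, nat_lit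 3, nat_lit 0, nat_lit 1, nat_lit 2, nat_lit 1]
def Wt_388_391 (j : ℕ) : List ℕ := bif Nat.blt j 389 then [nat_lit 0, nat_lit 1, nat_lit 3, nat_lit 1, nat_lit 0, nat_lit 2, nat_lit 3, nat_lit 1, nat_lit 0, nat_lit 1, nat_lit 3, nat_lit 1, nat_lit 3, nat_lit 1, nat_lit 3, nat_lit 1, nat_lit 0, nat_lit 1, nat_lit 3, nat_lit 2] else (Wt_389_391 j)
def Wt_392_394 (j : ℕ) : List ℕ := bif Nat.blt j 393 then [nat_lit 63, nat_lit 3, nat_lit 0, nat_lit 2, nat_lit 3, nat_lit 1, nat_lit 3, nat_lit 2, nat_lit 3, nat_lit 1, nat_lit 3, nat_lit 2, nat_lit 0, nat_lit 3, nat_lit 1, nat_lit 3, nat_lit 0, nat_lit 3, nat_lit 1] else [nat_lit 63, nat_lit 1, nat_lit 0, nat_lit 1, nat_lit 3, nat_lit 2, nat_lit 0, nat_lit 1, nat_lit 3, nat_lit 1, nat_lit 0, nat_lit 2, nat_lit 3, nat_lit 1, nat_lit 0, nat_lit 1, nat_lit 3, nat_lit 1, nat_lit 3, nat_lit 1, nat_lit 3]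
def Wt_391_394 (j : ℕ) : List ℕ := bif Nat.blt j 392 then [nat_lit 63, nat_lit 2, nat_lit 0, nat_lit 3, nat_lit 0, nat_lit 3, nat_lit 0, nat_lit 2, nat_lit 3, nat_lit 2, nat_lit 0, nat_lit 3, nat_lit 2, nat_lit 1, nat_lit 0, nat_lit 1, nat_lit 2, nat_lit 1, nat_lit 0, nat_lit 1] else (Wt_392_394 j)
def Wt_388_394 (j : ℕ) : List ℕ := bif Nat.blt j 391 then (Wt_388_391 j) else (Wt_391_394 j)
def Wt_382_394 (j : ℕ) : List ℕ := bif Nat.blt j 388 then (Wt_382_388 j) else (Wt_388_394 j)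
def Wt_371_394 (j : ℕ) : List ℕ := bif Nat.blt j 382 then (Wt_371_382 j) else (Wt_382_394 j)
def Wt_394_396 (j : ℕ) : List ℕ := bif Nat.blt j 395 then [nat_lit 2, nat_lit 3, nat_lit 2, nat_lit 0, nat_lit 3, nat_lit 0, nat_lit 3, nat_lit 0, nat_lit 3, nat_lit 2, nat_lit 1, nat_lit 0, nat_lit 1, nat_lit 2, nat_lit 1, nat_lit 0, nat_lit 1, nat_lit 2, nat_lit 0] else [nat_lit 63, nat_lit 3, nat_lit 0, nat_lit 3, nat_lit 0, nat_lit 3, nat_lit 0, nat_lit 3, nat_lit 2, nat_lit 1, nat_lit 0, nat_lit 1, nat_lit 3, nat_lit 2, nat_lit 3, nat_lit 1, nat_lit 0, nat_lit 1, nat_lit 2, nat_lit 0]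
def Wt_397_399 (j : ℕ) : List ℕ := bif Nat.blt j 398 then [nat_lit 0, nat_lit 2, nat_lit 0, nat_lit 1, nat_lit 2, nat_lit 1, nat_lit 0, nat_lit 2, nat_lit 0, nat_lit 1, nat_lit 3, nat_lit 2, nat_lit 3, nat_lit 1, nat_lit 0, nat_lit 2, nat_lit 0, nat_lit 1, nat_lit 2, nat_lit 1] else [nat_lit 2, nat_lit 1, nat_lit 0, nat_lit 1, nat_lit 3, nat_lit 2, nat_lit 3, nat_lit 1, nat_lit 0, nat_lit 1, nat_lit 2, nat_lit 3, nat_lit 0, nat_lit 3, nat_lit 0, nat_lit 3, nat_lit 0, nat_lit 3, nat_lit 0]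
def Wt_396_399 (j : ℕ) : List ℕ := bif Nat.blt j 397 then [nat_lit 1, nat_lit 3, nat_lit 1, nat_lit 0, nat_lit 1, nat_lit 0, nat_lit 3, nat_lit 0, nat_lit 1, nat_lit 0, nat_lit 1, nat_lit 3, nat_lit 1, nat_lit 0, nat_lit 1, nat_lit 0, nat_lit 3, nat_lit 0, nat_lit 1, nat_lit 0] else (Wt_397_399 j)
def Wt_394_399 (j : ℕ) : List ℕ := bif Nat.blt j 396 then (Wt_394_396 j) else (Wt_396_399 j)
def Wt_400_402 (j : ℕ) : List ℕ := bif Nat.blt j 401 then [nat_lit 63, nat_lit 3, nat_lit 0, nat_lit 2, nat_lit 1, nat_lit 0, nat_lit 3, nat_lit 2, nat_lit 3, nat_lit 1, nat_lit 2, nat_lit 0, nat_lit 1, nat_lit 2, nat_lit 3, nat_lit 0, nat_lit 2, nat_lit 3, nat_lit 2, nat_lit 0, nat_lit 3, nat_lit 0] else [nat_lit 2, nat_lit 3, nat_lit 2, nat_lit 0, nat_lit 3, nat_lit 0, nat_lit 3, nat_lit 0, nat_lit 2, nat_lit 1, nat_lit 0, nat_lit 1, nat_lit 2, nat_lit 1, nat_lit 0, nat_lit 1,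 nat_lit 2, nat_lit 3, nat_lit 0]
def Wt_399_402 (j : ℕ) : List ℕ := bif Nat.blt j 400 then [nat_lit 3, nat_lit 2, nat_lit 1, nat_lit 0, nat_lit 1, nat_lit 2, nat_lit 1, nat_lit 0, nat_lit 2, nat_lit 1, nat_lit 3, nat_lit 2, nat_lit 3, nat_lit 1, nat_lit 0, nat_lit 3, nat_lit 0, nat_lit 3, nat_lit 0, nat_lit 3, nat_lit 0] else (Wt_400_402 j)
def Wt_403_405 (j : ℕ) : List ℕ := bif Nat.blt j 404 then [nat_lit 63, nat_lit 1, nat_lit 2, nat_lit 3, nat_lit 0, nat_lit 2, nat_lit 3, nat_lit 2, nat_lit 0, nat_lit 3, nat_lit 0, nat_lit 3, nat_lit 0, nat_lit 2, nat_lit 1, nat_lit 0, nat_lit 3, nat_lit 2, nat_lit 3, nat_lit 1, nat_lit 2, nat_lit 0] else [nat_lit 63, nat_lit 0, nat_lit 3, nat_lit 0, nat_lit 2, nat_lit 1, nat_lit 0, nat_lit 3, nat_lit 2, nat_lit 3, nat_lit 1, nat_lit 2, nat_lit 0, nat_lit 1, nat_lit 2, nat_lit 3, nat_lit 0, nat_lit 2, nat_lit 3, nat_lit 2, nat_lit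 0, nat_lit 3]
def Wt_402_405 (j : ℕ) : List ℕ := bif Nat.blt j 403 then [nat_lit 63, nat_lit 1, nat_lit 2, nat_lit 3, nat_lit 0, nat_lit 3, nat_lit 0, nat_lit 3, nat_lit 0, nat_lit 3, nat_lit 0, nat_lit 2, nat_lit 1, nat_lit 0, nat_lit 1, nat_lit 3, nat_lit 2, nat_lit 3, nat_lit 1, nat_lit 0] else (Wt_403_405 j)
def Wt_399_405 (j : ℕ) : List ℕ := bif Nat.blt j 402 then (Wt_399_402 j) else (Wt_402_405 j)
def Wt_394_405 (j : ℕ) : List ℕ := bif Nat.blt j 399 then (Wt_394_399 j) else (Wt_399_405 j)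
def Wt_406_408 (j : ℕ) : List ℕ := bif Nat.blt j 407 then [nat_lit 1, nat_lit 2, nat_lit 1, nat_lit 0, nat_lit 3, nat_lit 0, nat_lit 1, nat_lit 0, nat_lit 1, nat_lit 2, nat_lit 3, nat_lit 0, nat_lit 3, nat_lit 0, nat_lit 1, nat_lit 0, nat_lit 3, nat_lit 1, nat_lit 2, nat_lit 0, nat_lit 1, nat_lit 3] else [nat_lit 2, nat_lit 1, nat_lit 0, nat_lit 1, nat_lit 2, nat_lit 1, nat_lit 0, nat_lit 2, nat_lit 1, nat_lit 3, nat_lit 2, nat_lit 3, nat_lit 1, nat_lit 0, nat_lit 3, nat_lit 0, nat_lit 3, nat_lit 0, nat_lit 3, nat_lit 0, nat_lit 3]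
def Wt_405_408 (j : ℕ) : List ℕ := bif Nat.blt j 406 then [nat_lit 1, nat_lit 3, nat_lit 1, nat_lit 2, nat_lit 1, nat_lit 0, nat_lit 3, nat_lit 0, nat_lit 1, nat_lit 0, nat_lit 1, nat_lit 2, nat_lit 3, nat_lit 0, nat_lit 3, nat_lit 0, nat_lit 1, nat_lit 0, nat_lit 3, nat_lit 1, nat_lit 2, nat_lit 0] else (Wt_406_408 j)
def Wt_409_411 (j : ℕ) : List ℕ := bif Nat.blt j 410 then [nat_lit 63, nat_lit 2, nat_lit 3, nat_lit 0, nat_lit 2, nat_lit 3, nat_lit 2, nat_lit 0, nat_lit 3, nat_lit 0, nat_lit 3, nat_lit 0, nat_lit 2, nat_lit 1, nat_lit 0, nat_lit 3, nat_lit 2, nat_lit 3, nat_lit 1, nat_lit 2, nat_lit 0, nat_lit 1] else [nat_lit 0, nat_lit 1, nat_lit 2, nat_lit 0, nat_lit 1, nat_lit 0, nat_lit 2, nat_lit 1, nat_lit 0, nat_lit 2, nat_lit 1, nat_lit 2, nat_lit 0, nat_lit 1, nat_lit 0, nat_lit 2, nat_lit 0, nat_lit 2, nat_lit 0, nat_lit 2, nat_lit 0, nat_lit 1, nat_lit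 2]
def Wt_408_411 (j : ℕ) : List ℕ := bif Nat.blt j 409 then [nat_lit 63, nat_lit 1, nat_lit 0, nat_lit 1, nat_lit 2, nat_lit 1, nat_lit 0, nat_lit 1, nat_lit 2, nat_lit 3, nat_lit 0, nat_lit 3, nat_lit 0, nat_lit 3, nat_lit 0, nat_lit 2, nat_lit 3, nat_lit 2, nat_lit 0, nat_lit 2] else (Wt_409_411 j)
def Wt_405_411 (j : ℕ) : List ℕ := bif Nat.blt j 408 then (Wt_405_408 j) else (Wt_408_411 j)
def Wt_412_414 (j : ℕ) : List ℕ := bif Nat.blt j 413 then [nat_lit 63, nat_lit 1, nat_lit 2, nat_lit 0, nat_lit 2, nat_lit 1, nat_lit 0, nat_lit 2, nat_lit 0, nat_lit 2, nat_lit 0, nat_lit 1, nat_lit 2, nat_lit 0, nat_lit 1, nat_lit 2, nat_lit 0, nat_lit 1, nat_lit 0, nat_lit 1, nat_lit 0, nat_lit 1, nat_lit 0, nat_lit 2] else [nat_lit 0, nat_lit 1, nat_lit 0, nat_lit 2, nat_lit 1, nat_lit 0, nat_lit 2, nat_lit 1, nat_lit 0, nat_lit 2, nat_lit 1, nat_lit 2, nat_lit 0, nat_lit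 2, nat_lit 0, nat_lit 1, nat_lit 2, nat_lit 0, nat_lit 2, nat_lit 0, nat_lit 1, nat_lit 0, nat_lit 2]
def Wt_411_414 (j : ℕ) : List ℕ := bif Nat.blt j 412 then [nat_lit 63, nat_lit 1, nat_lit 3, nat_lit 1, nat_lit 3, nat_lit 1, nat_lit 0, nat_lit 1, nat_lit 3, nat_lit 2, nat_lit 0, nat_lit 1, nat_lit 3, nat_lit 1, nat_lit 0, nat_lit 2, nat_lit 3, nat_lit 1, nat_lit 0, nat_lit 1, nat_lit 3] else (Wt_412_414 j)
def Wt_415_417 (j : ℕ) : List ℕ := bif Nat.blt j 416 then [nat_lit 63, nat_lit 0, nat_lit 3, nat_lit 0, nat_lit 1, nat_lit 3, nat_lit 2, nat_lit 3, nat_lit 1, nat_lit 2, nat_lit 0, nat_lit 1, nat_lit 2, nat_lit 1, nat_lit 0, nat_lit 1, nat_lit 2, nat_lit 3, nat_lit 0, nat_lit 3, nat_lit 0, nat_lit 3] else [nat_lit 63, nat_lit 1, nat_lit 0, nat_lit 1, nat_lit 2, nat_lit 1, nat_lit 0, nat_lit 1, nat_lit 2, nat_lit 0, nat_lit 3, nat_lit 0, nat_lit 3, nat_lit 0,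 nat_lit 2, nat_lit 3, nat_lit 2, nat_lit 0, nat_lit 3, nat_lit 2]
def Wt_414_417 (j : ℕ) : List ℕ := bif Nat.blt j 415 then [nat_lit 0, nat_lit 3, nat_lit 0, nat_lit 2, nat_lit 1, nat_lit 0, nat_lit 3, nat_lit 2, nat_lit 3, nat_lit 1, nat_lit 2, nat_lit 0, nat_lit 1, nat_lit 2, nat_lit 3, nat_lit 0, nat_lit 2, nat_lit 3, nat_lit 2, nat_lit 0, nat_lit 3] else (Wt_415_417 j)
def Wt_411_417 (j : ℕ) : List ℕ := bif Nat.blt j 414 then (Wt_411_414 j) else (Wt_414_417 j)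
def Wt_405_417 (j : ℕ) : List ℕ := bif Nat.blt j 411 then (Wt_405_411 j) else (Wt_411_417 j)
def Wt_394_417 (j : ℕ) : List ℕ := bif Nat.blt j 405 then (Wt_394_405 j) else (Wt_405_417 j)
def Wt_371_417 (j : ℕ) : List ℕ := bif Nat.blt j 394 then (Wt_371_394 j) else (Wt_394_417 j)
def Wt_417_419 (j : ℕ) : List ℕ := bif Nat.blt j 418 then [nat_lit 2, nat_lit 1, nat_lit 0, nat_lit 3, nat_lit 0, nat_lit 1, nat_lit 0, nat_lit 1, nat_lit 2, nat_lit 3, nat_lit 0, nat_lit 3, nat_lit 0, nat_lit 1, nat_lit 0, nat_lit 3, nat_lit 1, nat_lit 2, nat_lit 0, nat_lit 1, nat_lit 3, nat_lit 1] else [nat_lit 3, nat_lit 0, nat_lit 3, nat_lit 0, nat_lit 3, nat_lit 0, nat_lit 3, nat_lit 0, nat_lit 1, nat_lit 3, nat_lit 2, nat_lit 3, nat_lit 1, nat_lit 2, nat_lit 0, nat_lit 1, nat_lit 2, nat_lit 1, nat_lit 0, nat_lit 1, nat_lit 2]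
def Wt_420_422 (j : ℕ) : List ℕ := bif Nat.blt j 421 then [nat_lit 63, nat_lit 0, nat_lit 1, nat_lit 2, nat_lit 1, nat_lit 0, nat_lit 3, nat_lit 2, nat_lit 3, nat_lit 0, nat_lit 1, nat_lit 2, nat_lit 1, nat_lit 0, nat_lit 2, nat_lit 0, nat_lit 2, nat_lit 1, nat_lit 2, nat_lit 0, nat_lit 2] else [nat_lit 63, nat_lit 0, nat_lit 2, nat_lit 3, nat_lit 1, nat_lit 3, nat_lit 2, nat_lit 3, nat_lit 1, nat_lit 3, nat_lit 2, nat_lit 0, nat_lit 3, nat_lit 1, nat_lit 3, nat_lit 0, nat_lit 3, nat_lit 1, nat_lit 3]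
def Wt_419_422 (j : ℕ) : List ℕ := bif Nat.blt j 420 then [nat_lit 63, nat_lit 0, nat_lit 3, nat_lit 0, nat_lit 2, nat_lit 1, nat_lit 0, nat_lit 1, nat_lit 2, nat_lit 1, nat_lit 0, nat_lit 1, nat_lit 2, nat_lit 3, nat_lit 0, nat_lit 2, nat_lit 3, nat_lit 2, nat_lit 0, nat_lit 3] else (Wt_420_422 j)
def Wt_417_422 (j : ℕ) : List ℕ := bif Nat.blt j 419 then (Wt_417_419 j) else (Wt_419_422 j)
def Wt_423_425 (j : ℕ) : List ℕ := bif Nat.blt j 424 then [nat_lit 2, nat_lit 1, nat_lit 2, nat_lit 0, nat_lit 1, nat_lit 2, nat_lit 0, nat_lit 1, nat_lit 0, nat_lit 2, nat_lit 1, nat_lit 0, nat_lit 2, nat_lit 1, nat_lit 0, nat_lit 2, nat_lit 0, nat_lit 2, nat_lit 0, nat_lit 2, nat_lit 0, nat_lit 1, nat_lit 0] else [nat_lit 63, nat_lit 2, nat_lit 0, nat_lit 2, nat_lit 0, nat_lit 1, nat_lit 0, nat_lit 2, nat_lit 1, nat_lit 2, nat_lit 0, nat_lit 1, nat_lit 2, nat_lit 0, nat_lit 1,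 nat_lit 0, nat_lit 2, nat_lit 1, nat_lit 0, nat_lit 2, nat_lit 1, nat_lit 0, nat_lit 2, nat_lit 0]
def Wt_422_425 (j : ℕ) : List ℕ := bif Nat.blt j 423 then [nat_lit 63, nat_lit 1, nat_lit 3, nat_lit 2, nat_lit 3, nat_lit 0, nat_lit 1, nat_lit 2, nat_lit 0, nat_lit 3, nat_lit 0, nat_lit 3, nat_lit 0, nat_lit 2, nat_lit 3, nat_lit 2, nat_lit 0, nat_lit 3, nat_lit 2, nat_lit 1, nat_lit 0, nat_lit 2] else (Wt_423_425 j)
def Wt_426_428 (j : ℕ) : List ℕ := bif Nat.blt j 427 then [nat_lit 0, nat_lit 1, nat_lit 0, nat_lit 1, nat_lit 0, nat_lit 1, nat_lit 0, nat_lit 2, nat_lit 1, nat_lit 0, nat_lit 2, nat_lit 1, nat_lit 0, nat_lit 2, nat_lit 0, nat_lit 2, nat_lit 0, nat_lit 1, nat_lit 2, nat_lit 0, nat_lit 2, nat_lit 1, nat_lit 2] else [nat_lit 0, nat_lit 2, nat_lit 1, nat_lit 3, nat_lit 0, nat_lit 1, nat_lit 0, nat_lit 3, nat_lit 0, nat_lit 3, nat_lit 2, nat_lit 1, nat_lit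 0, nat_lit 1, nat_lit 0, nat_lit 3, nat_lit 0, nat_lit 1, nat_lit 2, nat_lit 1, nat_lit 3, nat_lit 1]
def Wt_425_428 (j : ℕ) : List ℕ := bif Nat.blt j 426 then [nat_lit 2, nat_lit 0, nat_lit 1, nat_lit 2, nat_lit 0, nat_lit 1, nat_lit 2, nat_lit 0, nat_lit 1, nat_lit 0, nat_lit 2, nat_lit 0, nat_lit 1, nat_lit 0, nat_lit 2, nat_lit 0, nat_lit 2, nat_lit 1, nat_lit 0, nat_lit 2, nat_lit 0, nat_lit 2, nat_lit 1] else (Wt_426_428 j)
def Wt_422_428 (j : ℕ) : List ℕ := bif Nat.blt j 425 then (Wt_422_425 j) else (Wt_425_428 j)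
def Wt_417_428 (j : ℕ) : List ℕ := bif Nat.blt j 422 then (Wt_417_422 j) else (Wt_422_428 j)
def Wt_429_431 (j : ℕ) : List ℕ := bif Nat.blt j 430 then [nat_lit 1, nat_lit 0, nat_lit 1, nat_lit 3, nat_lit 2, nat_lit 3, nat_lit 1, nat_lit 0, nat_lit 1, nat_lit 2, nat_lit 3, nat_lit 0, nat_lit 3, nat_lit 0, nat_lit 3, nat_lit 0, nat_lit 3, nat_lit 0, nat_lit 2] else [nat_lit 63, nat_lit 0, nat_lit 3, nat_lit 2, nat_lit 1, nat_lit 0, nat_lit 1, nat_lit 3, nat_lit 2, nat_lit 3, nat_lit 1, nat_lit 0, nat_lit 1, nat_lit 2, nat_lit 0, nat_lit 3, nat_lit 0, nat_lit 3, nat_lit 0, nat_lit 3]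
def Wt_428_431 (j : ℕ) : List ℕ := bif Nat.blt j 429 then [nat_lit 63, nat_lit 2, nat_lit 3, nat_lit 1, nat_lit 3, nat_lit 2, nat_lit 0, nat_lit 3, nat_lit 1, nat_lit 3, nat_lit 0, nat_lit 3, nat_lit 1, nat_lit 3, nat_lit 0, nat_lit 2, nat_lit 3, nat_lit 1, nat_lit 3] else (Wt_429_431 j)
def Wt_432_434 (j : ℕ) : List ℕ := bif Nat.blt j 433 then [nat_lit 2, nat_lit 0, nat_lit 2, nat_lit 0, nat_lit 2, nat_lit 0, nat_lit 1, nat_lit 0, nat_lit 2, nat_lit 1, nat_lit 2, nat_lit 0, nat_lit 1, nat_lit 2, nat_lit 0, nat_lit 1, nat_lit 0, nat_lit 2, nat_lit 1, nat_lit 0, nat_lit 2, nat_lit 1, nat_lit 0] else [nat_lit 63, nat_lit 1, nat_lit 2, nat_lit 0, nat_lit 1, nat_lit 0, nat_lit 1, nat_lit 0, nat_lit 1, nat_lit 0, nat_lit 2, nat_lit 1, nat_lit 2, nat_lit 0, nat_lit 2, nat_lit 1, nat_lit 0, nat_lit 2, nat_lit 0, nat_lit 2, nat_lit 0, nat_lit 1, nat_lit 2, nat_lit 0]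
def Wt_431_434 (j : ℕ) : List ℕ := bif Nat.blt j 432 then [nat_lit 63, nat_lit 0, nat_lit 1, nat_lit 2, nat_lit 1, nat_lit 0, nat_lit 1, nat_lit 2, nat_lit 3, nat_lit 0, nat_lit 2, nat_lit 3, nat_lit 2, nat_lit 0, nat_lit 3, nat_lit 0, nat_lit 3, nat_lit 0, nat_lit 2, nat_lit 1] else (Wt_432_434 j)
def Wt_428_434 (j : ℕ) : List ℕ := bif Nat.blt j 431 then (Wt_428_431 j) else (Wt_431_434 j)
def Wt_435_437 (j : ℕ) : List ℕ := bif Nat.blt j 436 then [nat_lit 63, nat_lit 0, nat_lit 1, nat_lit 0, nat_lit 2, nat_lit 1, nat_lit 0, nat_lit 2, nat_lit 1, nat_lit 0, nat_lit 2, nat_lit 1, nat_lit 2, nat_lit 0, nat_lit 2, nat_lit 0, nat_lit 1, nat_lit 2, nat_lit 0, nat_lit 2, nat_lit 0, nat_lit 1, nat_lit 0, nat_lit 2] else [nat_lit 63, nat_lit 0, nat_lit 2, nat_lit 0, nat_lit 1, nat_lit 2, nat_lit 0, nat_lit 2, nat_lit 1, nat_lit 2, nat_lit 0, nat_lit 1, nat_lit 0, nat_lit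 1, nat_lit 0, nat_lit 1, nat_lit 0, nat_lit 2, nat_lit 1, nat_lit 0, nat_lit 2, nat_lit 1, nat_lit 0, nat_lit 2]
def Wt_434_437 (j : ℕ) : List ℕ := bif Nat.blt j 435 then [nat_lit 63, nat_lit 2, nat_lit 0, nat_lit 1, nat_lit 2, nat_lit 1, nat_lit 0, nat_lit 2, nat_lit 0, nat_lit 1, nat_lit 3, nat_lit 2, nat_lit 3, nat_lit 1, nat_lit 0, nat_lit 2, nat_lit 0, nat_lit 1, nat_lit 2, nat_lit 1, nat_lit 0] else (Wt_435_437 j)
def Wt_438_440 (j : ℕ) : List ℕ := bif Nat.blt j 439 then [nat_lit 63, nat_lit 3, nat_lit 1, nat_lit 3, nat_lit 1, nat_lit 0, nat_lit 1, nat_lit 3, nat_lit 2, nat_lit 0, nat_lit 1, nat_lit 3, nat_lit 1, nat_lit 0, nat_lit 2, nat_lit 3, nat_lit 1, nat_lit 0, nat_lit 1, nat_lit 3, nat_lit 1] else [nat_lit 63, nat_lit 2, nat_lit 1, nat_lit 0, nat_lit 3, nat_lit 0, nat_lit 1, nat_lit 0, nat_lit 1, nat_lit 2, nat_lit 3, nat_lit 0, nat_lit 3, nat_lit 0,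 nat_lit 1, nat_lit 0, nat_lit 3, nat_lit 1, nat_lit 2, nat_lit 0, nat_lit 1, nat_lit 3, nat_lit 1]
def Wt_437_440 (j : ℕ) : List ℕ := bif Nat.blt j 438 then [nat_lit 63, nat_lit 1, nat_lit 2, nat_lit 0, nat_lit 1, nat_lit 2, nat_lit 0, nat_lit 1, nat_lit 0, nat_lit 2, nat_lit 1, nat_lit 0, nat_lit 2, nat_lit 1, nat_lit 0, nat_lit 2, nat_lit 0, nat_lit 2, nat_lit 0, nat_lit 2, nat_lit 0, nat_lit 1, nat_lit 0, nat_lit 2] else (Wt_438_440 j)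
def Wt_434_440 (j : ℕ) : List ℕ := bif Nat.blt j 437 then (Wt_434_437 j) else (Wt_437_440 j)
def Wt_428_440 (j : ℕ) : List ℕ := bif Nat.blt j 434 then (Wt_428_434 j) else (Wt_434_440 j)
def Wt_417_440 (j : ℕ) : List ℕ := bif Nat.blt j 428 then (Wt_417_428 j) else (Wt_428_440 j)
def Wt_441_443 (j : ℕ) : List ℕ := bif Nat.blt j 442 then [nat_lit 63, nat_lit 1, nat_lit 3, nat_lit 0, nat_lit 3, nat_lit 1, nat_lit 3, nat_lit 0, nat_lit 2, nat_lit 3, nat_lit 1, nat_lit 3, nat_lit 2, nat_lit 3, nat_lit 1, nat_lit 3, nat_lit 2, nat_lit 0, nat_lit 3] else [nat_lit 0, nat_lit 3, nat_lit 0, nat_lit 2, nat_lit 1, nat_lit 0, nat_lit 1, nat_lit 2, nat_lit 1, nat_lit 0, nat_lit 1, nat_lit 2, nat_lit 3, nat_lit 0, nat_lit 2, nat_lit 3, nat_lit 2, nat_lit 0, nat_lit 3]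
def Wt_440_443 (j : ℕ) : List ℕ := bif Nat.blt j 441 then [nat_lit 63, nat_lit 3, nat_lit 1, nat_lit 0, nat_lit 1, nat_lit 0, nat_lit 3, nat_lit 0, nat_lit 1, nat_lit 0, nat_lit 1, nat_lit 3, nat_lit 1, nat_lit 0, nat_lit 1, nat_lit 0, nat_lit 3, nat_lit 0, nat_lit 1, nat_lit 0, nat_lit 1] else (Wt_441_443 j)
def Wt_444_446 (j : ℕ) : List ℕ := bif Nat.blt j 445 then [nat_lit 63, nat_lit 3, nat_lit 0, nat_lit 3, nat_lit 0, nat_lit 2, nat_lit 3, nat_lit 2, nat_lit 0, nat_lit 3, nat_lit 2, nat_lit 1, nat_lit 0, nat_lit 1, nat_lit 2, nat_lit 1, nat_lit 0, nat_lit 1, nat_lit 2, nat_lit 0] else [nat_lit 63, nat_lit 0, nat_lit 3, nat_lit 0, nat_lit 3, nat_lit 0, nat_lit 3, nat_lit 0, nat_lit 3, nat_lit 2, nat_lit 1, nat_lit 0, nat_lit 1, nat_lit 3, nat_lit 2, nat_lit 3, nat_lit 1, nat_lit 0, nat_lit 1, nat_lit 2]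
def Wt_443_446 (j : ℕ) : List ℕ := bif Nat.blt j 444 then [nat_lit 0, nat_lit 1, nat_lit 2, nat_lit 3, nat_lit 0, nat_lit 3, nat_lit 0, nat_lit 3, nat_lit 0, nat_lit 3, nat_lit 0, nat_lit 1, nat_lit 3, nat_lit 2, nat_lit 3, nat_lit 1, nat_lit 2, nat_lit 0, nat_lit 1, nat_lit 2, nat_lit 1] else (Wt_444_446 j)
def Wt_440_446 (j : ℕ) : List ℕ := bif Nat.blt j 443 then (Wt_440_443 j) else (Wt_443_446 j)
def Wt_447_449 (j : ℕ) : List ℕ := bif Nat.blt j 448 then [nat_lit 63, nat_lit 1, nat_lit 2, nat_lit 1, nat_lit 0, nat_lit 2, nat_lit 0, nat_lit 2, nat_lit 1, nat_lit 2, nat_lit 0, nat_lit 2, nat_lit 0, nat_lit 1, nat_lit 2, nat_lit 1, nat_lit 0, nat_lit 3, nat_lit 2, nat_lit 3, nat_lit 0] else [nat_lit 1, nat_lit 0, nat_lit 2, nat_lit 0, nat_lit 2, nat_lit 0, nat_lit 2, nat_lit 0, nat_lit 1, nat_lit 0, nat_lit 2, nat_lit 1, nat_lit 2, nat_lit 0, nat_lit 1, nat_lit 2,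 nat_lit 0, nat_lit 1, nat_lit 0, nat_lit 2, nat_lit 1, nat_lit 0, nat_lit 2]
def Wt_446_449 (j : ℕ) : List ℕ := bif Nat.blt j 447 then [nat_lit 63, nat_lit 0, nat_lit 2, nat_lit 0, nat_lit 1, nat_lit 3, nat_lit 2, nat_lit 3, nat_lit 1, nat_lit 0, nat_lit 2, nat_lit 0, nat_lit 1, nat_lit 2, nat_lit 1, nat_lit 0, nat_lit 2, nat_lit 0, nat_lit 1, nat_lit 2, nat_lit 1] else (Wt_447_449 j)
def Wt_450_452 (j : ℕ) : List ℕ := bif Nat.blt j 451 then [nat_lit 0, nat_lit 2, nat_lit 3, nat_lit 2, nat_lit 0, nat_lit 3, nat_lit 2, nat_lit 1, nat_lit 0, nat_lit 2, nat_lit 1, nat_lit 3, nat_lit 2, nat_lit 3, nat_lit 0, nat_lit 1, nat_lit 2, nat_lit 0, nat_lit 3, nat_lit 0, nat_lit 3] else [nat_lit 63, nat_lit 2, nat_lit 1, nat_lit 0, nat_lit 1, nat_lit 2, nat_lit 3, nat_lit 0, nat_lit 3, nat_lit 0, nat_lit 3, nat_lit 0, nat_lit 2, nat_lit 3, nat_lit 2, nat_lit 0, nat_lit 2, nat_lit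 1, nat_lit 0, nat_lit 1]
def Wt_449_452 (j : ℕ) : List ℕ := bif Nat.blt j 450 then [nat_lit 63, nat_lit 0, nat_lit 3, nat_lit 2, nat_lit 3, nat_lit 0, nat_lit 1, nat_lit 2, nat_lit 1, nat_lit 0, nat_lit 2, nat_lit 0, nat_lit 2, nat_lit 1, nat_lit 2, nat_lit 0, nat_lit 2, nat_lit 0, nat_lit 1, nat_lit 2, nat_lit 1] else (Wt_450_452 j)
def Wt_446_452 (j : ℕ) : List ℕ := bif Nat.blt j 449 then (Wt_446_449 j) else (Wt_449_452 j)
def Wt_440_452 (j : ℕ) : List ℕ := bif Nat.blt j 446 then (Wt_440_446 j) else (Wt_446_452 j)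
def Wt_453_455 (j : ℕ) : List ℕ := bif Nat.blt j 454 then [nat_lit 1, nat_lit 2, nat_lit 1, nat_lit 0, nat_lit 1, nat_lit 2, nat_lit 0, nat_lit 3, nat_lit 0, nat_lit 3, nat_lit 0, nat_lit 2, nat_lit 3, nat_lit 2, nat_lit 0, nat_lit 3, nat_lit 2, nat_lit 1, nat_lit 0] else [nat_lit 63, nat_lit 1, nat_lit 3, nat_lit 1, nat_lit 0, nat_lit 1, nat_lit 3, nat_lit 2, nat_lit 0, nat_lit 1, nat_lit 3, nat_lit 1, nat_lit 0, nat_lit 2, nat_lit 3, nat_lit 1, nat_lit 0, nat_lit 1, nat_lit 3, nat_lit 1, nat_lit 3]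
def Wt_452_455 (j : ℕ) : List ℕ := bif Nat.blt j 453 then [nat_lit 63, nat_lit 3, nat_lit 0, nat_lit 3, nat_lit 2, nat_lit 1, nat_lit 0, nat_lit 1, nat_lit 2, nat_lit 1, nat_lit 0, nat_lit 2, nat_lit 1, nat_lit 3, nat_lit 2, nat_lit 3, nat_lit 1, nat_lit 0, nat_lit 3, nat_lit 0, nat_lit 3, nat_lit 0] else (Wt_453_455 j)
def Wt_456_458 (j : ℕ) : List ℕ := bif Nat.blt j 457 then [nat_lit 63, nat_lit 2, nat_lit 1, nat_lit 0, nat_lit 2, nat_lit 0, nat_lit 2, nat_lit 0, nat_lit 1, nat_lit 2, nat_lit 0, nat_lit 1, nat_lit 2, nat_lit 0, nat_lit 1, nat_lit 0, nat_lit 1, nat_lit 0, nat_lit 1, nat_lit 0, nat_lit 2, nat_lit 1, nat_lit 2, nat_lit 0] else [nat_lit 63, nat_lit 1, nat_lit 0, nat_lit 2, nat_lit 0, nat_lit 2, nat_lit 1, nat_lit 2, nat_lit 0, nat_lit 2, nat_lit 0, nat_lit 1, nat_lit 2, nat_lit 1, nat_lit 0, nat_lit 3, nat_lit 2, nat_lit 3, nat_lit 0, nat_lit 1, nat_lit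 2]
def Wt_455_458 (j : ℕ) : List ℕ := bif Nat.blt j 456 then [nat_lit 2, nat_lit 3, nat_lit 1, nat_lit 0, nat_lit 1, nat_lit 2, nat_lit 0, nat_lit 3, nat_lit 0, nat_lit 3, nat_lit 0, nat_lit 3, nat_lit 0, nat_lit 3, nat_lit 2, nat_lit 1, nat_lit 0, nat_lit 1, nat_lit 3] else (Wt_456_458 j)
def Wt_452_458 (j : ℕ) : List ℕ := bif Nat.blt j 455 then (Wt_452_455 j) else (Wt_455_458 j)
def Wt_459_461 (j : ℕ) : List ℕ := bif Nat.blt j 460 then [nat_lit 0, nat_lit 1, nat_lit 0, nat_lit 2, nat_lit 1, nat_lit 2, nat_lit 0, nat_lit 1, nat_lit 2, nat_lit 0, nat_lit 1, nat_lit 0, nat_lit 2, nat_lit 1, nat_lit 0, nat_lit 2, nat_lit 1, nat_lit 0, nat_lit 2, nat_lit 0, nat_lit 2, nat_lit 0, nat_lit 2] else [nat_lit 63, nat_lit 1, nat_lit 2, nat_lit 3, nat_lit 0, nat_lit 3, nat_lit 0, nat_lit 3, nat_lit 0, nat_lit 2, nat_lit 3, nat_lit 2, nat_lit 0, nat_lit 2, nat_lit 1, nat_lit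 0, nat_lit 1, nat_lit 2, nat_lit 1, nat_lit 0]
def Wt_458_461 (j : ℕ) : List ℕ := bif Nat.blt j 459 then [nat_lit 1, nat_lit 0, nat_lit 2, nat_lit 0, nat_lit 2, nat_lit 1, nat_lit 2, nat_lit 0, nat_lit 1, nat_lit 2, nat_lit 0, nat_lit 1, nat_lit 2, nat_lit 0, nat_lit 1, nat_lit 0, nat_lit 2, nat_lit 0, nat_lit 1, nat_lit 0, nat_lit 2, nat_lit 0, nat_lit 2] else (Wt_459_461 j)
def Wt_462_464 (j : ℕ) : List ℕ := bif Nat.blt j 463 then [nat_lit 63, nat_lit 1, nat_lit 2, nat_lit 0, nat_lit 1, nat_lit 2, nat_lit 0, nat_lit 1, nat_lit 0, nat_lit 1, nat_lit 0, nat_lit 1, nat_lit 0, nat_lit 2, nat_lit 1, nat_lit 2, nat_lit 0, nat_lit 2, nat_lit 1, nat_lit 0, nat_lit 2, nat_lit 0, nat_lit 2, nat_lit 0] else [nat_lit 0, nat_lit 1, nat_lit 0, nat_lit 2, nat_lit 0, nat_lit 1, nat_lit 0, nat_lit 2, nat_lit 0, nat_lit 2, nat_lit 1, nat_lit 0, nat_lit 2, nat_lit 0, nat_lit 2, nat_lit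 1, nat_lit 2, nat_lit 0, nat_lit 1, nat_lit 2, nat_lit 0, nat_lit 1, nat_lit 2]
def Wt_461_464 (j : ℕ) : List ℕ := bif Nat.blt j 462 then [nat_lit 63, nat_lit 0, nat_lit 1, nat_lit 0, nat_lit 1, nat_lit 0, nat_lit 1, nat_lit 0, nat_lit 1, nat_lit 0, nat_lit 1, nat_lit 0, nat_lit 1, nat_lit 0, nat_lit 1, nat_lit 0, nat_lit 1] else (Wt_462_464 j)
def Wt_458_464 (j : ℕ) : List ℕ := bif Nat.blt j 461 then (Wt_458_461 j) else (Wt_461_464 j)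
def Wt_452_464 (j : ℕ) : List ℕ := bif Nat.blt j 458 then (Wt_452_458 j) else (Wt_458_464 j)
def Wt_440_464 (j : ℕ) : List ℕ := bif Nat.blt j 452 then (Wt_440_452 j) else (Wt_452_464 j)
def Wt_417_464 (j : ℕ) : List ℕ := bif Nat.blt j 440 then (Wt_417_440 j) else (Wt_440_464 j)
def Wt_371_464 (j : ℕ) : List ℕ := bif Nat.blt j 417 then (Wt_371_417 j) else (Wt_417_464 j)
def Wt_464_466 (j : ℕ) : List ℕ := bif Nat.blt j 465 then [nat_lit 3, nat_lit 0, nat_lit 3, nat_lit 0, nat_lit 1, nat_lit 3, nat_lit 2, nat_lit 3, nat_lit 1, nat_lit 2, nat_lit 0, nat_lit 1, nat_lit 2, nat_lit 1, nat_lit 0, nat_lit 1, nat_lit 2, nat_lit 3, nat_lit 0, nat_lit 3, nat_lit 0] else [nat_lit 63, nat_lit 0, nat_lit 1, nat_lit 2, nat_lit 0, nat_lit 2, nat_lit 3, nat_lit 2, nat_lit 0, nat_lit 3, nat_lit 0, nat_lit 3, nat_lit 0, nat_lit 3, nat_lit 2, nat_lit 1, nat_lit 0, nat_lit 1, nat_lit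 2, nat_lit 1]
def Wt_467_469 (j : ℕ) : List ℕ := bif Nat.blt j 468 then [nat_lit 63, nat_lit 2, nat_lit 1, nat_lit 0, nat_lit 1, nat_lit 2, nat_lit 1, nat_lit 0, nat_lit 1, nat_lit 2, nat_lit 0, nat_lit 2, nat_lit 3, nat_lit 2, nat_lit 0, nat_lit 3, nat_lit 0, nat_lit 3, nat_lit 0, nat_lit 3] else [nat_lit 0, nat_lit 3, nat_lit 1, nat_lit 2, nat_lit 0, nat_lit 1, nat_lit 3, nat_lit 1, nat_lit 2, nat_lit 1, nat_lit 0, nat_lit 3, nat_lit 0, nat_lit 1, nat_lit 0, nat_lit 1, nat_lit 2, nat_lit 3, nat_lit 0, nat_lit 3, nat_lit 0, nat_lit 1]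
def Wt_466_469 (j : ℕ) : List ℕ := bif Nat.blt j 467 then [nat_lit 2, nat_lit 1, nat_lit 0, nat_lit 1, nat_lit 0, nat_lit 3, nat_lit 0, nat_lit 1, nat_lit 2, nat_lit 1, nat_lit 3, nat_lit 1, nat_lit 0, nat_lit 2, nat_lit 1, nat_lit 3, nat_lit 0, nat_lit 1, nat_lit 0, nat_lit 3, nat_lit 0, nat_lit 3] else (Wt_467_469 j)
def Wt_464_469 (j : ℕ) : List ℕ := bif Nat.blt j 466 then (Wt_464_466 j) else (Wt_466_469 j)
def Wt_470_472 (j : ℕ) : List ℕ := bif Nat.blt j 471 then [nat_lit 2, nat_lit 0, nat_lit 1, nat_lit 2, nat_lit 0, nat_lit 2, nat_lit 1, nat_lit 2, nat_lit 0, nat_lit 1, nat_lit 0, nat_lit 1, nat_lit 0, nat_lit 1, nat_lit 0, nat_lit 2, nat_lit 1, nat_lit 0, nat_lit 2, nat_lit 1, nat_lit 0, nat_lit 2, nat_lit 0] else [nat_lit 63, nat_lit 0, nat_lit 2, nat_lit 1, nat_lit 0, nat_lit 2, nat_lit 1, nat_lit 0, nat_lit 2, nat_lit 0, nat_lit 2, nat_lit 0, nat_lit 1,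 nat_lit 2, nat_lit 0, nat_lit 2, nat_lit 1, nat_lit 2, nat_lit 0, nat_lit 1, nat_lit 0, nat_lit 1, nat_lit 0, nat_lit 1]
def Wt_469_472 (j : ℕ) : List ℕ := bif Nat.blt j 470 then [nat_lit 0, nat_lit 2, nat_lit 0, nat_lit 2, nat_lit 0, nat_lit 1, nat_lit 2, nat_lit 0, nat_lit 2, nat_lit 1, nat_lit 2, nat_lit 0, nat_lit 1, nat_lit 0, nat_lit 1, nat_lit 0, nat_lit 1, nat_lit 0, nat_lit 2, nat_lit 1, nat_lit 0, nat_lit 2, nat_lit 1] else (Wt_470_472 j)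
def Wt_473_475 (j : ℕ) : List ℕ := bif Nat.blt j 474 then [nat_lit 3, nat_lit 0, nat_lit 3, nat_lit 0, nat_lit 3, nat_lit 0, nat_lit 3, nat_lit 2, nat_lit 1, nat_lit 0, nat_lit 1, nat_lit 3, nat_lit 2, nat_lit 3, nat_lit 1, nat_lit 0, nat_lit 1, nat_lit 2, nat_lit 0] else [nat_lit 0, nat_lit 2, nat_lit 1, nat_lit 0, nat_lit 2, nat_lit 0, nat_lit 2, nat_lit 0, nat_lit 1, nat_lit 2, nat_lit 0, nat_lit 2, nat_lit 1, nat_lit 2, nat_lit 0, nat_lit 1, nat_lit 0, nat_lit 1, nat_lit 0, nat_lit 1, nat_lit 0, nat_lit 2, nat_lit 1]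
def Wt_472_475 (j : ℕ) : List ℕ := bif Nat.blt j 473 then [nat_lit 63, nat_lit 1, nat_lit 2, nat_lit 0, nat_lit 1, nat_lit 0, nat_lit 2, nat_lit 1, nat_lit 0, nat_lit 2, nat_lit 1, nat_lit 0, nat_lit 2, nat_lit 0, nat_lit 2, nat_lit 0, nat_lit 2, nat_lit 0, nat_lit 1, nat_lit 0, nat_lit 2, nat_lit 1, nat_lit 2, nat_lit 0] else (Wt_473_475 j)
def Wt_469_475 (j : ℕ) : List ℕ := bif Nat.blt j 472 then (Wt_469_472 j) else (Wt_472_475 j)
def Wt_464_475 (j : ℕ) : List ℕ := bif Nat.blt j 469 then (Wt_464_469 j) else (Wt_469_475 j)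
def Wt_476_478 (j : ℕ) : List ℕ := bif Nat.blt j 477 then [nat_lit 0, nat_lit 1, nat_lit 2, nat_lit 0, nat_lit 1, nat_lit 2, nat_lit 0, nat_lit 1, nat_lit 0, nat_lit 2, nat_lit 0, nat_lit 1, nat_lit 0, nat_lit 2, nat_lit 0, nat_lit 2, nat_lit 1, nat_lit 0, nat_lit 2, nat_lit 0, nat_lit 2, nat_lit 1, nat_lit 2] else [nat_lit 63, nat_lit 0, nat_lit 2, nat_lit 1, nat_lit 2, nat_lit 0, nat_lit 2, nat_lit 1, nat_lit 0, nat_lit 2, nat_lit 0, nat_lit 2, nat_lit 0, nat_lit 1, nat_lit 2, nat_lit 0, nat_lit 1, nat_lit 2, nat_lit 0, nat_lit 1, nat_lit 0, nat_lit 1, nat_lit 0, nat_lit 1]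
def Wt_475_478 (j : ℕ) : List ℕ := bif Nat.blt j 476 then [nat_lit 63, nat_lit 0, nat_lit 2, nat_lit 0, nat_lit 2, nat_lit 1, nat_lit 0, nat_lit 2, nat_lit 0, nat_lit 2, nat_lit 1, nat_lit 2, nat_lit 0, nat_lit 1, nat_lit 2, nat_lit 0, nat_lit 1, nat_lit 2, nat_lit 0, nat_lit 1, nat_lit 0, nat_lit 2, nat_lit 0, nat_lit 1] else (Wt_476_478 j)
def Wt_479_481 (j : ℕ) : List ℕ := bif Nat.blt j 480 then [nat_lit 2, nat_lit 1, nat_lit 0, nat_lit 2, nat_lit 1, nat_lit 2, nat_lit 0, nat_lit 1, nat_lit 0, nat_lit 2, nat_lit 0, nat_lit 2, nat_lit 0, nat_lit 2, nat_lit 0, nat_lit 1, nat_lit 2, nat_lit 0, nat_lit 1, nat_lit 2, nat_lit 0, nat_lit 1, nat_lit 0] else [nat_lit 3, nat_lit 1, nat_lit 2, nat_lit 0, nat_lit 1, nat_lit 3, nat_lit 1, nat_lit 2, nat_lit 1, nat_lit 0, nat_lit 3, nat_lit 0, nat_lit 1, nat_lit 0, nat_lit 1, nat_lit 2, nat_lit 3, nat_lit 0, nat_lit 3, nat_lit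 0, nat_lit 1, nat_lit 0]
def Wt_478_481 (j : ℕ) : List ℕ := bif Nat.blt j 479 then [nat_lit 0, nat_lit 2, nat_lit 1, nat_lit 0, nat_lit 2, nat_lit 0, nat_lit 2, nat_lit 0, nat_lit 2, nat_lit 0, nat_lit 1, nat_lit 0, nat_lit 2, nat_lit 1, nat_lit 2, nat_lit 0, nat_lit 1, nat_lit 2, nat_lit 0, nat_lit 1, nat_lit 0, nat_lit 2, nat_lit 1] else (Wt_479_481 j)
def Wt_475_481 (j : ℕ) : List ℕ := bif Nat.blt j 478 then (Wt_475_478 j) else (Wt_478_481 j)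
def Wt_482_484 (j : ℕ) : List ℕ := bif Nat.blt j 483 then [nat_lit 0, nat_lit 2, nat_lit 0, nat_lit 2, nat_lit 0, nat_lit 2, nat_lit 0, nat_lit 1, nat_lit 0, nat_lit 2, nat_lit 1, nat_lit 2, nat_lit 0, nat_lit 1, nat_lit 2, nat_lit 0, nat_lit 1, nat_lit 0, nat_lit 2, nat_lit 1, nat_lit 0, nat_lit 2, nat_lit 1] else [nat_lit 63, nat_lit 2, nat_lit 0, nat_lit 2, nat_lit 3, nat_lit 2, nat_lit 0, nat_lit 3, nat_lit 0, nat_lit 3, nat_lit 0, nat_lit 3, nat_lit 2, nat_lit 1, nat_lit 0, nat_lit 1, nat_lit 2, nat_lit 1, nat_lit 0, nat_lit 1]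
def Wt_481_484 (j : ℕ) : List ℕ := bif Nat.blt j 482 then [nat_lit 0, nat_lit 3, nat_lit 0, nat_lit 1, nat_lit 0, nat_lit 3, nat_lit 1, nat_lit 2, nat_lit 0, nat_lit 1, nat_lit 3, nat_lit 1, nat_lit 2, nat_lit 1, nat_lit 0, nat_lit 3, nat_lit 0, nat_lit 1, nat_lit 0, nat_lit 1, nat_lit 2, nat_lit 3] else (Wt_482_484 j)
def Wt_485_487 (j : ℕ) : List ℕ := bif Nat.blt j 486 then [nat_lit 0, nat_lit 3, nat_lit 0, nat_lit 1, nat_lit 3, nat_lit 2, nat_lit 3, nat_lit 1, nat_lit 2, nat_lit 0, nat_lit 1, nat_lit 2, nat_lit 1, nat_lit 0, nat_lit 1, nat_lit 2, nat_lit 3, nat_lit 0, nat_lit 3, nat_lit 0, nat_lit 3] else [nat_lit 63, nat_lit 1, nat_lit 3, nat_lit 1, nat_lit 2, nat_lit 1, nat_lit 0, nat_lit 3, nat_lit 0, nat_lit 1, nat_lit 0, nat_lit 1, nat_lit 2, nat_lit 3, nat_lit 0, nat_lit 3, nat_lit 0, nat_lit 1, nat_lit 0, nat_lit 3, nat_lit 1, nat_lit 2, nat_lit 0]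
def Wt_484_487 (j : ℕ) : List ℕ := bif Nat.blt j 485 then [nat_lit 63, nat_lit 1, nat_lit 0, nat_lit 3, nat_lit 2, nat_lit 3, nat_lit 0, nat_lit 1, nat_lit 2, nat_lit 1, nat_lit 0, nat_lit 2, nat_lit 0, nat_lit 2, nat_lit 1, nat_lit 2, nat_lit 0, nat_lit 2, nat_lit 0, nat_lit 1, nat_lit 2] else (Wt_485_487 j)
def Wt_481_487 (j : ℕ) : List ℕ := bif Nat.blt j 484 then (Wt_481_484 j) else (Wt_484_487 j)
def Wt_475_487 (j : ℕ) : List ℕ := bif Nat.blt j 481 then (Wt_475_481 j) else (Wt_481_487 j)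
def Wt_464_487 (j : ℕ) : List ℕ := bif Nat.blt j 475 then (Wt_464_475 j) else (Wt_475_487 j)
def Wt_487_489 (j : ℕ) : List ℕ := bif Nat.blt j 488 then [nat_lit 63, nat_lit 3, nat_lit 0, nat_lit 3, nat_lit 0, nat_lit 3, nat_lit 0, nat_lit 3, nat_lit 0, nat_lit 1, nat_lit 3, nat_lit 2, nat_lit 3, nat_lit 1, nat_lit 2, nat_lit 0, nat_lit 1, nat_lit 2, nat_lit 1, nat_lit 0, nat_lit 1, nat_lit 2] else [nat_lit 2, nat_lit 0, nat_lit 1, nat_lit 2, nat_lit 3, nat_lit 0, nat_lit 2, nat_lit 3, nat_lit 2, nat_lit 0, nat_lit 3, nat_lit 0, nat_lit 3, nat_lit 0, nat_lit 2, nat_lit 1, nat_lit 0, nat_lit 3, nat_lit 2, nat_lit 3, nat_lit 1]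
def Wt_490_492 (j : ℕ) : List ℕ := bif Nat.blt j 491 then [nat_lit 63, nat_lit 2, nat_lit 1, nat_lit 0, nat_lit 2, nat_lit 0, nat_lit 2, nat_lit 1, nat_lit 2, nat_lit 0, nat_lit 2, nat_lit 0, nat_lit 1, nat_lit 2, nat_lit 1, nat_lit 0, nat_lit 3, nat_lit 2, nat_lit 3, nat_lit 0, nat_lit 1] else [nat_lit 63, nat_lit 0, nat_lit 2, nat_lit 1, nat_lit 0, nat_lit 2, nat_lit 0, nat_lit 2, nat_lit 1, nat_lit 2, nat_lit 0, nat_lit 1, nat_lit 2, nat_lit 0, nat_lit 1, nat_lit 2, nat_lit 0, nat_lit 1, nat_lit 0, nat_lit 2, nat_lit 0, nat_lit 1, nat_lit 0, nat_lit 2]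
def Wt_489_492 (j : ℕ) : List ℕ := bif Nat.blt j 490 then [nat_lit 2, nat_lit 1, nat_lit 0, nat_lit 1, nat_lit 2, nat_lit 1, nat_lit 0, nat_lit 1, nat_lit 2, nat_lit 3, nat_lit 0, nat_lit 2, nat_lit 3, nat_lit 2, nat_lit 0, nat_lit 3, nat_lit 0, nat_lit 3, nat_lit 0] else (Wt_490_492 j)
def Wt_487_492 (j : ℕ) : List ℕ := bif Nat.blt j 489 then (Wt_487_489 j) else (Wt_489_492 j)
def Wt_493_495 (j : ℕ) : List ℕ := bif Nat.blt j 494 then [nat_lit 63, nat_lit 1, nat_lit 3, nat_lit 1, nat_lit 0, nat_lit 2, nat_lit 3, nat_lit 1, nat_lit 0, nat_lit 1, nat_lit 3, nat_lit 1, nat_lit 3, nat_lit 1, nat_lit 3, nat_lit 1, nat_lit 0, nat_lit 1, nat_lit 3, nat_lit 2, nat_lit 0] else [nat_lit 63, nat_lit 0, nat_lit 3, nat_lit 0, nat_lit 1, nat_lit 0, nat_lit 3, nat_lit 1, nat_lit 2, nat_lit 0, nat_lit 1, nat_lit 3, nat_lit 1, nat_lit 2, nat_lit 1, nat_lit 0, nat_lit 3, nat_lit 0,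 nat_lit 1, nat_lit 0, nat_lit 1, nat_lit 2, nat_lit 3]
def Wt_492_495 (j : ℕ) : List ℕ := bif Nat.blt j 493 then [nat_lit 63, nat_lit 2, nat_lit 0, nat_lit 1, nat_lit 0, nat_lit 2, nat_lit 0, nat_lit 2, nat_lit 1, nat_lit 0, nat_lit 2, nat_lit 0, nat_lit 2, nat_lit 1, nat_lit 2, nat_lit 0, nat_lit 1, nat_lit 2, nat_lit 0, nat_lit 1, nat_lit 2, nat_lit 0, nat_lit 1, nat_lit 0] else (Wt_493_495 j)
def Wt_496_498 (j : ℕ) : List ℕ := bif Nat.blt j 497 then [nat_lit 63, nat_lit 0, nat_lit 3, nat_lit 0, nat_lit 2, nat_lit 3, nat_lit 2, nat_lit 0, nat_lit 3, nat_lit 2, nat_lit 1, nat_lit 0, nat_lit 1, nat_lit 2, nat_lit 1, nat_lit 0, nat_lit 1, nat_lit 2, nat_lit 0, nat_lit 3] else [nat_lit 3, nat_lit 0, nat_lit 2, nat_lit 1, nat_lit 0, nat_lit 1, nat_lit 2, nat_lit 1, nat_lit 0, nat_lit 1, nat_lit 2, nat_lit 3, nat_lit 0, nat_lit 2, nat_lit 3, nat_lit 2, nat_lit 0, nat_lit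 3, nat_lit 0]
def Wt_495_498 (j : ℕ) : List ℕ := bif Nat.blt j 496 then [nat_lit 63, nat_lit 3, nat_lit 63, nat_lit 3, nat_lit 63] else (Wt_496_498 j)
def Wt_492_498 (j : ℕ) : List ℕ := bif Nat.blt j 495 then (Wt_492_495 j) else (Wt_495_498 j)
def Wt_487_498 (j : ℕ) : List ℕ := bif Nat.blt j 492 then (Wt_487_492 j) else (Wt_492_498 j)
def Wt_499_501 (j : ℕ) : List ℕ := bif Nat.blt j 500 then [nat_lit 2, nat_lit 1, nat_lit 0, nat_lit 1, nat_lit 2, nat_lit 1, nat_lit 0, nat_lit 1, nat_lit 2, nat_lit 3, nat_lit 0, nat_lit 3, nat_lit 0, nat_lit 3, nat_lit 0, nat_lit 2, nat_lit 3, nat_lit 2, nat_lit 0] else [nat_lit 3, nat_lit 1, nat_lit 3, nat_lit 1, nat_lit 0, nat_lit 1, nat_lit 3, nat_lit 2, nat_lit 0, nat_lit 1, nat_lit 3, nat_lit 1, nat_lit 0, nat_lit 2, nat_lit 3, nat_lit 1, nat_lit 0, nat_lit 1, nat_lit 3, nat_lit 1]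
def Wt_498_501 (j : ℕ) : List ℕ := bif Nat.blt j 499 then [nat_lit 63, nat_lit 2, nat_lit 3, nat_lit 1, nat_lit 2, nat_lit 0, nat_lit 1, nat_lit 2, nat_lit 3, nat_lit 0, nat_lit 2, nat_lit 3, nat_lit 2, nat_lit 0, nat_lit 3, nat_lit 0, nat_lit 3, nat_lit 0, nat_lit 2, nat_lit 1, nat_lit 0, nat_lit 3] else (Wt_499_501 j)
def Wt_502_504 (j : ℕ) : List ℕ := bif Nat.blt j 503 then [nat_lit 63, nat_lit 3, nat_lit 0, nat_lit 1, nat_lit 0, nat_lit 1, nat_lit 2, nat_lit 3, nat_lit 0, nat_lit 3, nat_lit 0, nat_lit 1, nat_lit 0, nat_lit 3, nat_lit 1, nat_lit 2, nat_lit 0, nat_lit 1, nat_lit 3, nat_lit 1, nat_lit 2, nat_lit 1, nat_lit 0] else [nat_lit 3, nat_lit 1, nat_lit 0, nat_lit 2, nat_lit 3, nat_lit 1, nat_lit 0, nat_lit 1, nat_lit 3, nat_lit 1, nat_lit 3, nat_lit 1, nat_lit 3, nat_lit 1, nat_lit 0, nat_lit 1, nat_lit 3, nat_lit 2, nat_lit 0, nat_lit 1]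
def Wt_501_504 (j : ℕ) : List ℕ := bif Nat.blt j 502 then [nat_lit 63, nat_lit 0, nat_lit 1, nat_lit 2, nat_lit 0, nat_lit 3, nat_lit 0, nat_lit 3, nat_lit 0, nat_lit 2, nat_lit 3, nat_lit 2, nat_lit 0, nat_lit 3, nat_lit 2, nat_lit 1, nat_lit 0, nat_lit 1, nat_lit 2, nat_lit 1] else (Wt_502_504 j)
def Wt_498_504 (j : ℕ) : List ℕ := bif Nat.blt j 501 then (Wt_498_501 j) else (Wt_501_504 j)
def Wt_505_507 (j : ℕ) : List ℕ := bif Nat.blt j 506 then [nat_lit 0, nat_lit 1, nat_lit 2, nat_lit 0, nat_lit 3, nat_lit 0, nat_lit 3, nat_lit 0, nat_lit 3, nat_lit 0, nat_lit 3, nat_lit 2, nat_lit 1, nat_lit 0, nat_lit 1, nat_lit 3, nat_lit 2, nat_lit 3, nat_lit 1] else [nat_lit 63, nat_lit 1, nat_lit 2, nat_lit 3, nat_lit 0, nat_lit 2, nat_lit 3, nat_lit 2, nat_lit 0, nat_lit 3, nat_lit 0, nat_lit 3, nat_lit 0, nat_lit 2, nat_lit 1, nat_lit 0, nat_lit 1, nat_lit 2, nat_lit 1,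 nat_lit 0]
def Wt_504_507 (j : ℕ) : List ℕ := bif Nat.blt j 505 then [nat_lit 63, nat_lit 2, nat_lit 0, nat_lit 1, nat_lit 0, nat_lit 2, nat_lit 1, nat_lit 0, nat_lit 2, nat_lit 1, nat_lit 0, nat_lit 2, nat_lit 1, nat_lit 2, nat_lit 0, nat_lit 2, nat_lit 0, nat_lit 1, nat_lit 2, nat_lit 0, nat_lit 2, nat_lit 0, nat_lit 1, nat_lit 0] else (Wt_505_507 j)
def Wt_508_510 (j : ℕ) : List ℕ := bif Nat.blt j 509 then [nat_lit 63, nat_lit 0, nat_lit 1, nat_lit 3, nat_lit 1, nat_lit 0, nat_lit 2, nat_lit 3, nat_lit 1, nat_lit 0, nat_lit 1, nat_lit 3, nat_lit 1, nat_lit 3, nat_lit 1, nat_lit 3, nat_lit 1, nat_lit 0, nat_lit 1, nat_lit 3, nat_lit 2] else [nat_lit 63, nat_lit 3, nat_lit 1, nat_lit 0, nat_lit 2, nat_lit 3, nat_lit 1, nat_lit 0, nat_lit 1, nat_lit 3, nat_lit 1, nat_lit 3, nat_lit 1, nat_lit 3, nat_lit 1, nat_lit 0, nat_lit 1, nat_lit 3, nat_lit 2, nat_lit 0, nat_lit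 1]
def Wt_507_510 (j : ℕ) : List ℕ := bif Nat.blt j 508 then [nat_lit 63, nat_lit 0, nat_lit 2, nat_lit 1, nat_lit 3, nat_lit 0, nat_lit 1, nat_lit 0, nat_lit 3, nat_lit 0, nat_lit 3, nat_lit 2, nat_lit 1, nat_lit 0, nat_lit 1, nat_lit 0, nat_lit 3, nat_lit 0, nat_lit 1, nat_lit 2, nat_lit 1, nat_lit 3, nat_lit 1] else (Wt_508_510 j)
def Wt_504_510 (j : ℕ) : List ℕ := bif Nat.blt j 507 then (Wt_504_507 j) else (Wt_507_510 j)
def Wt_498_510 (j : ℕ) : List ℕ := bif Nat.blt j 504 then (Wt_498_504 j) else (Wt_504_510 j)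
def Wt_487_510 (j : ℕ) : List ℕ := bif Nat.blt j 498 then (Wt_487_498 j) else (Wt_498_510 j)
def Wt_464_510 (j : ℕ) : List ℕ := bif Nat.blt j 487 then (Wt_464_487 j) else (Wt_487_510 j)
def Wt_510_512 (j : ℕ) : List ℕ := bif Nat.blt j 511 then [nat_lit 63, nat_lit 3, nat_lit 2, nat_lit 3, nat_lit 1, nat_lit 0, nat_lit 1, nat_lit 2, nat_lit 3, nat_lit 0, nat_lit 3, nat_lit 0, nat_lit 3, nat_lit 0, nat_lit 3, nat_lit 0, nat_lit 2, nat_lit 1, nat_lit 0, nat_lit 1] else [nat_lit 63, nat_lit 3, nat_lit 0, nat_lit 2, nat_lit 3, nat_lit 2, nat_lit 0, nat_lit 3, nat_lit 2, nat_lit 1, nat_lit 0, nat_lit 2, nat_lit 1, nat_lit 3, nat_lit 2, nat_lit 3, nat_lit 0, nat_lit 1, nat_lit 2, nat_lit 0, nat_lit 3, nat_lit 0]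
def Wt_513_515 (j : ℕ) : List ℕ := bif Nat.blt j 514 then [nat_lit 63, nat_lit 3, nat_lit 1, nat_lit 0, nat_lit 1, nat_lit 3, nat_lit 1, nat_lit 3, nat_lit 1, nat_lit 3, nat_lit 1, nat_lit 0, nat_lit 1, nat_lit 3, nat_lit 2, nat_lit 0, nat_lit 1, nat_lit 3, nat_lit 1, nat_lit 0, nat_lit 2] else [nat_lit 63, nat_lit 0, nat_lit 2, nat_lit 3, nat_lit 1, nat_lit 0, nat_lit 1, nat_lit 3, nat_lit 1, nat_lit 3, nat_lit 1, nat_lit 3, nat_lit 1, nat_lit 0, nat_lit 1, nat_lit 3, nat_lit 2, nat_lit 0, nat_lit 1, nat_lit 3, nat_lit 1]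
def Wt_512_515 (j : ℕ) : List ℕ := bif Nat.blt j 513 then [nat_lit 63, nat_lit 0, nat_lit 1, nat_lit 2, nat_lit 1, nat_lit 0, nat_lit 1, nat_lit 2, nat_lit 0, nat_lit 2, nat_lit 3, nat_lit 2, nat_lit 0, nat_lit 3, nat_lit 0, nat_lit 3, nat_lit 0, nat_lit 3, nat_lit 2, nat_lit 1] else (Wt_513_515 j)
def Wt_510_515 (j : ℕ) : List ℕ := bif Nat.blt j 512 then (Wt_510_512 j) else (Wt_512_515 j)
def Wt_516_518 (j : ℕ) : List ℕ := bif Nat.blt j 517 then [nat_lit 0, nat_lit 2, nat_lit 3, nat_lit 2, nat_lit 0, nat_lit 3, nat_lit 0, nat_lit 3, nat_lit 0, nat_lit 2, nat_lit 1, nat_lit 0, nat_lit 1, nat_lit 2, nat_lit 1, nat_lit 0, nat_lit 1, nat_lit 2, nat_lit 3] else [nat_lit 1, nat_lit 0, nat_lit 3, nat_lit 0, nat_lit 3, nat_lit 0, nat_lit 3, nat_lit 0, nat_lit 3, nat_lit 2, nat_lit 1, nat_lit 0, nat_lit 1, nat_lit 2, nat_lit 1, nat_lit 0, nat_lit 2, nat_lit 1, nat_lit 3,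 nat_lit 2, nat_lit 3]
def Wt_515_518 (j : ℕ) : List ℕ := bif Nat.blt j 516 then [nat_lit 63, nat_lit 1, nat_lit 0, nat_lit 3, nat_lit 0, nat_lit 1, nat_lit 0, nat_lit 1, nat_lit 3, nat_lit 1, nat_lit 0, nat_lit 1, nat_lit 0, nat_lit 3, nat_lit 0, nat_lit 1, nat_lit 0, nat_lit 1, nat_lit 3, nat_lit 1, nat_lit 0] else (Wt_516_518 j)
def Wt_519_521 (j : ℕ) : List ℕ := bif Nat.blt j 520 then [nat_lit 63, nat_lit 1, nat_lit 0, nat_lit 1, nat_lit 0, nat_lit 1, nat_lit 0, nat_lit 1, nat_lit 0, nat_lit 1, nat_lit 0, nat_lit 1, nat_lit 0, nat_lit 1, nat_lit 0, nat_lit 1, nat_lit 0] else [nat_lit 63, nat_lit 1, nat_lit 0, nat_lit 1, nat_lit 0, nat_lit 3, nat_lit 0, nat_lit 1, nat_lit 0, nat_lit 1, nat_lit 3, nat_lit 1, nat_lit 0, nat_lit 1, nat_lit 0, nat_lit 3, nat_lit 0, nat_lit 1, nat_lit 0, nat_lit 1, nat_lit 3]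
def Wt_518_521 (j : ℕ) : List ℕ := bif Nat.blt j 519 then [nat_lit 63, nat_lit 3, nat_lit 0, nat_lit 2, nat_lit 1, nat_lit 0, nat_lit 1, nat_lit 2, nat_lit 1, nat_lit 0, nat_lit 1, nat_lit 2, nat_lit 3, nat_lit 0, nat_lit 2, nat_lit 3, nat_lit 2, nat_lit 0, nat_lit 3, nat_lit 0] else (Wt_519_521 j)
def Wt_515_521 (j : ℕ) : List ℕ := bif Nat.blt j 518 then (Wt_515_518 j) else (Wt_518_521 j)
def Wt_510_521 (j : ℕ) : List ℕ := bif Nat.blt j 515 then (Wt_510_515 j) else (Wt_515_521 j)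
def Wt_522_524 (j : ℕ) : List ℕ := bif Nat.blt j 523 then [nat_lit 3, nat_lit 2, nat_lit 1, nat_lit 0, nat_lit 1, nat_lit 0, nat_lit 3, nat_lit 0, nat_lit 1, nat_lit 2, nat_lit 1, nat_lit 3, nat_lit 1, nat_lit 0, nat_lit 2, nat_lit 1, nat_lit 3, nat_lit 0, nat_lit 1, nat_lit 0, nat_lit 3, nat_lit 0] else [nat_lit 63, nat_lit 3, nat_lit 1, nat_lit 3, nat_lit 1, nat_lit 3, nat_lit 1, nat_lit 0, nat_lit 1, nat_lit 3, nat_lit 2, nat_lit 0, nat_lit 1, nat_lit 3, nat_lit 1, nat_lit 0, nat_lit 2, nat_lit 3, nat_lit 1, nat_lit 0, nat_lit 1]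
def Wt_521_524 (j : ℕ) : List ℕ := bif Nat.blt j 522 then [nat_lit 63, nat_lit 2, nat_lit 0, nat_lit 1, nat_lit 3, nat_lit 1, nat_lit 0, nat_lit 2, nat_lit 3, nat_lit 1, nat_lit 0, nat_lit 1, nat_lit 3, nat_lit 1, nat_lit 3, nat_lit 1, nat_lit 3, nat_lit 1, nat_lit 0, nat_lit 1, nat_lit 3] else (Wt_522_524 j)
def Wt_525_527 (j : ℕ) : List ℕ := bif Nat.blt j 526 then [nat_lit 0, nat_lit 1, nat_lit 2, nat_lit 1, nat_lit 0, nat_lit 2, nat_lit 1, nat_lit 3, nat_lit 2, nat_lit 3, nat_lit 1, nat_lit 0, nat_lit 3, nat_lit 0, nat_lit 3, nat_lit 0, nat_lit 3, nat_lit 0, nat_lit 3, nat_lit 2, nat_lit 1] else [nat_lit 63, nat_lit 1, nat_lit 0, nat_lit 3, nat_lit 0, nat_lit 1, nat_lit 2, nat_lit 1, nat_lit 3, nat_lit 1, nat_lit 0, nat_lit 2, nat_lit 1, nat_lit 3, nat_lit 0, nat_lit 1, nat_lit 0, nat_lit 3, nat_lit 0, nat_lit 3, nat_lit 2, nat_lit 1, nat_lit 0]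
def Wt_524_527 (j : ℕ) : List ℕ := bif Nat.blt j 525 then [nat_lit 1, nat_lit 2, nat_lit 3, nat_lit 0, nat_lit 3, nat_lit 0, nat_lit 1, nat_lit 0, nat_lit 3, nat_lit 1, nat_lit 2, nat_lit 0, nat_lit 1, nat_lit 3, nat_lit 1, nat_lit 2, nat_lit 1, nat_lit 0, nat_lit 3, nat_lit 0, nat_lit 1, nat_lit 0] else (Wt_525_527 j)
def Wt_521_527 (j : ℕ) : List ℕ := bif Nat.blt j 524 then (Wt_521_524 j) else (Wt_524_527 j)
def Wt_528_530 (j : ℕ) : List ℕ := bif Nat.blt j 529 then [nat_lit 63, nat_lit 0, nat_lit 2, nat_lit 0, nat_lit 2, nat_lit 0, nat_lit 2, nat_lit 0, nat_lit 1, nat_lit 0, nat_lit 2, nat_lit 1, nat_lit 2, nat_lit 0, nat_lit 1, nat_lit 2, nat_lit 0, nat_lit 1, nat_lit 0, nat_lit 2, nat_lit 1, nat_lit 0, nat_lit 2, nat_lit 1] else [nat_lit 63, nat_lit 3, nat_lit 0, nat_lit 2, nat_lit 1, nat_lit 0, nat_lit 1, nat_lit 3, nat_lit 2, nat_lit 3, nat_lit 1, nat_lit 0,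 nat_lit 1, nat_lit 2, nat_lit 3, nat_lit 0, nat_lit 3, nat_lit 0, nat_lit 3, nat_lit 0]
def Wt_527_530 (j : ℕ) : List ℕ := bif Nat.blt j 528 then [nat_lit 1, nat_lit 0, nat_lit 2, nat_lit 0, nat_lit 1, nat_lit 0, nat_lit 2, nat_lit 0, nat_lit 2, nat_lit 1, nat_lit 0, nat_lit 2, nat_lit 0, nat_lit 2, nat_lit 1, nat_lit 2, nat_lit 0, nat_lit 1, nat_lit 2, nat_lit 0, nat_lit 1, nat_lit 2, nat_lit 0] else (Wt_528_530 j)
def Wt_531_533 (j : ℕ) : List ℕ := bif Nat.blt j 532 then [nat_lit 63, nat_lit 0, nat_lit 1, nat_lit 0, nat_lit 3, nat_lit 0, nat_lit 1, nat_lit 0, nat_lit 1, nat_lit 3, nat_lit 1, nat_lit 0, nat_lit 1, nat_lit 0, nat_lit 3, nat_lit 0, nat_lit 1, nat_lit 0, nat_lit 1, nat_lit 3, nat_lit 1] else [nat_lit 63, nat_lit 3, nat_lit 2, nat_lit 0, nat_lit 1, nat_lit 3, nat_lit 1, nat_lit 0, nat_lit 2, nat_lit 3, nat_lit 1, nat_lit 0, nat_lit 1, nat_lit 3, nat_lit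 1, nat_lit 3, nat_lit 1, nat_lit 3, nat_lit 1, nat_lit 0, nat_lit 1]
def Wt_530_533 (j : ℕ) : List ℕ := bif Nat.blt j 531 then [nat_lit 63, nat_lit 0, nat_lit 1, nat_lit 3, nat_lit 1, nat_lit 3, nat_lit 1, nat_lit 3, nat_lit 1, nat_lit 0, nat_lit 1, nat_lit 3, nat_lit 2, nat_lit 0, nat_lit 1, nat_lit 3, nat_lit 1, nat_lit 0, nat_lit 2, nat_lit 3, nat_lit 1] else (Wt_531_533 j)
def Wt_527_533 (j : ℕ) : List ℕ := bif Nat.blt j 530 then (Wt_527_530 j) else (Wt_530_533 j)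
def Wt_521_533 (j : ℕ) : List ℕ := bif Nat.blt j 527 then (Wt_521_527 j) else (Wt_527_533 j)
def Wt_510_533 (j : ℕ) : List ℕ := bif Nat.blt j 521 then (Wt_510_521 j) else (Wt_521_533 j)
def Wt_534_536 (j : ℕ) : List ℕ := bif Nat.blt j 535 then [nat_lit 63, nat_lit 1, nat_lit 3, nat_lit 2, nat_lit 3, nat_lit 1, nat_lit 0, nat_lit 1, nat_lit 2, nat_lit 3, nat_lit 0, nat_lit 3, nat_lit 0, nat_lit 3, nat_lit 0, nat_lit 3, nat_lit 0, nat_lit 2, nat_lit 1, nat_lit 0] else [nat_lit 63, nat_lit 1, nat_lit 0, nat_lit 3, nat_lit 1, nat_lit 2, nat_lit 0, nat_lit 1, nat_lit 3, nat_lit 1, nat_lit 2, nat_lit 1, nat_lit 0, nat_lit 3, nat_lit 0, nat_lit 1, nat_lit 0, nat_lit 1, nat_lit 2, nat_lit 3, nat_lit 0, nat_lit 3, nat_lit 0]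
def Wt_533_536 (j : ℕ) : List ℕ := bif Nat.blt j 534 then [nat_lit 63, nat_lit 0, nat_lit 1, nat_lit 3, nat_lit 2, nat_lit 0, nat_lit 1, nat_lit 3, nat_lit 1, nat_lit 0, nat_lit 2, nat_lit 3, nat_lit 1, nat_lit 0, nat_lit 1, nat_lit 3, nat_lit 1, nat_lit 3, nat_lit 1, nat_lit 3, nat_lit 1] else (Wt_534_536 j)
def Wt_537_539 (j : ℕ) : List ℕ := bif Nat.blt j 538 then [nat_lit 63, nat_lit 2, nat_lit 0, nat_lit 2, nat_lit 1, nat_lit 0, nat_lit 2, nat_lit 0, nat_lit 2, nat_lit 1, nat_lit 2, nat_lit 0, nat_lit 1, nat_lit 2, nat_lit 0, nat_lit 1, nat_lit 2, nat_lit 0, nat_lit 1, nat_lit 0, nat_lit 2, nat_lit 0, nat_lit 1, nat_lit 0] else [nat_lit 0, nat_lit 2, nat_lit 0, nat_lit 2, nat_lit 0, nat_lit 1, nat_lit 0, nat_lit 2, nat_lit 1, nat_lit 2, nat_lit 0, nat_lit 1, nat_lit 2, nat_lit 0, nat_lit 1, nat_lit 0, nat_lit 2, nat_lit 1, nat_lit 0, nat_lit 2, nat_lit 1, nat_lit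 0, nat_lit 2]
def Wt_536_539 (j : ℕ) : List ℕ := bif Nat.blt j 537 then [nat_lit 1, nat_lit 0, nat_lit 2, nat_lit 1, nat_lit 3, nat_lit 0, nat_lit 1, nat_lit 0, nat_lit 3, nat_lit 0, nat_lit 3, nat_lit 2, nat_lit 1, nat_lit 0, nat_lit 1, nat_lit 0, nat_lit 3, nat_lit 0, nat_lit 1, nat_lit 2, nat_lit 1, nat_lit 3] else (Wt_537_539 j)
def Wt_533_539 (j : ℕ) : List ℕ := bif Nat.blt j 536 then (Wt_533_536 j) else (Wt_536_539 j)
def Wt_540_542 (j : ℕ) : List ℕ := bif Nat.blt j 541 then [nat_lit 63, nat_lit 1, nat_lit 0, nat_lit 2, nat_lit 0, nat_lit 1, nat_lit 3, nat_lit 2, nat_lit 3, nat_lit 1, nat_lit 0, nat_lit 2, nat_lit 0, nat_lit 1, nat_lit 2, nat_lit 1, nat_lit 0, nat_lit 2, nat_lit 0, nat_lit 1, nat_lit 2] else [nat_lit 63, nat_lit 0, nat_lit 2, nat_lit 0, nat_lit 2, nat_lit 0, nat_lit 1, nat_lit 2, nat_lit 0, nat_lit 1, nat_lit 2, nat_lit 0, nat_lit 1, nat_lit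 0, nat_lit 1, nat_lit 0, nat_lit 1, nat_lit 0, nat_lit 2, nat_lit 1, nat_lit 2, nat_lit 0, nat_lit 2, nat_lit 1]
def Wt_539_542 (j : ℕ) : List ℕ := bif Nat.blt j 540 then [nat_lit 63, nat_lit 3, nat_lit 2, nat_lit 0, nat_lit 3, nat_lit 0, nat_lit 3, nat_lit 0, nat_lit 2, nat_lit 1, nat_lit 0, nat_lit 3, nat_lit 2, nat_lit 3, nat_lit 1, nat_lit 2, nat_lit 0, nat_lit 1, nat_lit 2, nat_lit 3, nat_lit 0, nat_lit 2] else (Wt_540_542 j)
def Wt_543_545 (j : ℕ) : List ℕ := bif Nat.blt j 544 then [nat_lit 1, nat_lit 0, nat_lit 3, nat_lit 0, nat_lit 1, nat_lit 2, nat_lit 1, nat_lit 3, nat_lit 1, nat_lit 0, nat_lit 2, nat_lit 1, nat_lit 3, nat_lit 0, nat_lit 1, nat_lit 0, nat_lit 3, nat_lit 0, nat_lit 3, nat_lit 2, nat_lit 1, nat_lit 0] else [nat_lit 63, nat_lit 1, nat_lit 0, nat_lit 1, nat_lit 2, nat_lit 3, nat_lit 0, nat_lit 3, nat_lit 0, nat_lit 3, nat_lit 0, nat_lit 3,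 nat_lit 0, nat_lit 1, nat_lit 3, nat_lit 2, nat_lit 3, nat_lit 1, nat_lit 2, nat_lit 0, nat_lit 1, nat_lit 2]
def Wt_542_545 (j : ℕ) : List ℕ := bif Nat.blt j 543 then [nat_lit 63, nat_lit 1, nat_lit 2, nat_lit 1, nat_lit 0, nat_lit 1, nat_lit 2, nat_lit 0, nat_lit 3, nat_lit 0, nat_lit 3, nat_lit 0, nat_lit 2, nat_lit 3, nat_lit 2, nat_lit 0, nat_lit 3, nat_lit 2, nat_lit 1, nat_lit 0] else (Wt_543_545 j)
def Wt_539_545 (j : ℕ) : List ℕ := bif Nat.blt j 542 then (Wt_539_542 j) else (Wt_542_545 j)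
def Wt_533_545 (j : ℕ) : List ℕ := bif Nat.blt j 539 then (Wt_533_539 j) else (Wt_539_545 j)
def Wt_546_548 (j : ℕ) : List ℕ := bif Nat.blt j 547 then [nat_lit 2, nat_lit 0, nat_lit 1, nat_lit 0, nat_lit 2, nat_lit 1, nat_lit 2, nat_lit 0, nat_lit 1, nat_lit 2, nat_lit 0, nat_lit 1, nat_lit 0, nat_lit 2, nat_lit 1, nat_lit 0, nat_lit 2, nat_lit 1, nat_lit 0, nat_lit 2, nat_lit 0, nat_lit 2, nat_lit 0] else [nat_lit 2, nat_lit 1, nat_lit 2, nat_lit 0, nat_lit 1, nat_lit 0, nat_lit 2, nat_lit 0, nat_lit 2, nat_lit 0, nat_lit 2, nat_lit 0, nat_lit 1, nat_lit 2, nat_lit 0, nat_lit 1, nat_lit 2, nat_lit 0, nat_lit 1, nat_lit 0, nat_lit 2, nat_lit 1, nat_lit 0]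
def Wt_545_548 (j : ℕ) : List ℕ := bif Nat.blt j 546 then [nat_lit 0, nat_lit 1, nat_lit 2, nat_lit 0, nat_lit 1, nat_lit 0, nat_lit 1, nat_lit 0, nat_lit 1, nat_lit 0, nat_lit 2, nat_lit 1, nat_lit 2, nat_lit 0, nat_lit 2, nat_lit 1, nat_lit 0, nat_lit 2, nat_lit 0, nat_lit 2, nat_lit 0, nat_lit 1, nat_lit 2] else (Wt_546_548 j)
def Wt_549_551 (j : ℕ) : List ℕ := bif Nat.blt j 550 then [nat_lit 0, nat_lit 2, nat_lit 1, nat_lit 0, nat_lit 1, nat_lit 2, nat_lit 1, nat_lit 0, nat_lit 1, nat_lit 2, nat_lit 3, nat_lit 0, nat_lit 2, nat_lit 3, nat_lit 2, nat_lit 0, nat_lit 3, nat_lit 0, nat_lit 3] else [nat_lit 63, nat_lit 0, nat_lit 3, nat_lit 0, nat_lit 3, nat_lit 2, nat_lit 1, nat_lit 0, nat_lit 1, nat_lit 0, nat_lit 3, nat_lit 0, nat_lit 1, nat_lit 2, nat_lit 1, nat_lit 3, nat_lit 1, nat_lit 0, nat_lit 2, nat_lit 1, nat_lit 3, nat_lit 0, nat_lit 1]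
def Wt_548_551 (j : ℕ) : List ℕ := bif Nat.blt j 549 then [nat_lit 63, nat_lit 0, nat_lit 1, nat_lit 0, nat_lit 2, nat_lit 0, nat_lit 2, nat_lit 1, nat_lit 0, nat_lit 2, nat_lit 0, nat_lit 2, nat_lit 1, nat_lit 2, nat_lit 0, nat_lit 1, nat_lit 2, nat_lit 0, nat_lit 1, nat_lit 2, nat_lit 0, nat_lit 1, nat_lit 0, nat_lit 2] else (Wt_549_551 j)
def Wt_545_551 (j : ℕ) : List ℕ := bif Nat.blt j 548 then (Wt_545_548 j) else (Wt_548_551 j)
def Wt_552_554 (j : ℕ) : List ℕ := bif Nat.blt j 553 then [nat_lit 63, nat_lit 0, nat_lit 2, nat_lit 0, nat_lit 2, nat_lit 0, nat_lit 1, nat_lit 2, nat_lit 0, nat_lit 2, nat_lit 1, nat_lit 2, nat_lit 0, nat_lit 1, nat_lit 0, nat_lit 1, nat_lit 0, nat_lit 1, nat_lit 0, nat_lit 2, nat_lit 1, nat_lit 0, nat_lit 2, nat_lit 1] else [nat_lit 2, nat_lit 1, nat_lit 0, nat_lit 2, nat_lit 0, nat_lit 2, nat_lit 0, nat_lit 1, nat_lit 2, nat_lit 0,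 nat_lit 1, nat_lit 2, nat_lit 0, nat_lit 1, nat_lit 0, nat_lit 1, nat_lit 0, nat_lit 1, nat_lit 0, nat_lit 2, nat_lit 1, nat_lit 2, nat_lit 0]
def Wt_551_554 (j : ℕ) : List ℕ := bif Nat.blt j 552 then [nat_lit 0, nat_lit 2, nat_lit 0, nat_lit 1, nat_lit 2, nat_lit 0, nat_lit 1, nat_lit 2, nat_lit 0, nat_lit 1, nat_lit 0, nat_lit 1, nat_lit 0, nat_lit 1, nat_lit 0, nat_lit 2, nat_lit 1, nat_lit 2, nat_lit 0, nat_lit 2, nat_lit 1, nat_lit 0, nat_lit 2] else (Wt_552_554 j)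
def Wt_555_557 (j : ℕ) : List ℕ := bif Nat.blt j 556 then [nat_lit 63, nat_lit 2, nat_lit 0, nat_lit 1, nat_lit 2, nat_lit 0, nat_lit 1, nat_lit 2, nat_lit 0, nat_lit 1, nat_lit 0, nat_lit 2, nat_lit 0, nat_lit 1, nat_lit 0, nat_lit 2, nat_lit 0, nat_lit 2, nat_lit 1, nat_lit 0, nat_lit 2, nat_lit 0, nat_lit 2, nat_lit 1] else [nat_lit 1, nat_lit 0, nat_lit 1, nat_lit 0, nat_lit 2, nat_lit 1, nat_lit 2, nat_lit 0, nat_lit 2, nat_lit 1, nat_lit 0, nat_lit 2, nat_lit 0, nat_lit 2, nat_lit 0, nat_lit 1, nat_lit 2, nat_lit 0, nat_lit 1, nat_lit 2, nat_lit 0, nat_lit 1, nat_lit 0]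
def Wt_554_557 (j : ℕ) : List ℕ := bif Nat.blt j 555 then [nat_lit 63, nat_lit 2, nat_lit 1, nat_lit 0, nat_lit 2, nat_lit 0, nat_lit 2, nat_lit 0, nat_lit 2, nat_lit 0, nat_lit 1, nat_lit 0, nat_lit 2, nat_lit 1, nat_lit 2, nat_lit 0, nat_lit 1, nat_lit 2, nat_lit 0, nat_lit 1, nat_lit 0, nat_lit 2, nat_lit 1, nat_lit 0] else (Wt_555_557 j)
def Wt_551_557 (j : ℕ) : List ℕ := bif Nat.blt j 554 then (Wt_551_554 j) else (Wt_554_557 j)
def Wt_545_557 (j : ℕ) : List ℕ := bif Nat.blt j 551 then (Wt_545_551 j) else (Wt_551_557 j)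
def Wt_533_557 (j : ℕ) : List ℕ := bif Nat.blt j 545 then (Wt_533_545 j) else (Wt_545_557 j)
def Wt_510_557 (j : ℕ) : List ℕ := bif Nat.blt j 533 then (Wt_510_533 j) else (Wt_533_557 j)
def Wt_464_557 (j : ℕ) : List ℕ := bif Nat.blt j 510 then (Wt_464_510 j) else (Wt_510_557 j)
def Wt_371_557 (j : ℕ) : List ℕ := bif Nat.blt j 464 then (Wt_371_464 j) else (Wt_464_557 j)
def Wt_557_559 (j : ℕ) : List ℕ := bif Nat.blt j 558 then [nat_lit 1, nat_lit 2, nat_lit 0, nat_lit 1, nat_lit 2, nat_lit 0, nat_lit 1, nat_lit 0, nat_lit 1, nat_lit 0, nat_lit 1, nat_lit 0, nat_lit 2, nat_lit 1, nat_lit 2, nat_lit 0, nat_lit 2, nat_lit 1, nat_lit 0, nat_lit 2, nat_lit 0, nat_lit 2, nat_lit 0] else [nat_lit 1, nat_lit 2, nat_lit 0, nat_lit 3, nat_lit 0, nat_lit 3, nat_lit 0, nat_lit 3, nat_lit 0, nat_lit 3, nat_lit 2, nat_lit 1, nat_lit 0, nat_lit 1, nat_lit 3, nat_lit 2, nat_lit 3,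 nat_lit 1, nat_lit 0]
def Wt_560_562 (j : ℕ) : List ℕ := bif Nat.blt j 561 then [nat_lit 63, nat_lit 1, nat_lit 3, nat_lit 2, nat_lit 3, nat_lit 1, nat_lit 0, nat_lit 2, nat_lit 0, nat_lit 1, nat_lit 2, nat_lit 1, nat_lit 0, nat_lit 2, nat_lit 0, nat_lit 1, nat_lit 2, nat_lit 1, nat_lit 0, nat_lit 2, nat_lit 0] else [nat_lit 63, nat_lit 1, nat_lit 2, nat_lit 3, nat_lit 0, nat_lit 3, nat_lit 0, nat_lit 3, nat_lit 0, nat_lit 3, nat_lit 0, nat_lit 1, nat_lit 3, nat_lit 2, nat_lit 3, nat_lit 1, nat_lit 2, nat_lit 0, nat_lit 1, nat_lit 2, nat_lit 1, nat_lit 0]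
def Wt_559_562 (j : ℕ) : List ℕ := bif Nat.blt j 560 then [nat_lit 1, nat_lit 2, nat_lit 0, nat_lit 2, nat_lit 3, nat_lit 2, nat_lit 0, nat_lit 3, nat_lit 0, nat_lit 3, nat_lit 0, nat_lit 3, nat_lit 2, nat_lit 1, nat_lit 0, nat_lit 1, nat_lit 2, nat_lit 1, nat_lit 0] else (Wt_560_562 j)
def Wt_557_562 (j : ℕ) : List ℕ := bif Nat.blt j 559 then (Wt_557_559 j) else (Wt_559_562 j)
def Wt_563_565 (j : ℕ) : List ℕ := bif Nat.blt j 564 then [nat_lit 1, nat_lit 2, nat_lit 0, nat_lit 1, nat_lit 0, nat_lit 1, nat_lit 0, nat_lit 1, nat_lit 0, nat_lit 2, nat_lit 1, nat_lit 2, nat_lit 0, nat_lit 2, nat_lit 1, nat_lit 0, nat_lit 2, nat_lit 0, nat_lit 2, nat_lit 0, nat_lit 1, nat_lit 2, nat_lit 0] else [nat_lit 0, nat_lit 3, nat_lit 0, nat_lit 3, nat_lit 0, nat_lit 1, nat_lit 3, nat_lit 2, nat_lit 3, nat_lit 1, nat_lit 2, nat_lit 0, nat_lit 1, nat_lit 2, nat_lit 1, nat_lit 0,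 nat_lit 1, nat_lit 2, nat_lit 3, nat_lit 0, nat_lit 3]
def Wt_562_565 (j : ℕ) : List ℕ := bif Nat.blt j 563 then [nat_lit 2, nat_lit 1, nat_lit 0, nat_lit 2, nat_lit 1, nat_lit 3, nat_lit 2, nat_lit 3, nat_lit 1, nat_lit 0, nat_lit 3, nat_lit 0, nat_lit 3, nat_lit 0, nat_lit 3, nat_lit 0, nat_lit 3, nat_lit 2, nat_lit 1, nat_lit 0, nat_lit 1] else (Wt_563_565 j)
def Wt_566_568 (j : ℕ) : List ℕ := bif Nat.blt j 567 then [nat_lit 0, nat_lit 1, nat_lit 2, nat_lit 3, nat_lit 0, nat_lit 3, nat_lit 0, nat_lit 1, nat_lit 0, nat_lit 3, nat_lit 1, nat_lit 2, nat_lit 0, nat_lit 1, nat_lit 3, nat_lit 1, nat_lit 2, nat_lit 1, nat_lit 0, nat_lit 3, nat_lit 0, nat_lit 1] else [nat_lit 63, nat_lit 2, nat_lit 0, nat_lit 1, nat_lit 2, nat_lit 0, nat_lit 1, nat_lit 0, nat_lit 1, nat_lit 0, nat_lit 1, nat_lit 0, nat_lit 2, nat_lit 1, nat_lit 2, nat_lit 0, nat_lit 2, nat_lit 1, nat_lit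 0, nat_lit 2, nat_lit 0, nat_lit 2, nat_lit 0, nat_lit 1]
def Wt_565_568 (j : ℕ) : List ℕ := bif Nat.blt j 566 then [nat_lit 63, nat_lit 2, nat_lit 1, nat_lit 0, nat_lit 2, nat_lit 0, nat_lit 1, nat_lit 2, nat_lit 1, nat_lit 0, nat_lit 2, nat_lit 0, nat_lit 1, nat_lit 3, nat_lit 2, nat_lit 3, nat_lit 1, nat_lit 0, nat_lit 2, nat_lit 0, nat_lit 1] else (Wt_566_568 j)
def Wt_562_568 (j : ℕ) : List ℕ := bif Nat.blt j 565 then (Wt_562_565 j) else (Wt_565_568 j)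
def Wt_557_568 (j : ℕ) : List ℕ := bif Nat.blt j 562 then (Wt_557_562 j) else (Wt_562_568 j)
def Wt_569_571 (j : ℕ) : List ℕ := bif Nat.blt j 570 then [nat_lit 0, nat_lit 2, nat_lit 0, nat_lit 1, nat_lit 2, nat_lit 1, nat_lit 0, nat_lit 3, nat_lit 2, nat_lit 3, nat_lit 0, nat_lit 1, nat_lit 2, nat_lit 1, nat_lit 0, nat_lit 2, nat_lit 0, nat_lit 2, nat_lit 1, nat_lit 2] else [nat_lit 63, nat_lit 3, nat_lit 2, nat_lit 3, nat_lit 1, nat_lit 0, nat_lit 2, nat_lit 0, nat_lit 1, nat_lit 2, nat_lit 1, nat_lit 0, nat_lit 2, nat_lit 0, nat_lit 1, nat_lit 2, nat_lit 1, nat_lit 0, nat_lit 2, nat_lit 0, nat_lit 1]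
def Wt_568_571 (j : ℕ) : List ℕ := bif Nat.blt j 569 then [nat_lit 63, nat_lit 1, nat_lit 0, nat_lit 2, nat_lit 0, nat_lit 1, nat_lit 0, nat_lit 2, nat_lit 0, nat_lit 2, nat_lit 1, nat_lit 0, nat_lit 2, nat_lit 0, nat_lit 2, nat_lit 1, nat_lit 2, nat_lit 0, nat_lit 1, nat_lit 2, nat_lit 0, nat_lit 1, nat_lit 2, nat_lit 0] else (Wt_569_571 j)
def Wt_572_574 (j : ℕ) : List ℕ := bif Nat.blt j 573 then [nat_lit 2, nat_lit 3, nat_lit 0, nat_lit 3, nat_lit 0, nat_lit 3, nat_lit 0, nat_lit 3, nat_lit 0, nat_lit 2, nat_lit 1, nat_lit 0, nat_lit 1, nat_lit 3, nat_lit 2, nat_lit 3, nat_lit 1, nat_lit 0, nat_lit 1] else [nat_lit 63, nat_lit 0, nat_lit 2, nat_lit 1, nat_lit 0, nat_lit 2, nat_lit 1, nat_lit 0, nat_lit 2, nat_lit 1, nat_lit 2, nat_lit 0, nat_lit 2, nat_lit 0, nat_lit 1, nat_lit 2, nat_lit 0, nat_lit 2, nat_lit 0, nat_lit 1, nat_lit 0, nat_lit 2, nat_lit 0, nat_lit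 1]
def Wt_571_574 (j : ℕ) : List ℕ := bif Nat.blt j 572 then [nat_lit 63, nat_lit 1, nat_lit 2, nat_lit 3, nat_lit 0, nat_lit 3, nat_lit 0, nat_lit 1, nat_lit 0, nat_lit 3, nat_lit 1, nat_lit 2, nat_lit 0, nat_lit 1, nat_lit 3, nat_lit 1, nat_lit 2, nat_lit 1, nat_lit 0, nat_lit 3, nat_lit 0, nat_lit 1, nat_lit 0] else (Wt_572_574 j)
def Wt_568_574 (j : ℕ) : List ℕ := bif Nat.blt j 571 then (Wt_568_571 j) else (Wt_571_574 j)
def Wt_575_577 (j : ℕ) : List ℕ := bif Nat.blt j 576 then [nat_lit 63, nat_lit 2, nat_lit 3, nat_lit 0, nat_lit 3, nat_lit 0, nat_lit 3, nat_lit 0, nat_lit 3, nat_lit 0, nat_lit 1, nat_lit 3, nat_lit 2, nat_lit 3, nat_lit 1, nat_lit 2, nat_lit 0, nat_lit 1, nat_lit 2, nat_lit 1, nat_lit 0, nat_lit 1] else [nat_lit 63, nat_lit 0, nat_lit 3, nat_lit 0, nat_lit 3, nat_lit 0, nat_lit 3, nat_lit 2, nat_lit 1, nat_lit 0, nat_lit 1, nat_lit 3, nat_lit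 2, nat_lit 3, nat_lit 1, nat_lit 0, nat_lit 1, nat_lit 2, nat_lit 0, nat_lit 3]
def Wt_574_577 (j : ℕ) : List ℕ := bif Nat.blt j 575 then [nat_lit 3, nat_lit 0, nat_lit 3, nat_lit 0, nat_lit 3, nat_lit 0, nat_lit 3, nat_lit 0, nat_lit 2, nat_lit 1, nat_lit 0, nat_lit 1, nat_lit 3, nat_lit 2, nat_lit 3, nat_lit 1, nat_lit 0, nat_lit 1, nat_lit 2] else (Wt_575_577 j)
def Wt_578_580 (j : ℕ) : List ℕ := bif Nat.blt j 579 then [nat_lit 1, nat_lit 2, nat_lit 1, nat_lit 0, nat_lit 2, nat_lit 0, nat_lit 2, nat_lit 1, nat_lit 2, nat_lit 0, nat_lit 2, nat_lit 0, nat_lit 1, nat_lit 2, nat_lit 1, nat_lit 0, nat_lit 3, nat_lit 2, nat_lit 3, nat_lit 0] else [nat_lit 63, nat_lit 0, nat_lit 1, nat_lit 3, nat_lit 2, nat_lit 3, nat_lit 1, nat_lit 0, nat_lit 2, nat_lit 0, nat_lit 1, nat_lit 2, nat_lit 1, nat_lit 0, nat_lit 2, nat_lit 0, nat_lit 1, nat_lit 2, nat_lit 1, nat_lit 0, nat_lit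 2]
def Wt_577_580 (j : ℕ) : List ℕ := bif Nat.blt j 578 then [nat_lit 2, nat_lit 1, nat_lit 3, nat_lit 2, nat_lit 3, nat_lit 1, nat_lit 0, nat_lit 3, nat_lit 0, nat_lit 3, nat_lit 0, nat_lit 3, nat_lit 0, nat_lit 3, nat_lit 2, nat_lit 1, nat_lit 0, nat_lit 1, nat_lit 2, nat_lit 1, nat_lit 0] else (Wt_578_580 j)
def Wt_574_580 (j : ℕ) : List ℕ := bif Nat.blt j 577 then (Wt_574_577 j) else (Wt_577_580 j)
def Wt_568_580 (j : ℕ) : List ℕ := bif Nat.blt j 574 then (Wt_568_574 j) else (Wt_574_580 j)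
def Wt_557_580 (j : ℕ) : List ℕ := bif Nat.blt j 568 then (Wt_557_568 j) else (Wt_568_580 j)
def Wt_580_582 (j : ℕ) : List ℕ := bif Nat.blt j 581 then [nat_lit 3, nat_lit 2, nat_lit 1, nat_lit 0, nat_lit 1, nat_lit 3, nat_lit 2, nat_lit 3, nat_lit 1, nat_lit 0, nat_lit 1, nat_lit 2, nat_lit 0, nat_lit 3, nat_lit 0, nat_lit 3, nat_lit 0, nat_lit 3, nat_lit 0] else [nat_lit 0, nat_lit 1, nat_lit 2, nat_lit 1, nat_lit 0, nat_lit 2, nat_lit 0, nat_lit 1, nat_lit 3, nat_lit 2, nat_lit 3, nat_lit 1, nat_lit 0, nat_lit 2, nat_lit 0, nat_lit 1, nat_lit 2, nat_lit 1, nat_lit 0, nat_lit 2]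
def Wt_583_585 (j : ℕ) : List ℕ := bif Nat.blt j 584 then [nat_lit 63, nat_lit 2, nat_lit 1, nat_lit 0, nat_lit 1, nat_lit 2, nat_lit 3, nat_lit 0, nat_lit 3, nat_lit 0, nat_lit 3, nat_lit 0, nat_lit 3, nat_lit 0, nat_lit 1, nat_lit 3, nat_lit 2, nat_lit 3, nat_lit 1, nat_lit 2, nat_lit 0, nat_lit 1] else [nat_lit 63, nat_lit 3, nat_lit 0, nat_lit 3, nat_lit 0, nat_lit 3, nat_lit 0, nat_lit 2, nat_lit 3, nat_lit 2, nat_lit 0, nat_lit 2, nat_lit 1, nat_lit 0, nat_lit 1, nat_lit 2, nat_lit 1, nat_lit 0, nat_lit 1, nat_lit 2]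
def Wt_582_585 (j : ℕ) : List ℕ := bif Nat.blt j 583 then [nat_lit 2, nat_lit 0, nat_lit 3, nat_lit 0, nat_lit 3, nat_lit 0, nat_lit 2, nat_lit 3, nat_lit 2, nat_lit 0, nat_lit 3, nat_lit 2, nat_lit 1, nat_lit 0, nat_lit 1, nat_lit 2, nat_lit 1, nat_lit 0, nat_lit 1] else (Wt_583_585 j)
def Wt_580_585 (j : ℕ) : List ℕ := bif Nat.blt j 582 then (Wt_580_582 j) else (Wt_582_585 j)
def Wt_586_588 (j : ℕ) : List ℕ := bif Nat.blt j 587 then [nat_lit 63, nat_lit 1, nat_lit 2, nat_lit 1, nat_lit 3, nat_lit 1, nat_lit 0, nat_lit 2, nat_lit 1, nat_lit 3, nat_lit 0, nat_lit 1, nat_lit 0, nat_lit 3, nat_lit 0, nat_lit 3, nat_lit 2, nat_lit 1, nat_lit 0, nat_lit 1, nat_lit 0, nat_lit 3, nat_lit 0] else [nat_lit 63, nat_lit 1, nat_lit 2, nat_lit 0, nat_lit 3, nat_lit 0, nat_lit 3, nat_lit 0, nat_lit 3, nat_lit 0, nat_lit 3, nat_lit 2, nat_lit 1, nat_lit 0, nat_lit 1, nat_lit 3,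 nat_lit 2, nat_lit 3, nat_lit 1, nat_lit 0]
def Wt_585_588 (j : ℕ) : List ℕ := bif Nat.blt j 586 then [nat_lit 63, nat_lit 1, nat_lit 0, nat_lit 2, nat_lit 0, nat_lit 2, nat_lit 0, nat_lit 1, nat_lit 2, nat_lit 0, nat_lit 2, nat_lit 1, nat_lit 2, nat_lit 0, nat_lit 1, nat_lit 0, nat_lit 1, nat_lit 0, nat_lit 1, nat_lit 0, nat_lit 2, nat_lit 1, nat_lit 0, nat_lit 2] else (Wt_586_588 j)
def Wt_589_591 (j : ℕ) : List ℕ := bif Nat.blt j 590 then [nat_lit 1, nat_lit 0, nat_lit 2, nat_lit 1, nat_lit 2, nat_lit 0, nat_lit 2, nat_lit 1, nat_lit 0, nat_lit 2, nat_lit 0, nat_lit 2, nat_lit 0, nat_lit 1, nat_lit 2, nat_lit 0, nat_lit 1, nat_lit 2, nat_lit 0, nat_lit 1, nat_lit 0, nat_lit 1, nat_lit 0] else [nat_lit 1, nat_lit 0, nat_lit 2, nat_lit 1, nat_lit 0, nat_lit 2, nat_lit 0, nat_lit 2, nat_lit 0, nat_lit 2, nat_lit 0, nat_lit 1, nat_lit 0, nat_lit 2, nat_lit 1, nat_lit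 2, nat_lit 0, nat_lit 1, nat_lit 2, nat_lit 0, nat_lit 1, nat_lit 0, nat_lit 2]
def Wt_588_591 (j : ℕ) : List ℕ := bif Nat.blt j 589 then [nat_lit 63, nat_lit 1, nat_lit 0, nat_lit 2, nat_lit 1, nat_lit 3, nat_lit 2, nat_lit 3, nat_lit 1, nat_lit 0, nat_lit 3, nat_lit 0, nat_lit 3, nat_lit 0, nat_lit 3, nat_lit 0, nat_lit 3, nat_lit 2, nat_lit 1, nat_lit 0, nat_lit 1, nat_lit 2] else (Wt_589_591 j)
def Wt_585_591 (j : ℕ) : List ℕ := bif Nat.blt j 588 then (Wt_585_588 j) else (Wt_588_591 j)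
def Wt_580_591 (j : ℕ) : List ℕ := bif Nat.blt j 585 then (Wt_580_585 j) else (Wt_585_591 j)
def Wt_592_594 (j : ℕ) : List ℕ := bif Nat.blt j 593 then [nat_lit 63, nat_lit 2, nat_lit 3, nat_lit 0, nat_lit 3, nat_lit 0, nat_lit 3, nat_lit 0, nat_lit 2, nat_lit 3, nat_lit 2, nat_lit 0, nat_lit 2, nat_lit 1, nat_lit 0, nat_lit 1, nat_lit 2, nat_lit 1, nat_lit 0, nat_lit 1] else [nat_lit 3, nat_lit 1, nat_lit 0, nat_lit 1, nat_lit 2, nat_lit 3, nat_lit 0, nat_lit 3, nat_lit 0, nat_lit 3, nat_lit 0, nat_lit 3, nat_lit 0, nat_lit 2, nat_lit 1, nat_lit 0, nat_lit 1, nat_lit 3, nat_lit 2]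
def Wt_591_594 (j : ℕ) : List ℕ := bif Nat.blt j 592 then [nat_lit 63, nat_lit 0, nat_lit 1, nat_lit 0, nat_lit 1, nat_lit 0, nat_lit 2, nat_lit 1, nat_lit 0, nat_lit 2, nat_lit 1, nat_lit 0, nat_lit 2, nat_lit 0, nat_lit 2, nat_lit 0, nat_lit 1, nat_lit 2, nat_lit 0, nat_lit 2, nat_lit 1, nat_lit 2, nat_lit 0, nat_lit 1] else (Wt_592_594 j)
def Wt_595_597 (j : ℕ) : List ℕ := bif Nat.blt j 596 then [nat_lit 63, nat_lit 1, nat_lit 0, nat_lit 2, nat_lit 1, nat_lit 2, nat_lit 0, nat_lit 1, nat_lit 0, nat_lit 2, nat_lit 0, nat_lit 2, nat_lit 0, nat_lit 2, nat_lit 0, nat_lit 1, nat_lit 2, nat_lit 0, nat_lit 1, nat_lit 2, nat_lit 0, nat_lit 1, nat_lit 0, nat_lit 2] else [nat_lit 63, nat_lit 2, nat_lit 0, nat_lit 2, nat_lit 0, nat_lit 2, nat_lit 0, nat_lit 1, nat_lit 0, nat_lit 2, nat_lit 1, nat_lit 2, nat_lit 0, nat_lit 1, nat_lit 2, nat_lit 0, nat_lit 1, nat_lit 0, nat_lit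 2, nat_lit 1, nat_lit 0, nat_lit 2, nat_lit 1, nat_lit 0]
def Wt_594_597 (j : ℕ) : List ℕ := bif Nat.blt j 595 then [nat_lit 63, nat_lit 2, nat_lit 0, nat_lit 1, nat_lit 2, nat_lit 0, nat_lit 2, nat_lit 1, nat_lit 2, nat_lit 0, nat_lit 1, nat_lit 0, nat_lit 1, nat_lit 0, nat_lit 1, nat_lit 0, nat_lit 2, nat_lit 1, nat_lit 0, nat_lit 2, nat_lit 1, nat_lit 0, nat_lit 2, nat_lit 0] else (Wt_595_597 j)
def Wt_591_597 (j : ℕ) : List ℕ := bif Nat.blt j 594 then (Wt_591_594 j) else (Wt_594_597 j)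
def Wt_598_600 (j : ℕ) : List ℕ := bif Nat.blt j 599 then [nat_lit 1, nat_lit 3, nat_lit 0, nat_lit 1, nat_lit 0, nat_lit 3, nat_lit 0, nat_lit 3, nat_lit 2, nat_lit 1, nat_lit 0, nat_lit 1, nat_lit 0, nat_lit 3, nat_lit 0, nat_lit 1, nat_lit 2, nat_lit 1, nat_lit 3, nat_lit 1, nat_lit 0, nat_lit 2] else [nat_lit 3, nat_lit 1, nat_lit 0, nat_lit 1, nat_lit 2, nat_lit 0, nat_lit 3, nat_lit 0, nat_lit 3, nat_lit 0, nat_lit 3, nat_lit 0, nat_lit 3, nat_lit 2, nat_lit 1, nat_lit 0, nat_lit 1, nat_lit 3, nat_lit 2]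
def Wt_597_600 (j : ℕ) : List ℕ := bif Nat.blt j 598 then [nat_lit 63, nat_lit 1, nat_lit 2, nat_lit 0, nat_lit 2, nat_lit 3, nat_lit 2, nat_lit 0, nat_lit 3, nat_lit 0, nat_lit 3, nat_lit 0, nat_lit 3, nat_lit 2, nat_lit 1, nat_lit 0, nat_lit 1, nat_lit 2, nat_lit 1, nat_lit 0] else (Wt_598_600 j)
def Wt_601_603 (j : ℕ) : List ℕ := bif Nat.blt j 602 then [nat_lit 2, nat_lit 1, nat_lit 0, nat_lit 1, nat_lit 2, nat_lit 1, nat_lit 0, nat_lit 1, nat_lit 2, nat_lit 0, nat_lit 3, nat_lit 0, nat_lit 3, nat_lit 0, nat_lit 2, nat_lit 3, nat_lit 2, nat_lit 0, nat_lit 3] else [nat_lit 63, nat_lit 3, nat_lit 2, nat_lit 3, nat_lit 1, nat_lit 0, nat_lit 1, nat_lit 2, nat_lit 0, nat_lit 3, nat_lit 0, nat_lit 3, nat_lit 0, nat_lit 3, nat_lit 0, nat_lit 3, nat_lit 2, nat_lit 1, nat_lit 0, nat_lit 1]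
def Wt_600_603 (j : ℕ) : List ℕ := bif Nat.blt j 601 then [nat_lit 63, nat_lit 2, nat_lit 1, nat_lit 0, nat_lit 2, nat_lit 1, nat_lit 3, nat_lit 2, nat_lit 3, nat_lit 1, nat_lit 0, nat_lit 3, nat_lit 0, nat_lit 3, nat_lit 0, nat_lit 3, nat_lit 0, nat_lit 3, nat_lit 2, nat_lit 1, nat_lit 0, nat_lit 1] else (Wt_601_603 j)
def Wt_597_603 (j : ℕ) : List ℕ := bif Nat.blt j 600 then (Wt_597_600 j) else (Wt_600_603 j)
def Wt_591_603 (j : ℕ) : List ℕ := bif Nat.blt j 597 then (Wt_591_597 j) else (Wt_597_603 j)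
def Wt_580_603 (j : ℕ) : List ℕ := bif Nat.blt j 591 then (Wt_580_591 j) else (Wt_591_603 j)
def Wt_557_603 (j : ℕ) : List ℕ := bif Nat.blt j 580 then (Wt_557_580 j) else (Wt_580_603 j)
def Wt_603_605 (j : ℕ) : List ℕ := bif Nat.blt j 604 then [nat_lit 1, nat_lit 0, nat_lit 3, nat_lit 0, nat_lit 1, nat_lit 0, nat_lit 1, nat_lit 2, nat_lit 3, nat_lit 0, nat_lit 3, nat_lit 0, nat_lit 1, nat_lit 0, nat_lit 3, nat_lit 1, nat_lit 2, nat_lit 0, nat_lit 1, nat_lit 3, nat_lit 1, nat_lit 2] else [nat_lit 63, nat_lit 2, nat_lit 0, nat_lit 2, nat_lit 1, nat_lit 2, nat_lit 0, nat_lit 1, nat_lit 2, nat_lit 0, nat_lit 1, nat_lit 2, nat_lit 0, nat_lit 1, nat_lit 0, nat_lit 2, nat_lit 0, nat_lit 1, nat_lit 0, nat_lit 2, nat_lit 0, nat_lit 2, nat_lit 1, nat_lit 0]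
def Wt_606_608 (j : ℕ) : List ℕ := bif Nat.blt j 607 then [nat_lit 2, nat_lit 0, nat_lit 1, nat_lit 2, nat_lit 1, nat_lit 0, nat_lit 1, nat_lit 2, nat_lit 3, nat_lit 0, nat_lit 3, nat_lit 0, nat_lit 3, nat_lit 0, nat_lit 3, nat_lit 0, nat_lit 1, nat_lit 3, nat_lit 2, nat_lit 3, nat_lit 1] else [nat_lit 0, nat_lit 1, nat_lit 2, nat_lit 1, nat_lit 3, nat_lit 1, nat_lit 0, nat_lit 2, nat_lit 1, nat_lit 3, nat_lit 0, nat_lit 1, nat_lit 0, nat_lit 3, nat_lit 0, nat_lit 3, nat_lit 2, nat_lit 1, nat_lit 0, nat_lit 1, nat_lit 0, nat_lit 3]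
def Wt_605_608 (j : ℕ) : List ℕ := bif Nat.blt j 606 then [nat_lit 0, nat_lit 3, nat_lit 0, nat_lit 3, nat_lit 0, nat_lit 3, nat_lit 2, nat_lit 1, nat_lit 0, nat_lit 1, nat_lit 2, nat_lit 1, nat_lit 0, nat_lit 1, nat_lit 2, nat_lit 0, nat_lit 2, nat_lit 3, nat_lit 2] else (Wt_606_608 j)
def Wt_603_608 (j : ℕ) : List ℕ := bif Nat.blt j 605 then (Wt_603_605 j) else (Wt_605_608 j)
def Wt_609_611 (j : ℕ) : List ℕ := bif Nat.blt j 610 then [nat_lit 2, nat_lit 0, nat_lit 2, nat_lit 1, nat_lit 0, nat_lit 1, nat_lit 2, nat_lit 1, nat_lit 0, nat_lit 1, nat_lit 2, nat_lit 3, nat_lit 0, nat_lit 3, nat_lit 0, nat_lit 3, nat_lit 0, nat_lit 2, nat_lit 3] else [nat_lit 63, nat_lit 0, nat_lit 1, nat_lit 2, nat_lit 0, nat_lit 1, nat_lit 2, nat_lit 0, nat_lit 1, nat_lit 0, nat_lit 1, nat_lit 0, nat_lit 1, nat_lit 0, nat_lit 2, nat_lit 1, nat_lit 2, nat_lit 0, nat_lit 2, nat_lit 1,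 nat_lit 0, nat_lit 2, nat_lit 0, nat_lit 2]
def Wt_608_611 (j : ℕ) : List ℕ := bif Nat.blt j 609 then [nat_lit 63, nat_lit 0, nat_lit 2, nat_lit 0, nat_lit 1, nat_lit 0, nat_lit 2, nat_lit 1, nat_lit 2, nat_lit 0, nat_lit 1, nat_lit 2, nat_lit 0, nat_lit 1, nat_lit 0, nat_lit 2, nat_lit 1, nat_lit 0, nat_lit 2, nat_lit 1, nat_lit 0, nat_lit 2, nat_lit 0, nat_lit 2] else (Wt_609_611 j)
def Wt_612_614 (j : ℕ) : List ℕ := bif Nat.blt j 613 then [nat_lit 0, nat_lit 2, nat_lit 0, nat_lit 1, nat_lit 0, nat_lit 2, nat_lit 0, nat_lit 1, nat_lit 0, nat_lit 2, nat_lit 1, nat_lit 0, nat_lit 2, nat_lit 1, nat_lit 0, nat_lit 2, nat_lit 1, nat_lit 2, nat_lit 0, nat_lit 2, nat_lit 0, nat_lit 1, nat_lit 2] else [nat_lit 63, nat_lit 2, nat_lit 0, nat_lit 1, nat_lit 0, nat_lit 2, nat_lit 0, nat_lit 1, nat_lit 0, nat_lit 2, nat_lit 1, nat_lit 0, nat_lit 2, nat_lit 1, nat_lit 0, nat_lit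 2, nat_lit 1, nat_lit 2, nat_lit 0, nat_lit 2, nat_lit 0, nat_lit 1, nat_lit 2, nat_lit 0]
def Wt_611_614 (j : ℕ) : List ℕ := bif Nat.blt j 612 then [nat_lit 1, nat_lit 2, nat_lit 0, nat_lit 1, nat_lit 3, nat_lit 1, nat_lit 2, nat_lit 1, nat_lit 0, nat_lit 3, nat_lit 0, nat_lit 1, nat_lit 0, nat_lit 1, nat_lit 2, nat_lit 3, nat_lit 0, nat_lit 3, nat_lit 0, nat_lit 1, nat_lit 0, nat_lit 3] else (Wt_612_614 j)
def Wt_608_614 (j : ℕ) : List ℕ := bif Nat.blt j 611 then (Wt_608_611 j) else (Wt_611_614 j)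
def Wt_603_614 (j : ℕ) : List ℕ := bif Nat.blt j 608 then (Wt_603_608 j) else (Wt_608_614 j)
def Wt_615_617 (j : ℕ) : List ℕ := bif Nat.blt j 616 then [nat_lit 63, nat_lit 1, nat_lit 2, nat_lit 1, nat_lit 0, nat_lit 1, nat_lit 2, nat_lit 0, nat_lit 2, nat_lit 3, nat_lit 2, nat_lit 0, nat_lit 3, nat_lit 0, nat_lit 3, nat_lit 0, nat_lit 3, nat_lit 2, nat_lit 1, nat_lit 0] else [nat_lit 63, nat_lit 2, nat_lit 0, nat_lit 1, nat_lit 0, nat_lit 1, nat_lit 0, nat_lit 1, nat_lit 0, nat_lit 2, nat_lit 1, nat_lit 2, nat_lit 0, nat_lit 2, nat_lit 1, nat_lit 0, nat_lit 2, nat_lit 0, nat_lit 2, nat_lit 0, nat_lit 1, nat_lit 2, nat_lit 0, nat_lit 1]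
def Wt_614_617 (j : ℕ) : List ℕ := bif Nat.blt j 615 then [nat_lit 63, nat_lit 0, nat_lit 2, nat_lit 1, nat_lit 3, nat_lit 2, nat_lit 3, nat_lit 1, nat_lit 0, nat_lit 3, nat_lit 0, nat_lit 3, nat_lit 0, nat_lit 3, nat_lit 0, nat_lit 3, nat_lit 2, nat_lit 1, nat_lit 0, nat_lit 1, nat_lit 2, nat_lit 1] else (Wt_615_617 j)
def Wt_618_620 (j : ℕ) : List ℕ := bif Nat.blt j 619 then [nat_lit 2, nat_lit 0, nat_lit 2, nat_lit 0, nat_lit 2, nat_lit 0, nat_lit 1, nat_lit 2, nat_lit 0, nat_lit 1, nat_lit 2, nat_lit 0, nat_lit 1, nat_lit 0, nat_lit 2, nat_lit 1, nat_lit 0, nat_lit 2, nat_lit 1, nat_lit 2, nat_lit 0, nat_lit 1, nat_lit 0] else [nat_lit 63, nat_lit 2, nat_lit 1, nat_lit 2, nat_lit 0, nat_lit 2, nat_lit 1, nat_lit 0, nat_lit 2, nat_lit 0, nat_lit 2, nat_lit 0, nat_lit 1, nat_lit 2, nat_lit 0, nat_lit 1, nat_lit 2, nat_lit 0, nat_lit 1, nat_lit 0, nat_lit 1, nat_lit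 0, nat_lit 1, nat_lit 0]
def Wt_617_620 (j : ℕ) : List ℕ := bif Nat.blt j 618 then [nat_lit 2, nat_lit 1, nat_lit 0, nat_lit 2, nat_lit 0, nat_lit 2, nat_lit 0, nat_lit 2, nat_lit 0, nat_lit 1, nat_lit 0, nat_lit 2, nat_lit 1, nat_lit 2, nat_lit 0, nat_lit 1, nat_lit 2, nat_lit 0, nat_lit 1, nat_lit 0, nat_lit 2, nat_lit 1, nat_lit 0] else (Wt_618_620 j)
def Wt_614_620 (j : ℕ) : List ℕ := bif Nat.blt j 617 then (Wt_614_617 j) else (Wt_617_620 j)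
def Wt_621_623 (j : ℕ) : List ℕ := bif Nat.blt j 622 then [nat_lit 63, nat_lit 0, nat_lit 3, nat_lit 2, nat_lit 1, nat_lit 0, nat_lit 1, nat_lit 2, nat_lit 1, nat_lit 0, nat_lit 1, nat_lit 2, nat_lit 0, nat_lit 2, nat_lit 3, nat_lit 2, nat_lit 0, nat_lit 3, nat_lit 0, nat_lit 3] else [nat_lit 63, nat_lit 0, nat_lit 1, nat_lit 2, nat_lit 1, nat_lit 0, nat_lit 2, nat_lit 0, nat_lit 1, nat_lit 3, nat_lit 2, nat_lit 3, nat_lit 1, nat_lit 0, nat_lit 2, nat_lit 0, nat_lit 1, nat_lit 2, nat_lit 1, nat_lit 0, nat_lit 2]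
def Wt_620_623 (j : ℕ) : List ℕ := bif Nat.blt j 621 then [nat_lit 63, nat_lit 0, nat_lit 2, nat_lit 0, nat_lit 1, nat_lit 0, nat_lit 2, nat_lit 0, nat_lit 2, nat_lit 1, nat_lit 0, nat_lit 2, nat_lit 0, nat_lit 2, nat_lit 1, nat_lit 2, nat_lit 0, nat_lit 1, nat_lit 2, nat_lit 0, nat_lit 1, nat_lit 2, nat_lit 0, nat_lit 1] else (Wt_621_623 j)
def Wt_624_626 (j : ℕ) : List ℕ := bif Nat.blt j 625 then [nat_lit 63, nat_lit 3, nat_lit 1, nat_lit 2, nat_lit 1, nat_lit 0, nat_lit 3, nat_lit 0, nat_lit 1, nat_lit 0, nat_lit 1, nat_lit 2, nat_lit 3, nat_lit 0, nat_lit 3, nat_lit 0, nat_lit 1, nat_lit 0, nat_lit 3, nat_lit 1, nat_lit 2, nat_lit 0, nat_lit 1] else [nat_lit 63, nat_lit 1, nat_lit 0, nat_lit 1, nat_lit 3, nat_lit 1, nat_lit 3, nat_lit 1, nat_lit 3, nat_lit 1, nat_lit 0, nat_lit 1, nat_lit 3, nat_lit 2, nat_lit 0, nat_lit 1, nat_lit 3, nat_lit 1, nat_lit 0, nat_lit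 2, nat_lit 3]
def Wt_623_626 (j : ℕ) : List ℕ := bif Nat.blt j 624 then [nat_lit 63, nat_lit 0, nat_lit 2, nat_lit 3, nat_lit 2, nat_lit 0, nat_lit 3, nat_lit 0, nat_lit 3, nat_lit 0, nat_lit 2, nat_lit 1, nat_lit 0, nat_lit 1, nat_lit 2, nat_lit 1, nat_lit 0, nat_lit 1, nat_lit 2, nat_lit 3] else (Wt_624_626 j)
def Wt_620_626 (j : ℕ) : List ℕ := bif Nat.blt j 623 then (Wt_620_623 j) else (Wt_623_626 j)
def Wt_614_626 (j : ℕ) : List ℕ := bif Nat.blt j 620 then (Wt_614_620 j) else (Wt_620_626 j)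
def Wt_603_626 (j : ℕ) : List ℕ := bif Nat.blt j 614 then (Wt_603_614 j) else (Wt_614_626 j)
def Wt_627_629 (j : ℕ) : List ℕ := bif Nat.blt j 628 then [nat_lit 1, nat_lit 0, nat_lit 1, nat_lit 2, nat_lit 3, nat_lit 0, nat_lit 3, nat_lit 0, nat_lit 1, nat_lit 0, nat_lit 3, nat_lit 1, nat_lit 2, nat_lit 0, nat_lit 1, nat_lit 3, nat_lit 1, nat_lit 2, nat_lit 1, nat_lit 0, nat_lit 3, nat_lit 0] else [nat_lit 2, nat_lit 1, nat_lit 3, nat_lit 2, nat_lit 3, nat_lit 0, nat_lit 1, nat_lit 2, nat_lit 0, nat_lit 3, nat_lit 0, nat_lit 3, nat_lit 0, nat_lit 2, nat_lit 3, nat_lit 2, nat_lit 0, nat_lit 3, nat_lit 2, nat_lit 1, nat_lit 0]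
def Wt_626_629 (j : ℕ) : List ℕ := bif Nat.blt j 627 then [nat_lit 63, nat_lit 0, nat_lit 1, nat_lit 0, nat_lit 2, nat_lit 1, nat_lit 0, nat_lit 2, nat_lit 1, nat_lit 0, nat_lit 2, nat_lit 0, nat_lit 2, nat_lit 0, nat_lit 2, nat_lit 0, nat_lit 1, nat_lit 0, nat_lit 2, nat_lit 1, nat_lit 2, nat_lit 0, nat_lit 1, nat_lit 2] else (Wt_627_629 j)
def Wt_630_632 (j : ℕ) : List ℕ := bif Nat.blt j 631 then [nat_lit 0, nat_lit 3, nat_lit 0, nat_lit 3, nat_lit 0, nat_lit 3, nat_lit 0, nat_lit 2, nat_lit 1, nat_lit 0, nat_lit 1, nat_lit 3, nat_lit 2, nat_lit 3, nat_lit 1, nat_lit 0, nat_lit 1, nat_lit 2, nat_lit 3] else [nat_lit 3, nat_lit 0, nat_lit 2, nat_lit 3, nat_lit 2, nat_lit 0, nat_lit 3, nat_lit 0, nat_lit 3, nat_lit 0, nat_lit 2, nat_lit 1, nat_lit 0, nat_lit 1, nat_lit 2, nat_lit 1, nat_lit 0, nat_lit 1, nat_lit 2]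
def Wt_629_632 (j : ℕ) : List ℕ := bif Nat.blt j 630 then [nat_lit 63, nat_lit 1, nat_lit 0, nat_lit 1, nat_lit 0, nat_lit 2, nat_lit 1, nat_lit 2, nat_lit 0, nat_lit 2, nat_lit 1, nat_lit 0, nat_lit 2, nat_lit 0, nat_lit 2, nat_lit 0, nat_lit 1, nat_lit 2, nat_lit 0, nat_lit 1, nat_lit 2, nat_lit 0, nat_lit 1, nat_lit 0] else (Wt_630_632 j)
def Wt_626_632 (j : ℕ) : List ℕ := bif Nat.blt j 629 then (Wt_626_629 j) else (Wt_629_632 j)
def Wt_633_635 (j : ℕ) : List ℕ := bif Nat.blt j 634 then [nat_lit 0, nat_lit 1, nat_lit 3, nat_lit 2, nat_lit 3, nat_lit 1, nat_lit 2, nat_lit 0, nat_lit 1, nat_lit 2, nat_lit 1, nat_lit 0, nat_lit 1, nat_lit 2, nat_lit 3, nat_lit 0, nat_lit 3, nat_lit 0, nat_lit 3, nat_lit 0, nat_lit 3] else [nat_lit 1, nat_lit 0, nat_lit 2, nat_lit 1, nat_lit 3, nat_lit 2, nat_lit 3, nat_lit 1, nat_lit 0, nat_lit 3, nat_lit 0, nat_lit 3, nat_lit 0,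 nat_lit 3, nat_lit 0, nat_lit 3, nat_lit 2, nat_lit 1, nat_lit 0, nat_lit 1, nat_lit 2]
def Wt_632_635 (j : ℕ) : List ℕ := bif Nat.blt j 633 then [nat_lit 63, nat_lit 3, nat_lit 2, nat_lit 1, nat_lit 0, nat_lit 1, nat_lit 3, nat_lit 2, nat_lit 3, nat_lit 1, nat_lit 0, nat_lit 1, nat_lit 2, nat_lit 0, nat_lit 3, nat_lit 0, nat_lit 3, nat_lit 0, nat_lit 3, nat_lit 0] else (Wt_633_635 j)
def Wt_636_638 (j : ℕ) : List ℕ := bif Nat.blt j 637 then [nat_lit 63, nat_lit 1, nat_lit 3, nat_lit 1, nat_lit 0, nat_lit 2, nat_lit 1, nat_lit 3, nat_lit 0, nat_lit 1, nat_lit 0, nat_lit 3, nat_lit 0, nat_lit 3, nat_lit 2, nat_lit 1, nat_lit 0, nat_lit 1, nat_lit 0, nat_lit 3, nat_lit 0, nat_lit 1, nat_lit 2] else [nat_lit 63, nat_lit 1, nat_lit 2, nat_lit 0, nat_lit 2, nat_lit 0, nat_lit 1, nat_lit 0, nat_lit 2, nat_lit 0, nat_lit 1, nat_lit 0, nat_lit 2, nat_lit 1, nat_lit 0, nat_lit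 2, nat_lit 1, nat_lit 0, nat_lit 2, nat_lit 1, nat_lit 2, nat_lit 0, nat_lit 2, nat_lit 0]
def Wt_635_638 (j : ℕ) : List ℕ := bif Nat.blt j 636 then [nat_lit 2, nat_lit 0, nat_lit 2, nat_lit 0, nat_lit 1, nat_lit 2, nat_lit 0, nat_lit 1, nat_lit 2, nat_lit 0, nat_lit 1, nat_lit 0, nat_lit 2, nat_lit 1, nat_lit 0, nat_lit 2, nat_lit 1, nat_lit 2, nat_lit 0, nat_lit 1, nat_lit 0, nat_lit 2, nat_lit 0] else (Wt_636_638 j)
def Wt_632_638 (j : ℕ) : List ℕ := bif Nat.blt j 635 then (Wt_632_635 j) else (Wt_635_638 j)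
def Wt_626_638 (j : ℕ) : List ℕ := bif Nat.blt j 632 then (Wt_626_632 j) else (Wt_632_638 j)
def Wt_639_641 (j : ℕ) : List ℕ := bif Nat.blt j 640 then [nat_lit 63, nat_lit 2, nat_lit 1, nat_lit 0, nat_lit 1, nat_lit 3, nat_lit 2, nat_lit 3, nat_lit 1, nat_lit 0, nat_lit 1, nat_lit 2, nat_lit 3, nat_lit 0, nat_lit 3, nat_lit 0, nat_lit 3, nat_lit 0, nat_lit 3, nat_lit 0] else [nat_lit 63, nat_lit 0, nat_lit 2, nat_lit 3, nat_lit 2, nat_lit 0, nat_lit 3, nat_lit 2, nat_lit 1, nat_lit 0, nat_lit 1, nat_lit 2, nat_lit 1, nat_lit 0, nat_lit 1, nat_lit 2, nat_lit 0, nat_lit 3, nat_lit 0, nat_lit 3]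
def Wt_638_641 (j : ℕ) : List ℕ := bif Nat.blt j 639 then [nat_lit 63, nat_lit 3, nat_lit 2, nat_lit 3, nat_lit 0, nat_lit 1, nat_lit 2, nat_lit 1, nat_lit 0, nat_lit 2, nat_lit 0, nat_lit 2, nat_lit 1, nat_lit 2, nat_lit 0, nat_lit 2, nat_lit 0, nat_lit 1, nat_lit 2, nat_lit 1, nat_lit 0] else (Wt_639_641 j)
def Wt_642_644 (j : ℕ) : List ℕ := bif Nat.blt j 643 then [nat_lit 63, nat_lit 1, nat_lit 0, nat_lit 2, nat_lit 0, nat_lit 2, nat_lit 0, nat_lit 1, nat_lit 2, nat_lit 0, nat_lit 1, nat_lit 2, nat_lit 0, nat_lit 1, nat_lit 0, nat_lit 1, nat_lit 0, nat_lit 1, nat_lit 0, nat_lit 2, nat_lit 1, nat_lit 2, nat_lit 0, nat_lit 2] else [nat_lit 63, nat_lit 3, nat_lit 1, nat_lit 3, nat_lit 2, nat_lit 3, nat_lit 1, nat_lit 3, nat_lit 2, nat_lit 0, nat_lit 3, nat_lit 1, nat_lit 3, nat_lit 0, nat_lit 3, nat_lit 1, nat_lit 3, nat_lit 0, nat_lit 2]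
def Wt_641_644 (j : ℕ) : List ℕ := bif Nat.blt j 642 then [nat_lit 63, nat_lit 0, nat_lit 3, nat_lit 0, nat_lit 1, nat_lit 0, nat_lit 1, nat_lit 2, nat_lit 3, nat_lit 0, nat_lit 3, nat_lit 0, nat_lit 1, nat_lit 0, nat_lit 3, nat_lit 1, nat_lit 2, nat_lit 0, nat_lit 1, nat_lit 3, nat_lit 1, nat_lit 2, nat_lit 1] else (Wt_642_644 j)
def Wt_638_644 (j : ℕ) : List ℕ := bif Nat.blt j 641 then (Wt_638_641 j) else (Wt_641_644 j)
def Wt_645_647 (j : ℕ) : List ℕ := bif Nat.blt j 646 then [nat_lit 63, nat_lit 2, nat_lit 0, nat_lit 1, nat_lit 2, nat_lit 0, nat_lit 1, nat_lit 2, nat_lit 0, nat_lit 1, nat_lit 0, nat_lit 2, nat_lit 1, nat_lit 0, nat_lit 2, nat_lit 1, nat_lit 2, nat_lit 0, nat_lit 1, nat_lit 0, nat_lit 2, nat_lit 0, nat_lit 2, nat_lit 0] else [nat_lit 63, nat_lit 2, nat_lit 3, nat_lit 0, nat_lit 3, nat_lit 0, nat_lit 1, nat_lit 0, nat_lit 3, nat_lit 1, nat_lit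 2, nat_lit 0, nat_lit 1, nat_lit 3, nat_lit 1, nat_lit 2, nat_lit 1, nat_lit 0, nat_lit 3, nat_lit 0, nat_lit 1, nat_lit 0, nat_lit 1]
def Wt_644_647 (j : ℕ) : List ℕ := bif Nat.blt j 645 then [nat_lit 63, nat_lit 1, nat_lit 3, nat_lit 1, nat_lit 0, nat_lit 1, nat_lit 0, nat_lit 3, nat_lit 0, nat_lit 1, nat_lit 0, nat_lit 1, nat_lit 3, nat_lit 1, nat_lit 0, nat_lit 1, nat_lit 0, nat_lit 3, nat_lit 0, nat_lit 1, nat_lit 0] else (Wt_645_647 j)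
def Wt_648_650 (j : ℕ) : List ℕ := bif Nat.blt j 649 then [nat_lit 63, nat_lit 2, nat_lit 1, nat_lit 0, nat_lit 2, nat_lit 0, nat_lit 2, nat_lit 0, nat_lit 1, nat_lit 2, nat_lit 0, nat_lit 2, nat_lit 1, nat_lit 2, nat_lit 0, nat_lit 1, nat_lit 0, nat_lit 1, nat_lit 0, nat_lit 1, nat_lit 0, nat_lit 2, nat_lit 1, nat_lit 0] else [nat_lit 0, nat_lit 1, nat_lit 0, nat_lit 1, nat_lit 2, nat_lit 3, nat_lit 0, nat_lit 3, nat_lit 0, nat_lit 1, nat_lit 0, nat_lit 3, nat_lit 1, nat_lit 2, nat_lit 0, nat_lit 1, nat_lit 3, nat_lit 1, nat_lit 2, nat_lit 1, nat_lit 0, nat_lit 3]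
def Wt_647_650 (j : ℕ) : List ℕ := bif Nat.blt j 648 then [nat_lit 63, nat_lit 2, nat_lit 1, nat_lit 2, nat_lit 0, nat_lit 1, nat_lit 2, nat_lit 0, nat_lit 1, nat_lit 0, nat_lit 2, nat_lit 1, nat_lit 0, nat_lit 2, nat_lit 1, nat_lit 0, nat_lit 2, nat_lit 0, nat_lit 2, nat_lit 0, nat_lit 2, nat_lit 0, nat_lit 1, nat_lit 0] else (Wt_648_650 j)
def Wt_644_650 (j : ℕ) : List ℕ := bif Nat.blt j 647 then (Wt_644_647 j) else (Wt_647_650 j)
def Wt_638_650 (j : ℕ) : List ℕ := bif Nat.blt j 644 then (Wt_638_644 j) else (Wt_644_650 j)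
def Wt_626_650 (j : ℕ) : List ℕ := bif Nat.blt j 638 then (Wt_626_638 j) else (Wt_638_650 j)
def Wt_603_650 (j : ℕ) : List ℕ := bif Nat.blt j 626 then (Wt_603_626 j) else (Wt_626_650 j)
def Wt_557_650 (j : ℕ) : List ℕ := bif Nat.blt j 603 then (Wt_557_603 j) else (Wt_603_650 j)
def Wt_650_652 (j : ℕ) : List ℕ := bif Nat.blt j 651 then [nat_lit 2, nat_lit 0, nat_lit 2, nat_lit 1, nat_lit 0, nat_lit 2, nat_lit 0, nat_lit 2, nat_lit 1, nat_lit 2, nat_lit 0, nat_lit 1, nat_lit 2, nat_lit 0, nat_lit 1, nat_lit 2, nat_lit 0, nat_lit 1, nat_lit 0, nat_lit 2, nat_lit 0, nat_lit 1, nat_lit 0] else [nat_lit 2, nat_lit 0, nat_lit 2, nat_lit 3, nat_lit 2, nat_lit 0, nat_lit 3, nat_lit 0, nat_lit 3, nat_lit 0, nat_lit 3, nat_lit 2, nat_lit 1, nat_lit 0, nat_lit 1, nat_lit 2, nat_lit 1, nat_lit 0, nat_lit 1]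
def Wt_653_655 (j : ℕ) : List ℕ := bif Nat.blt j 654 then [nat_lit 63, nat_lit 2, nat_lit 3, nat_lit 0, nat_lit 3, nat_lit 0, nat_lit 3, nat_lit 0, nat_lit 3, nat_lit 0, nat_lit 2, nat_lit 1, nat_lit 0, nat_lit 1, nat_lit 3, nat_lit 2, nat_lit 3, nat_lit 1, nat_lit 0, nat_lit 1] else [nat_lit 63, nat_lit 1, nat_lit 3, nat_lit 2, nat_lit 3, nat_lit 1, nat_lit 0, nat_lit 1, nat_lit 2, nat_lit 0, nat_lit 3, nat_lit 0, nat_lit 3, nat_lit 0, nat_lit 3, nat_lit 0, nat_lit 3, nat_lit 2, nat_lit 1, nat_lit 0]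
def Wt_652_655 (j : ℕ) : List ℕ := bif Nat.blt j 653 then [nat_lit 63, nat_lit 3, nat_lit 0, nat_lit 2, nat_lit 3, nat_lit 2, nat_lit 0, nat_lit 3, nat_lit 0, nat_lit 3, nat_lit 0, nat_lit 2, nat_lit 1, nat_lit 0, nat_lit 3, nat_lit 2, nat_lit 3, nat_lit 1, nat_lit 2, nat_lit 0, nat_lit 1, nat_lit 2] else (Wt_653_655 j)
def Wt_650_655 (j : ℕ) : List ℕ := bif Nat.blt j 652 then (Wt_650_652 j) else (Wt_652_655 j)
def Wt_656_658 (j : ℕ) : List ℕ := bif Nat.blt j 657 then [nat_lit 63, nat_lit 3, nat_lit 0, nat_lit 3, nat_lit 0, nat_lit 3, nat_lit 2, nat_lit 1, nat_lit 0, nat_lit 1, nat_lit 2, nat_lit 1, nat_lit 0, nat_lit 2, nat_lit 1, nat_lit 3, nat_lit 2, nat_lit 3, nat_lit 1, nat_lit 0, nat_lit 3, nat_lit 0] else [nat_lit 63, nat_lit 1, nat_lit 63, nat_lit 1, nat_lit 63]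
def Wt_655_658 (j : ℕ) : List ℕ := bif Nat.blt j 656 then [nat_lit 63, nat_lit 2, nat_lit 3, nat_lit 2, nat_lit 0, nat_lit 3, nat_lit 0, nat_lit 3, nat_lit 0, nat_lit 3, nat_lit 2, nat_lit 1, nat_lit 0, nat_lit 1, nat_lit 2, nat_lit 1, nat_lit 0, nat_lit 1, nat_lit 2, nat_lit 0] else (Wt_656_658 j)
def Wt_659_661 (j : ℕ) : List ℕ := bif Nat.blt j 660 then [nat_lit 63, nat_lit 0, nat_lit 3, nat_lit 0, nat_lit 3, nat_lit 0, nat_lit 2, nat_lit 1, nat_lit 0, nat_lit 1, nat_lit 3, nat_lit 2, nat_lit 3, nat_lit 1, nat_lit 0, nat_lit 1, nat_lit 2, nat_lit 3, nat_lit 0, nat_lit 3] else [nat_lit 63, nat_lit 0, nat_lit 3, nat_lit 0, nat_lit 3, nat_lit 0, nat_lit 1, nat_lit 3, nat_lit 2, nat_lit 3, nat_lit 1, nat_lit 2, nat_lit 0, nat_lit 1, nat_lit 2, nat_lit 1, nat_lit 0, nat_lit 1, nat_lit 2, nat_lit 3, nat_lit 0, nat_lit 3]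
def Wt_658_661 (j : ℕ) : List ℕ := bif Nat.blt j 659 then [nat_lit 63, nat_lit 2, nat_lit 3, nat_lit 1, nat_lit 0, nat_lit 1, nat_lit 3, nat_lit 1, nat_lit 3, nat_lit 1, nat_lit 3, nat_lit 1, nat_lit 0, nat_lit 1, nat_lit 3, nat_lit 2, nat_lit 0, nat_lit 1, nat_lit 3, nat_lit 1, nat_lit 0] else (Wt_659_661 j)
def Wt_655_661 (j : ℕ) : List ℕ := bif Nat.blt j 658 then (Wt_655_658 j) else (Wt_658_661 j)
def Wt_650_661 (j : ℕ) : List ℕ := bif Nat.blt j 655 then (Wt_650_655 j) else (Wt_655_661 j)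
def Wt_662_664 (j : ℕ) : List ℕ := bif Nat.blt j 663 then [nat_lit 63, nat_lit 3, nat_lit 0, nat_lit 3, nat_lit 0, nat_lit 3, nat_lit 0, nat_lit 1, nat_lit 3, nat_lit 2, nat_lit 3, nat_lit 1, nat_lit 2, nat_lit 0, nat_lit 1, nat_lit 2, nat_lit 1, nat_lit 0, nat_lit 1, nat_lit 2, nat_lit 3, nat_lit 0] else [nat_lit 63, nat_lit 3, nat_lit 0, nat_lit 1, nat_lit 0, nat_lit 1, nat_lit 3, nat_lit 1, nat_lit 0, nat_lit 1, nat_lit 0, nat_lit 3, nat_lit 0, nat_lit 1, nat_lit 0, nat_lit 1, nat_lit 3, nat_lit 1, nat_lit 0, nat_lit 1, nat_lit 0]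
def Wt_661_664 (j : ℕ) : List ℕ := bif Nat.blt j 662 then [nat_lit 0, nat_lit 1, nat_lit 3, nat_lit 2, nat_lit 0, nat_lit 1, nat_lit 3, nat_lit 1, nat_lit 0, nat_lit 2, nat_lit 3, nat_lit 1, nat_lit 0, nat_lit 1, nat_lit 3, nat_lit 1, nat_lit 3, nat_lit 1, nat_lit 3, nat_lit 1] else (Wt_662_664 j)
def Wt_665_667 (j : ℕ) : List ℕ := bif Nat.blt j 666 then [nat_lit 63, nat_lit 1, nat_lit 2, nat_lit 0, nat_lit 1, nat_lit 2, nat_lit 0, nat_lit 1, nat_lit 2, nat_lit 0, nat_lit 1, nat_lit 0, nat_lit 2, nat_lit 0, nat_lit 1, nat_lit 0, nat_lit 2, nat_lit 0, nat_lit 2, nat_lit 1, nat_lit 0, nat_lit 2, nat_lit 0, nat_lit 2] else [nat_lit 63, nat_lit 0, nat_lit 1, nat_lit 2, nat_lit 0, nat_lit 1, nat_lit 2, nat_lit 0, nat_lit 1, nat_lit 0, nat_lit 2, nat_lit 1, nat_lit 0, nat_lit 2, nat_lit 1, nat_lit 2, nat_lit 0, nat_lit 1, nat_lit 0, nat_lit 2, nat_lit 0, nat_lit 2, nat_lit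 0, nat_lit 2]
def Wt_664_667 (j : ℕ) : List ℕ := bif Nat.blt j 665 then [nat_lit 63, nat_lit 2, nat_lit 1, nat_lit 2, nat_lit 0, nat_lit 2, nat_lit 0, nat_lit 1, nat_lit 2, nat_lit 0, nat_lit 2, nat_lit 0, nat_lit 1, nat_lit 0, nat_lit 2, nat_lit 0, nat_lit 1, nat_lit 0, nat_lit 2, nat_lit 1, nat_lit 0, nat_lit 2, nat_lit 1, nat_lit 0] else (Wt_665_667 j)
def Wt_661_667 (j : ℕ) : List ℕ := bif Nat.blt j 664 then (Wt_661_664 j) else (Wt_664_667 j)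
def Wt_668_670 (j : ℕ) : List ℕ := bif Nat.blt j 669 then [nat_lit 0, nat_lit 1, nat_lit 2, nat_lit 1, nat_lit 0, nat_lit 3, nat_lit 2, nat_lit 3, nat_lit 0, nat_lit 1, nat_lit 2, nat_lit 1, nat_lit 0, nat_lit 2, nat_lit 0, nat_lit 2, nat_lit 1, nat_lit 2, nat_lit 0, nat_lit 2] else [nat_lit 2, nat_lit 1, nat_lit 2, nat_lit 0, nat_lit 1, nat_lit 2, nat_lit 0, nat_lit 1, nat_lit 2, nat_lit 0, nat_lit 1, nat_lit 0, nat_lit 2, nat_lit 0, nat_lit 1, nat_lit 0, nat_lit 2, nat_lit 0, nat_lit 2, nat_lit 1, nat_lit 0, nat_lit 2, nat_lit 0]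
def Wt_667_670 (j : ℕ) : List ℕ := bif Nat.blt j 668 then [nat_lit 63, nat_lit 3, nat_lit 0, nat_lit 2, nat_lit 3, nat_lit 2, nat_lit 0, nat_lit 3, nat_lit 0, nat_lit 3, nat_lit 0, nat_lit 2, nat_lit 1, nat_lit 0, nat_lit 1, nat_lit 2, nat_lit 1, nat_lit 0, nat_lit 1, nat_lit 2] else (Wt_668_670 j)
def Wt_671_673 (j : ℕ) : List ℕ := bif Nat.blt j 672 then [nat_lit 3, nat_lit 0, nat_lit 3, nat_lit 0, nat_lit 3, nat_lit 0, nat_lit 3, nat_lit 2, nat_lit 1, nat_lit 0, nat_lit 1, nat_lit 2, nat_lit 1, nat_lit 0, nat_lit 2, nat_lit 1, nat_lit 3, nat_lit 2, nat_lit 3, nat_lit 1, nat_lit 0] else [nat_lit 63, nat_lit 0, nat_lit 1, nat_lit 0, nat_lit 3, nat_lit 0, nat_lit 1, nat_lit 2, nat_lit 1, nat_lit 3, nat_lit 1, nat_lit 0, nat_lit 2, nat_lit 1, nat_lit 3, nat_lit 0, nat_lit 1, nat_lit 0, nat_lit 3, nat_lit 0, nat_lit 3, nat_lit 2, nat_lit 1]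
def Wt_670_673 (j : ℕ) : List ℕ := bif Nat.blt j 671 then [nat_lit 63, nat_lit 0, nat_lit 1, nat_lit 2, nat_lit 1, nat_lit 0, nat_lit 2, nat_lit 1, nat_lit 3, nat_lit 2, nat_lit 3, nat_lit 1, nat_lit 0, nat_lit 3, nat_lit 0, nat_lit 3, nat_lit 0, nat_lit 3, nat_lit 0, nat_lit 3, nat_lit 2, nat_lit 1] else (Wt_671_673 j)
def Wt_667_673 (j : ℕ) : List ℕ := bif Nat.blt j 670 then (Wt_667_670 j) else (Wt_670_673 j)
def Wt_661_673 (j : ℕ) : List ℕ := bif Nat.blt j 667 then (Wt_661_667 j) else (Wt_667_673 j)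
def Wt_650_673 (j : ℕ) : List ℕ := bif Nat.blt j 661 then (Wt_650_661 j) else (Wt_661_673 j)
def Wt_673_675 (j : ℕ) : List ℕ := bif Nat.blt j 674 then [nat_lit 1, nat_lit 0, nat_lit 1, nat_lit 2, nat_lit 1, nat_lit 0, nat_lit 1, nat_lit 2, nat_lit 0, nat_lit 2, nat_lit 3, nat_lit 2, nat_lit 0, nat_lit 3, nat_lit 0, nat_lit 3, nat_lit 0, nat_lit 3, nat_lit 2] else [nat_lit 2, nat_lit 0, nat_lit 1, nat_lit 0, nat_lit 1, nat_lit 0, nat_lit 1, nat_lit 0, nat_lit 2, nat_lit 1, nat_lit 2, nat_lit 0, nat_lit 2, nat_lit 1, nat_lit 0, nat_lit 2, nat_lit 0, nat_lit 2, nat_lit 0, nat_lit 1, nat_lit 2, nat_lit 0, nat_lit 1]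
def Wt_676_678 (j : ℕ) : List ℕ := bif Nat.blt j 677 then [nat_lit 3, nat_lit 0, nat_lit 1, nat_lit 2, nat_lit 1, nat_lit 3, nat_lit 1, nat_lit 0, nat_lit 2, nat_lit 1, nat_lit 3, nat_lit 0, nat_lit 1, nat_lit 0, nat_lit 3, nat_lit 0, nat_lit 3, nat_lit 2, nat_lit 1, nat_lit 0, nat_lit 1, nat_lit 0] else [nat_lit 63, nat_lit 3, nat_lit 1, nat_lit 3, nat_lit 0, nat_lit 3, nat_lit 1, nat_lit 3, nat_lit 0, nat_lit 2, nat_lit 3, nat_lit 1, nat_lit 3, nat_lit 2, nat_lit 3, nat_lit 1, nat_lit 3, nat_lit 2, nat_lit 0]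
def Wt_675_678 (j : ℕ) : List ℕ := bif Nat.blt j 676 then [nat_lit 2, nat_lit 3, nat_lit 0, nat_lit 2, nat_lit 3, nat_lit 2, nat_lit 0, nat_lit 3, nat_lit 0, nat_lit 3, nat_lit 0, nat_lit 2, nat_lit 1, nat_lit 0, nat_lit 1, nat_lit 2, nat_lit 1, nat_lit 0, nat_lit 1] else (Wt_676_678 j)
def Wt_673_678 (j : ℕ) : List ℕ := bif Nat.blt j 675 then (Wt_673_675 j) else (Wt_675_678 j)
def Wt_679_681 (j : ℕ) : List ℕ := bif Nat.blt j 680 then [nat_lit 63, nat_lit 3, nat_lit 0, nat_lit 2, nat_lit 3, nat_lit 2, nat_lit 0, nat_lit 3, nat_lit 2, nat_lit 1, nat_lit 0, nat_lit 1, nat_lit 2, nat_lit 1, nat_lit 0, nat_lit 1, nat_lit 2, nat_lit 0, nat_lit 3, nat_lit 0] else [nat_lit 63, nat_lit 2, nat_lit 0, nat_lit 2, nat_lit 0, nat_lit 1, nat_lit 2, nat_lit 0, nat_lit 1, nat_lit 2, nat_lit 0, nat_lit 1, nat_lit 0, nat_lit 2, nat_lit 1, nat_lit 0, nat_lit 2, nat_lit 1, nat_lit 2,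 nat_lit 0, nat_lit 1, nat_lit 0, nat_lit 2, nat_lit 0]
def Wt_678_681 (j : ℕ) : List ℕ := bif Nat.blt j 679 then [nat_lit 63, nat_lit 0, nat_lit 1, nat_lit 0, nat_lit 2, nat_lit 0, nat_lit 2, nat_lit 0, nat_lit 2, nat_lit 0, nat_lit 1, nat_lit 2, nat_lit 0, nat_lit 1, nat_lit 2, nat_lit 0, nat_lit 1, nat_lit 0, nat_lit 2, nat_lit 1, nat_lit 0, nat_lit 2, nat_lit 1, nat_lit 2] else (Wt_679_681 j)
def Wt_682_684 (j : ℕ) : List ℕ := bif Nat.blt j 683 then [nat_lit 3, nat_lit 0, nat_lit 3, nat_lit 0, nat_lit 3, nat_lit 2, nat_lit 1, nat_lit 0, nat_lit 1, nat_lit 2, nat_lit 1, nat_lit 0, nat_lit 2, nat_lit 1, nat_lit 3, nat_lit 2, nat_lit 3, nat_lit 1, nat_lit 0, nat_lit 3, nat_lit 0] else [nat_lit 1, nat_lit 2, nat_lit 0, nat_lit 1, nat_lit 2, nat_lit 0, nat_lit 1, nat_lit 0, nat_lit 2, nat_lit 1, nat_lit 0, nat_lit 2, nat_lit 1, nat_lit 2, nat_lit 0, nat_lit 1, nat_lit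 0, nat_lit 2, nat_lit 0, nat_lit 2, nat_lit 0, nat_lit 2, nat_lit 0]
def Wt_681_684 (j : ℕ) : List ℕ := bif Nat.blt j 682 then [nat_lit 3, nat_lit 0, nat_lit 3, nat_lit 0, nat_lit 2, nat_lit 1, nat_lit 0, nat_lit 1, nat_lit 2, nat_lit 1, nat_lit 0, nat_lit 1, nat_lit 2, nat_lit 3, nat_lit 0, nat_lit 2, nat_lit 3, nat_lit 2, nat_lit 0] else (Wt_682_684 j)
def Wt_678_684 (j : ℕ) : List ℕ := bif Nat.blt j 681 then (Wt_678_681 j) else (Wt_681_684 j)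
def Wt_673_684 (j : ℕ) : List ℕ := bif Nat.blt j 678 then (Wt_673_678 j) else (Wt_678_684 j)
def Wt_685_687 (j : ℕ) : List ℕ := bif Nat.blt j 686 then [nat_lit 0, nat_lit 3, nat_lit 2, nat_lit 3, nat_lit 0, nat_lit 1, nat_lit 2, nat_lit 1, nat_lit 0, nat_lit 2, nat_lit 0, nat_lit 2, nat_lit 1, nat_lit 2, nat_lit 0, nat_lit 2, nat_lit 0, nat_lit 1, nat_lit 2, nat_lit 1] else [nat_lit 3, nat_lit 0, nat_lit 3, nat_lit 0, nat_lit 2, nat_lit 3, nat_lit 2, nat_lit 0, nat_lit 3, nat_lit 2, nat_lit 1, nat_lit 0, nat_lit 1, nat_lit 2, nat_lit 1, nat_lit 0, nat_lit 1, nat_lit 2, nat_lit 0]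
def Wt_684_687 (j : ℕ) : List ℕ := bif Nat.blt j 685 then [nat_lit 0, nat_lit 3, nat_lit 0, nat_lit 3, nat_lit 0, nat_lit 2, nat_lit 1, nat_lit 0, nat_lit 3, nat_lit 2, nat_lit 3, nat_lit 1, nat_lit 2, nat_lit 0, nat_lit 1, nat_lit 2, nat_lit 3, nat_lit 0, nat_lit 2, nat_lit 3, nat_lit 2] else (Wt_685_687 j)
def Wt_688_690 (j : ℕ) : List ℕ := bif Nat.blt j 689 then [nat_lit 1, nat_lit 0, nat_lit 1, nat_lit 2, nat_lit 1, nat_lit 0, nat_lit 2, nat_lit 1, nat_lit 3, nat_lit 2, nat_lit 3, nat_lit 1, nat_lit 0, nat_lit 3, nat_lit 0, nat_lit 3, nat_lit 0, nat_lit 3, nat_lit 0, nat_lit 3, nat_lit 2] else [nat_lit 63, nat_lit 0, nat_lit 2, nat_lit 1, nat_lit 2, nat_lit 0, nat_lit 1, nat_lit 0, nat_lit 1, nat_lit 0, nat_lit 1, nat_lit 0, nat_lit 2, nat_lit 1, nat_lit 0, nat_lit 2, nat_lit 1, nat_lit 0, nat_lit 2, nat_lit 0, nat_lit 2, nat_lit 0, nat_lit 1, nat_lit 2]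
def Wt_687_690 (j : ℕ) : List ℕ := bif Nat.blt j 688 then [nat_lit 0, nat_lit 1, nat_lit 2, nat_lit 0, nat_lit 3, nat_lit 0, nat_lit 3, nat_lit 0, nat_lit 2, nat_lit 3, nat_lit 2, nat_lit 0, nat_lit 3, nat_lit 2, nat_lit 1, nat_lit 0, nat_lit 1, nat_lit 2, nat_lit 1] else (Wt_688_690 j)
def Wt_684_690 (j : ℕ) : List ℕ := bif Nat.blt j 687 then (Wt_684_687 j) else (Wt_687_690 j)
def Wt_691_693 (j : ℕ) : List ℕ := bif Nat.blt j 692 then [nat_lit 63, nat_lit 0, nat_lit 2, nat_lit 0, nat_lit 2, nat_lit 0, nat_lit 2, nat_lit 0, nat_lit 1, nat_lit 2, nat_lit 0, nat_lit 1, nat_lit 2, nat_lit 0, nat_lit 1, nat_lit 0, nat_lit 2, nat_lit 1, nat_lit 0, nat_lit 2, nat_lit 1, nat_lit 2, nat_lit 0, nat_lit 1] else [nat_lit 63, nat_lit 0, nat_lit 2, nat_lit 1, nat_lit 2, nat_lit 0, nat_lit 1, nat_lit 2, nat_lit 0, nat_lit 1, nat_lit 0, nat_lit 2, nat_lit 1, nat_lit 0, nat_lit 2,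 nat_lit 1, nat_lit 0, nat_lit 2, nat_lit 0, nat_lit 2, nat_lit 0, nat_lit 2, nat_lit 0, nat_lit 1]
def Wt_690_693 (j : ℕ) : List ℕ := bif Nat.blt j 691 then [nat_lit 63, nat_lit 3, nat_lit 1, nat_lit 0, nat_lit 1, nat_lit 3, nat_lit 2, nat_lit 0, nat_lit 1, nat_lit 3, nat_lit 1, nat_lit 0, nat_lit 2, nat_lit 3, nat_lit 1, nat_lit 0, nat_lit 1, nat_lit 3, nat_lit 1, nat_lit 3, nat_lit 1] else (Wt_691_693 j)
def Wt_694_696 (j : ℕ) : List ℕ := bif Nat.blt j 695 then [nat_lit 0, nat_lit 1, nat_lit 2, nat_lit 1, nat_lit 0, nat_lit 2, nat_lit 0, nat_lit 2, nat_lit 1, nat_lit 2, nat_lit 0, nat_lit 2, nat_lit 0, nat_lit 1, nat_lit 2, nat_lit 1, nat_lit 0, nat_lit 3, nat_lit 2, nat_lit 3] else [nat_lit 2, nat_lit 1, nat_lit 3, nat_lit 1, nat_lit 0, nat_lit 2, nat_lit 1, nat_lit 3, nat_lit 0, nat_lit 1, nat_lit 0, nat_lit 3, nat_lit 0, nat_lit 3, nat_lit 2, nat_lit 1, nat_lit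 0, nat_lit 1, nat_lit 0, nat_lit 3, nat_lit 0, nat_lit 1]
def Wt_693_696 (j : ℕ) : List ℕ := bif Nat.blt j 694 then [nat_lit 63, nat_lit 0, nat_lit 3, nat_lit 0, nat_lit 1, nat_lit 0, nat_lit 1, nat_lit 3, nat_lit 1, nat_lit 0, nat_lit 1, nat_lit 0, nat_lit 3, nat_lit 0, nat_lit 1, nat_lit 0, nat_lit 1, nat_lit 3, nat_lit 1, nat_lit 0, nat_lit 1] else (Wt_694_696 j)
def Wt_690_696 (j : ℕ) : List ℕ := bif Nat.blt j 693 then (Wt_690_693 j) else (Wt_693_696 j)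
def Wt_684_696 (j : ℕ) : List ℕ := bif Nat.blt j 690 then (Wt_684_690 j) else (Wt_690_696 j)
def Wt_673_696 (j : ℕ) : List ℕ := bif Nat.blt j 684 then (Wt_673_684 j) else (Wt_684_696 j)
def Wt_650_696 (j : ℕ) : List ℕ := bif Nat.blt j 673 then (Wt_650_673 j) else (Wt_673_696 j)
def Wt_696_698 (j : ℕ) : List ℕ := bif Nat.blt j 697 then [nat_lit 0, nat_lit 2, nat_lit 0, nat_lit 2, nat_lit 0, nat_lit 1, nat_lit 2, nat_lit 0, nat_lit 1, nat_lit 2, nat_lit 0, nat_lit 1, nat_lit 0, nat_lit 2, nat_lit 1, nat_lit 0, nat_lit 2, nat_lit 1, nat_lit 2, nat_lit 0, nat_lit 1, nat_lit 0, nat_lit 2] else [nat_lit 1, nat_lit 0, nat_lit 1, nat_lit 2, nat_lit 0, nat_lit 3, nat_lit 0, nat_lit 3, nat_lit 0, nat_lit 3, nat_lit 0, nat_lit 3, nat_lit 2, nat_lit 1, nat_lit 0, nat_lit 1, nat_lit 3, nat_lit 2, nat_lit 3]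
def Wt_699_701 (j : ℕ) : List ℕ := bif Nat.blt j 700 then [nat_lit 63, nat_lit 0, nat_lit 3, nat_lit 0, nat_lit 3, nat_lit 0, nat_lit 3, nat_lit 2, nat_lit 1, nat_lit 0, nat_lit 1, nat_lit 2, nat_lit 1, nat_lit 0, nat_lit 2, nat_lit 1, nat_lit 3, nat_lit 2, nat_lit 3, nat_lit 1, nat_lit 0, nat_lit 3] else [nat_lit 1, nat_lit 0, nat_lit 1, nat_lit 2, nat_lit 1, nat_lit 0, nat_lit 1, nat_lit 2, nat_lit 3, nat_lit 0, nat_lit 3, nat_lit 0, nat_lit 3, nat_lit 0, nat_lit 2, nat_lit 3, nat_lit 2, nat_lit 0, nat_lit 2]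
def Wt_698_701 (j : ℕ) : List ℕ := bif Nat.blt j 699 then [nat_lit 63, nat_lit 1, nat_lit 0, nat_lit 1, nat_lit 3, nat_lit 2, nat_lit 3, nat_lit 1, nat_lit 0, nat_lit 1, nat_lit 2, nat_lit 3, nat_lit 0, nat_lit 3, nat_lit 0, nat_lit 3, nat_lit 0, nat_lit 3, nat_lit 0, nat_lit 2] else (Wt_699_701 j)
def Wt_696_701 (j : ℕ) : List ℕ := bif Nat.blt j 698 then (Wt_696_698 j) else (Wt_698_701 j)
def Wt_702_704 (j : ℕ) : List ℕ := bif Nat.blt j 703 then [nat_lit 63, nat_lit 2, nat_lit 0, nat_lit 1, nat_lit 2, nat_lit 0, nat_lit 2, nat_lit 0, nat_lit 1, nat_lit 0, nat_lit 2, nat_lit 0, nat_lit 1, nat_lit 0, nat_lit 2, nat_lit 1, nat_lit 0, nat_lit 2, nat_lit 1, nat_lit 0, nat_lit 2, nat_lit 1, nat_lit 2, nat_lit 0] else [nat_lit 63, nat_lit 0, nat_lit 3, nat_lit 0, nat_lit 3, nat_lit 0, nat_lit 2, nat_lit 3, nat_lit 2, nat_lit 0, nat_lit 2, nat_lit 1, nat_lit 0, nat_lit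 1, nat_lit 2, nat_lit 1, nat_lit 0, nat_lit 1, nat_lit 2, nat_lit 3]
def Wt_701_704 (j : ℕ) : List ℕ := bif Nat.blt j 702 then [nat_lit 63, nat_lit 1, nat_lit 0, nat_lit 2, nat_lit 0, nat_lit 2, nat_lit 0, nat_lit 2, nat_lit 0, nat_lit 1, nat_lit 0, nat_lit 2, nat_lit 1, nat_lit 2, nat_lit 0, nat_lit 1, nat_lit 2, nat_lit 0, nat_lit 1, nat_lit 0, nat_lit 2, nat_lit 1, nat_lit 0, nat_lit 2] else (Wt_702_704 j)
def Wt_705_707 (j : ℕ) : List ℕ := bif Nat.blt j 706 then [nat_lit 3, nat_lit 2, nat_lit 0, nat_lit 3, nat_lit 2, nat_lit 1, nat_lit 0, nat_lit 2, nat_lit 1, nat_lit 3, nat_lit 2, nat_lit 3, nat_lit 0, nat_lit 1, nat_lit 2, nat_lit 0, nat_lit 3, nat_lit 0, nat_lit 3, nat_lit 0, nat_lit 2] else [nat_lit 63, nat_lit 1, nat_lit 0, nat_lit 1, nat_lit 2, nat_lit 0, nat_lit 3, nat_lit 0, nat_lit 3, nat_lit 0, nat_lit 2, nat_lit 3, nat_lit 2, nat_lit 0, nat_lit 3,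 nat_lit 2, nat_lit 1, nat_lit 0, nat_lit 1, nat_lit 2]
def Wt_704_707 (j : ℕ) : List ℕ := bif Nat.blt j 705 then [nat_lit 0, nat_lit 3, nat_lit 0, nat_lit 3, nat_lit 2, nat_lit 1, nat_lit 0, nat_lit 1, nat_lit 0, nat_lit 3, nat_lit 0, nat_lit 1, nat_lit 2, nat_lit 1, nat_lit 3, nat_lit 1, nat_lit 0, nat_lit 2, nat_lit 1, nat_lit 3, nat_lit 0, nat_lit 1] else (Wt_705_707 j)
def Wt_701_707 (j : ℕ) : List ℕ := bif Nat.blt j 704 then (Wt_701_704 j) else (Wt_704_707 j)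
def Wt_696_707 (j : ℕ) : List ℕ := bif Nat.blt j 701 then (Wt_696_701 j) else (Wt_701_707 j)
def Wt_708_710 (j : ℕ) : List ℕ := bif Nat.blt j 709 then [nat_lit 63, nat_lit 2, nat_lit 3, nat_lit 2, nat_lit 0, nat_lit 2, nat_lit 1, nat_lit 0, nat_lit 1, nat_lit 2, nat_lit 1, nat_lit 0, nat_lit 1, nat_lit 2, nat_lit 3, nat_lit 0, nat_lit 3, nat_lit 0, nat_lit 3, nat_lit 0] else [nat_lit 63, nat_lit 0, nat_lit 2, nat_lit 1, nat_lit 2, nat_lit 0, nat_lit 2, nat_lit 0, nat_lit 1, nat_lit 2, nat_lit 0, nat_lit 2, nat_lit 0, nat_lit 1, nat_lit 0, nat_lit 2, nat_lit 0, nat_lit 1, nat_lit 0, nat_lit 2, nat_lit 1, nat_lit 0, nat_lit 2, nat_lit 1]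
def Wt_707_710 (j : ℕ) : List ℕ := bif Nat.blt j 708 then [nat_lit 63, nat_lit 0, nat_lit 2, nat_lit 1, nat_lit 0, nat_lit 1, nat_lit 3, nat_lit 2, nat_lit 3, nat_lit 1, nat_lit 0, nat_lit 1, nat_lit 2, nat_lit 3, nat_lit 0, nat_lit 3, nat_lit 0, nat_lit 3, nat_lit 0, nat_lit 3] else (Wt_708_710 j)
def Wt_711_713 (j : ℕ) : List ℕ := bif Nat.blt j 712 then [nat_lit 63, nat_lit 2, nat_lit 0, nat_lit 1, nat_lit 2, nat_lit 0, nat_lit 1, nat_lit 2, nat_lit 0, nat_lit 1, nat_lit 0, nat_lit 1, nat_lit 0, nat_lit 1, nat_lit 0, nat_lit 2, nat_lit 1, nat_lit 2, nat_lit 0, nat_lit 2, nat_lit 1, nat_lit 0, nat_lit 2, nat_lit 0] else [nat_lit 0, nat_lit 2, nat_lit 1, nat_lit 0, nat_lit 2, nat_lit 0, nat_lit 2, nat_lit 0, nat_lit 1, nat_lit 2, nat_lit 0, nat_lit 1, nat_lit 2, nat_lit 0, nat_lit 1, nat_lit 0, nat_lit 1, nat_lit 0, nat_lit 1, nat_lit 0, nat_lit 2, nat_lit 1, nat_lit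 2]
def Wt_710_713 (j : ℕ) : List ℕ := bif Nat.blt j 711 then [nat_lit 0, nat_lit 1, nat_lit 2, nat_lit 0, nat_lit 2, nat_lit 1, nat_lit 2, nat_lit 0, nat_lit 1, nat_lit 0, nat_lit 1, nat_lit 0, nat_lit 1, nat_lit 0, nat_lit 2, nat_lit 1, nat_lit 0, nat_lit 2, nat_lit 1, nat_lit 0, nat_lit 2, nat_lit 0, nat_lit 2] else (Wt_711_713 j)
def Wt_707_713 (j : ℕ) : List ℕ := bif Nat.blt j 710 then (Wt_707_710 j) else (Wt_710_713 j)
def Wt_714_716 (j : ℕ) : List ℕ := bif Nat.blt j 715 then [nat_lit 3, nat_lit 2, nat_lit 3, nat_lit 1, nat_lit 2, nat_lit 0, nat_lit 1, nat_lit 2, nat_lit 3, nat_lit 0, nat_lit 2, nat_lit 3, nat_lit 2, nat_lit 0, nat_lit 3, nat_lit 0, nat_lit 3, nat_lit 0, nat_lit 2, nat_lit 1, nat_lit 0] else [nat_lit 63, nat_lit 0, nat_lit 2, nat_lit 3, nat_lit 2, nat_lit 0, nat_lit 3, nat_lit 0, nat_lit 3, nat_lit 0, nat_lit 3, nat_lit 2, nat_lit 1, nat_lit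 0, nat_lit 1, nat_lit 2, nat_lit 1, nat_lit 0, nat_lit 1, nat_lit 2]
def Wt_713_716 (j : ℕ) : List ℕ := bif Nat.blt j 714 then [nat_lit 2, nat_lit 3, nat_lit 0, nat_lit 3, nat_lit 0, nat_lit 1, nat_lit 0, nat_lit 3, nat_lit 1, nat_lit 2, nat_lit 0, nat_lit 1, nat_lit 3, nat_lit 1, nat_lit 2, nat_lit 1, nat_lit 0, nat_lit 3, nat_lit 0, nat_lit 1, nat_lit 0, nat_lit 1] else (Wt_714_716 j)
def Wt_717_719 (j : ℕ) : List ℕ := bif Nat.blt j 718 then [nat_lit 63, nat_lit 2, nat_lit 1, nat_lit 3, nat_lit 0, nat_lit 1, nat_lit 0, nat_lit 3, nat_lit 0, nat_lit 3, nat_lit 2, nat_lit 1, nat_lit 0, nat_lit 1, nat_lit 0, nat_lit 3, nat_lit 0, nat_lit 1, nat_lit 2, nat_lit 1, nat_lit 3, nat_lit 1, nat_lit 0] else [nat_lit 63, nat_lit 2, nat_lit 0, nat_lit 3, nat_lit 0, nat_lit 3, nat_lit 0, nat_lit 2, nat_lit 3, nat_lit 2, nat_lit 0, nat_lit 3, nat_lit 2, nat_lit 1, nat_lit 0,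 nat_lit 2, nat_lit 1, nat_lit 3, nat_lit 2, nat_lit 3, nat_lit 0, nat_lit 1]
def Wt_716_719 (j : ℕ) : List ℕ := bif Nat.blt j 717 then [nat_lit 63, nat_lit 2, nat_lit 1, nat_lit 0, nat_lit 2, nat_lit 0, nat_lit 2, nat_lit 1, nat_lit 2, nat_lit 0, nat_lit 1, nat_lit 2, nat_lit 0, nat_lit 1, nat_lit 2, nat_lit 0, nat_lit 1, nat_lit 0, nat_lit 2, nat_lit 0, nat_lit 1, nat_lit 0, nat_lit 2, nat_lit 0] else (Wt_717_719 j)
def Wt_713_719 (j : ℕ) : List ℕ := bif Nat.blt j 716 then (Wt_713_716 j) else (Wt_716_719 j)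
def Wt_707_719 (j : ℕ) : List ℕ := bif Nat.blt j 713 then (Wt_707_713 j) else (Wt_713_719 j)
def Wt_696_719 (j : ℕ) : List ℕ := bif Nat.blt j 707 then (Wt_696_707 j) else (Wt_707_719 j)
def Wt_720_722 (j : ℕ) : List ℕ := bif Nat.blt j 721 then [nat_lit 63, nat_lit 1, nat_lit 2, nat_lit 0, nat_lit 1, nat_lit 2, nat_lit 0, nat_lit 1, nat_lit 0, nat_lit 2, nat_lit 0, nat_lit 1, nat_lit 0, nat_lit 2, nat_lit 0, nat_lit 2, nat_lit 1, nat_lit 0, nat_lit 2, nat_lit 0, nat_lit 2, nat_lit 1, nat_lit 2, nat_lit 0] else [nat_lit 63, nat_lit 0, nat_lit 1, nat_lit 2, nat_lit 3, nat_lit 0, nat_lit 3, nat_lit 0, nat_lit 3, nat_lit 0, nat_lit 3, nat_lit 0, nat_lit 1, nat_lit 3, nat_lit 2, nat_lit 3, nat_lit 1, nat_lit 2, nat_lit 0, nat_lit 1, nat_lit 2, nat_lit 1]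
def Wt_719_722 (j : ℕ) : List ℕ := bif Nat.blt j 720 then [nat_lit 3, nat_lit 0, nat_lit 3, nat_lit 0, nat_lit 2, nat_lit 1, nat_lit 0, nat_lit 3, nat_lit 2, nat_lit 3, nat_lit 1, nat_lit 2, nat_lit 0, nat_lit 1, nat_lit 2, nat_lit 3, nat_lit 0, nat_lit 2, nat_lit 3, nat_lit 2, nat_lit 0] else (Wt_720_722 j)
def Wt_723_725 (j : ℕ) : List ℕ := bif Nat.blt j 724 then [nat_lit 63, nat_lit 0, nat_lit 3, nat_lit 2, nat_lit 1, nat_lit 0, nat_lit 1, nat_lit 0, nat_lit 3, nat_lit 0, nat_lit 1, nat_lit 2, nat_lit 1, nat_lit 3, nat_lit 1, nat_lit 0, nat_lit 2, nat_lit 1, nat_lit 3, nat_lit 0, nat_lit 1, nat_lit 0, nat_lit 3] else [nat_lit 63, nat_lit 63, nat_lit 2, nat_lit 63, nat_lit 2]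
def Wt_722_725 (j : ℕ) : List ℕ := bif Nat.blt j 723 then [nat_lit 0, nat_lit 3, nat_lit 2, nat_lit 3, nat_lit 1, nat_lit 2, nat_lit 0, nat_lit 1, nat_lit 2, nat_lit 3, nat_lit 0, nat_lit 2, nat_lit 3, nat_lit 2, nat_lit 0, nat_lit 3, nat_lit 0, nat_lit 3, nat_lit 0, nat_lit 2, nat_lit 1] else (Wt_723_725 j)
def Wt_719_725 (j : ℕ) : List ℕ := bif Nat.blt j 722 then (Wt_719_722 j) else (Wt_722_725 j)
def Wt_726_728 (j : ℕ) : List ℕ := bif Nat.blt j 727 then [nat_lit 63, nat_lit 63, nat_lit 63] else [nat_lit 63, nat_lit 0, nat_lit 63, nat_lit 0, nat_lit 63]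
def Wt_725_728 (j : ℕ) : List ℕ := bif Nat.blt j 726 then [nat_lit 63, nat_lit 63, nat_lit 0, nat_lit 63, nat_lit 0] else (Wt_726_728 j)
def Wt_729_731 (j : ℕ) : List ℕ := bif Nat.blt j 730 then [nat_lit 63, nat_lit 0, nat_lit 1, nat_lit 0, nat_lit 1, nat_lit 3, nat_lit 1, nat_lit 0, nat_lit 1, nat_lit 0, nat_lit 3, nat_lit 0, nat_lit 1, nat_lit 0, nat_lit 1, nat_lit 3, nat_lit 1, nat_lit 0, nat_lit 1, nat_lit 0, nat_lit 3] else [nat_lit 3, nat_lit 0, nat_lit 3, nat_lit 0, nat_lit 3, nat_lit 0, nat_lit 1, nat_lit 3, nat_lit 2, nat_lit 3, nat_lit 1, nat_lit 2, nat_lit 0, nat_lit 1, nat_lit 2, nat_lit 1, nat_lit 0, nat_lit 1, nat_lit 2, nat_lit 3, nat_lit 0]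
def Wt_728_731 (j : ℕ) : List ℕ := bif Nat.blt j 729 then [nat_lit 63, nat_lit 63, nat_lit 1, nat_lit 63, nat_lit 1] else (Wt_729_731 j)
def Wt_725_731 (j : ℕ) : List ℕ := bif Nat.blt j 728 then (Wt_725_728 j) else (Wt_728_731 j)
def Wt_719_731 (j : ℕ) : List ℕ := bif Nat.blt j 725 then (Wt_719_725 j) else (Wt_725_731 j)
def Wt_732_734 (j : ℕ) : List ℕ := bif Nat.blt j 733 then [nat_lit 63, nat_lit 63, nat_lit 3, nat_lit 63, nat_lit 3] else [nat_lit 2, nat_lit 63, nat_lit 2, nat_lit 63]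
def Wt_731_734 (j : ℕ) : List ℕ := bif Nat.blt j 732 then [nat_lit 1, nat_lit 0, nat_lit 3, nat_lit 1, nat_lit 2, nat_lit 0, nat_lit 1, nat_lit 3, nat_lit 1, nat_lit 2, nat_lit 1, nat_lit 0, nat_lit 3, nat_lit 0, nat_lit 1, nat_lit 0, nat_lit 1, nat_lit 2, nat_lit 3, nat_lit 0, nat_lit 3, nat_lit 0] else (Wt_732_734 j)
def Wt_735_737 (j : ℕ) : List ℕ := bif Nat.blt j 736 then [nat_lit 63, nat_lit 63, nat_lit 63, nat_lit 63] else [nat_lit 63, nat_lit 63, nat_lit 1, nat_lit 63, nat_lit 1, nat_lit 63]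
def Wt_734_737 (j : ℕ) : List ℕ := bif Nat.blt j 735 then [nat_lit 63, nat_lit 63, nat_lit 2, nat_lit 63, nat_lit 2, nat_lit 63] else (Wt_735_737 j)
def Wt_731_737 (j : ℕ) : List ℕ := bif Nat.blt j 734 then (Wt_731_734 j) else (Wt_734_737 j)
def Wt_738_740 (j : ℕ) : List ℕ := bif Nat.blt j 739 then [nat_lit 63, nat_lit 63, nat_lit 3, nat_lit 63, nat_lit 3, nat_lit 63] else [nat_lit 1, nat_lit 63, nat_lit 1, nat_lit 63]
def Wt_737_740 (j : ℕ) : List ℕ := bif Nat.blt j 738 then [nat_lit 63, nat_lit 63, nat_lit 0, nat_lit 63, nat_lit 0, nat_lit 63] else (Wt_738_740 j)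
def Wt_741_743 (j : ℕ) : List ℕ := bif Nat.blt j 742 then [nat_lit 63, nat_lit 0, nat_lit 3, nat_lit 0, nat_lit 3, nat_lit 0, nat_lit 3, nat_lit 0, nat_lit 2, nat_lit 1, nat_lit 0, nat_lit 1, nat_lit 3, nat_lit 2, nat_lit 3, nat_lit 1, nat_lit 0, nat_lit 1, nat_lit 2, nat_lit 3] else [nat_lit 63, nat_lit 1, nat_lit 2, nat_lit 1, nat_lit 0, nat_lit 3, nat_lit 0, nat_lit 1, nat_lit 0, nat_lit 1, nat_lit 2, nat_lit 3, nat_lit 0, nat_lit 3, nat_lit 0, nat_lit 1, nat_lit 0, nat_lit 3, nat_lit 1, nat_lit 2, nat_lit 0, nat_lit 1, nat_lit 3]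
def Wt_740_743 (j : ℕ) : List ℕ := bif Nat.blt j 741 then [nat_lit 63, nat_lit 0, nat_lit 2, nat_lit 0, nat_lit 1, nat_lit 0, nat_lit 2, nat_lit 0, nat_lit 1, nat_lit 0, nat_lit 2, nat_lit 1, nat_lit 0, nat_lit 2, nat_lit 1, nat_lit 0, nat_lit 2, nat_lit 1, nat_lit 2, nat_lit 0, nat_lit 2, nat_lit 0, nat_lit 1, nat_lit 2] else (Wt_741_743 j)
def Wt_737_743 (j : ℕ) : List ℕ := bif Nat.blt j 740 then (Wt_737_740 j) else (Wt_740_743 j)
def Wt_731_743 (j : ℕ) : List ℕ := bif Nat.blt j 737 then (Wt_731_737 j) else (Wt_737_743 j)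
def Wt_719_743 (j : ℕ) : List ℕ := bif Nat.blt j 731 then (Wt_719_731 j) else (Wt_731_743 j)
def Wt_696_743 (j : ℕ) : List ℕ := bif Nat.blt j 719 then (Wt_696_719 j) else (Wt_719_743 j)
def Wt_650_743 (j : ℕ) : List ℕ := bif Nat.blt j 696 then (Wt_650_696 j) else (Wt_696_743 j)
def Wt_557_743 (j : ℕ) : List ℕ := bif Nat.blt j 650 then (Wt_557_650 j) else (Wt_650_743 j)
def Wt_371_743 (j : ℕ) : List ℕ := bif Nat.blt j 557 then (Wt_371_557 j) else (Wt_557_743 j)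
def Wt_0_743 (j : ℕ) : List ℕ := bif Nat.blt j 371 then (Wt_0_371 j) else (Wt_371_743 j)
def Wt (j : ℕ) : List ℕ := (Wt_0_743 j)
def W (j : ℕ) : List ℕ := bif Nat.blt j 743 then Wt j else []
theorem W_ge (j : ℕ) (h : 743 ≤ j) : W j = [] := by
  unfold W
  rw [blt_false_of_le h]
  rfl
def Hl : List ℕ := [nat_lit 0, nat_lit 1, nat_lit 2]
def isH (y : ℕ) : Bool := List.elem y Hl
def Rb : List (List ℕ) := [[nat_lit 0, nat_lit 0],
  [nat_lit 1, nat_lit 1],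
  [nat_lit 1, nat_lit 0, nat_lit 1, nat_lit 0, nat_lit 1, nat_lit 0, nat_lit 1, nat_lit 0, nat_lit 1, nat_lit 0, nat_lit 1, nat_lit 0, nat_lit 1, nat_lit 0, nat_lit 1, nat_lit 0],
  [nat_lit 2, nat_lit 2],
  [nat_lit 2, nat_lit 0, nat_lit 1, nat_lit 0, nat_lit 2, nat_lit 1, nat_lit 0, nat_lit 2, nat_lit 1, nat_lit 0, nat_lit 2, nat_lit 1, nat_lit 2, nat_lit 0, nat_lit 2, nat_lit 0, nat_lit 1, nat_lit 2, nat_lit 0, nat_lit 2, nat_lit 0, nat_lit 1, nat_lit 0],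
  [nat_lit 2, nat_lit 1, nat_lit 0, nat_lit 2, nat_lit 0, nat_lit 2, nat_lit 0, nat_lit 1, nat_lit 2, nat_lit 0, nat_lit 2, nat_lit 1, nat_lit 2, nat_lit 0, nat_lit 1, nat_lit 0, nat_lit 1, nat_lit 0, nat_lit 1, nat_lit 0, nat_lit 2, nat_lit 1, nat_lit 0],
  [nat_lit 2, nat_lit 1, nat_lit 0, nat_lit 2, nat_lit 0, nat_lit 2, nat_lit 0, nat_lit 2, nat_lit 0, nat_lit 1, nat_lit 0, nat_lit 2, nat_lit 1, nat_lit 2, nat_lit 0, nat_lit 1, nat_lit 2, nat_lit 0, nat_lit 1, nat_lit 0, nat_lit 2, nat_lit 1, nat_lit 0],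
  [nat_lit 3, nat_lit 3],
  [nat_lit 0, nat_lit 3, nat_lit 1, nat_lit 3, nat_lit 0, nat_lit 2, nat_lit 3, nat_lit 1, nat_lit 3, nat_lit 2, nat_lit 3, nat_lit 1, nat_lit 3, nat_lit 2, nat_lit 0, nat_lit 3, nat_lit 1, nat_lit 3],
  [nat_lit 1, nat_lit 2, nat_lit 1, nat_lit 0, nat_lit 1, nat_lit 2, nat_lit 3, nat_lit 0, nat_lit 2, nat_lit 3, nat_lit 2, nat_lit 0, nat_lit 3, nat_lit 0, nat_lit 3, nat_lit 0, nat_lit 2, nat_lit 1, nat_lit 0],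
  [nat_lit 1, nat_lit 2, nat_lit 3, nat_lit 0, nat_lit 3, nat_lit 0, nat_lit 3, nat_lit 0, nat_lit 2, nat_lit 3, nat_lit 2, nat_lit 0, nat_lit 2, nat_lit 1, nat_lit 0, nat_lit 1, nat_lit 2, nat_lit 1, nat_lit 0],
  [nat_lit 3, nat_lit 1, nat_lit 0, nat_lit 1, nat_lit 2, nat_lit 3, nat_lit 0, nat_lit 3, nat_lit 0, nat_lit 3, nat_lit 0, nat_lit 3, nat_lit 0, nat_lit 2, nat_lit 1, nat_lit 0, nat_lit 1, nat_lit 3, nat_lit 2],
  [nat_lit 0, nat_lit 3, nat_lit 0, nat_lit 1, nat_lit 0, nat_lit 1, nat_lit 3, nat_lit 1, nat_lit 0, nat_lit 1, nat_lit 0, nat_lit 3, nat_lit 0, nat_lit 1, nat_lit 0, nat_lit 1, nat_lit 3, nat_lit 1, nat_lit 0, nat_lit 1],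
  [nat_lit 0, nat_lit 2, nat_lit 3, nat_lit 1, nat_lit 0, nat_lit 1, nat_lit 3, nat_lit 1, nat_lit 3, nat_lit 1, nat_lit 3, nat_lit 1, nat_lit 0, nat_lit 1, nat_lit 3, nat_lit 2, nat_lit 0, nat_lit 1, nat_lit 3, nat_lit 1],
  [nat_lit 1, nat_lit 2, nat_lit 0, nat_lit 2, nat_lit 0, nat_lit 1, nat_lit 2, nat_lit 1, nat_lit 0, nat_lit 3, nat_lit 2, nat_lit 3, nat_lit 0, nat_lit 1, nat_lit 2, nat_lit 1, nat_lit 0, nat_lit 2, nat_lit 0, nat_lit 2],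
  [nat_lit 2, nat_lit 3, nat_lit 1, nat_lit 0, nat_lit 2, nat_lit 0, nat_lit 1, nat_lit 2, nat_lit 1, nat_lit 0, nat_lit 2, nat_lit 0, nat_lit 1, nat_lit 2, nat_lit 1, nat_lit 0, nat_lit 2, nat_lit 0, nat_lit 1, nat_lit 3],
  [nat_lit 3, nat_lit 1, nat_lit 2, nat_lit 0, nat_lit 1, nat_lit 2, nat_lit 1, nat_lit 0, nat_lit 1, nat_lit 2, nat_lit 3, nat_lit 0, nat_lit 3, nat_lit 0, nat_lit 3, nat_lit 0, nat_lit 3, nat_lit 0, nat_lit 1, nat_lit 3, nat_lit 2],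
  [nat_lit 3, nat_lit 0, nat_lit 1, nat_lit 2, nat_lit 0, nat_lit 3, nat_lit 0, nat_lit 3, nat_lit 0, nat_lit 2, nat_lit 3, nat_lit 2, nat_lit 0, nat_lit 3, nat_lit 2, nat_lit 1, nat_lit 0, nat_lit 2, nat_lit 1, nat_lit 3, nat_lit 2],
  [nat_lit 0, nat_lit 3, nat_lit 0, nat_lit 1, nat_lit 2, nat_lit 1, nat_lit 3, nat_lit 1, nat_lit 0, nat_lit 2, nat_lit 1, nat_lit 3, nat_lit 0, nat_lit 1, nat_lit 0, nat_lit 3, nat_lit 0, nat_lit 3, nat_lit 2, nat_lit 1, nat_lit 0, nat_lit 1],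
  []]
def spT_1_3 (j : ℕ) : ℕ := bif Nat.blt j 2 then nat_lit 0x20160000a012000120130000201e0000001c00012014000140170001c025000240120000c00c00028025000260220000a0150000a0140002c0080000202100018012000240140000201000002023000260220000001000006012000280220001201e00012012000120160000001700004023000000130001a01e0001601c000020230000e00c00012009000040170001a01500002022000180200000e0130000c0090000c00a0000401e0000201c0001a01e0002401c0001800b0000600a000160080002a0080001c01500014013000140120000002100004015000280210000402000024016000200130000401200020010000020200000001600008012 else nat_lit 0x80080000a01c0001800a0001e01c0002800b0001c00c000140090000e0090001400800000012000100160001c0240000a00a000120160002001400002004000180130000001e0001801c0002200a0001401700008015000140140001c0200002001c00000010000180220001a016000240150001a0240000c0240001602300004014000020080001600d00000014000020120001a00b0000200a00002012000220120001c0170000a022000220200001601300000020000140160002a00b0001401000014012000060200000202100006018000000220000000b0001c00c0001200800002022000060120002800d0000e024000060230000002200008020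
def spT_0_3 (j : ℕ) : ℕ := bif Nat.blt j 1 then nat_lit 0x140150001801500018014000160140001601300016012000180230001202100020020000000060000201e0001601700000000000140160001200a0000601c0001e00800004009000160220000001c0000000e00000002000000020000000000004022000140130000201a000220140001c0100000000e0001801c0001001e0001601500006010000000200000201c00028021000180170002a024000000040000001e0001601e00016016000200240000e01a000000060000000600012014000160170000801a0001402400000018000140100000002100008010000040200000402300000016000020100000202000004012000160120000c0140001601c else (spT_1_3 j)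
def spT_4_6 (j : ℕ) : ℕ := bif Nat.blt j 5 then nat_lit 0x1a0002802000022010000060210002601c0002401c000000170001a0250001a00800024014000200090001e0140000a0140001001c0001800b0000e0160000601700002014000240160000e0210002200c0002c00a0001800a0001401a000100210000c013000040150000c0210000c0080001400b0000c01c0000c01c00020008000040210001e00d0002400b0001c01a000200250000401a00022020000140140000e010000100180002a0080002400c00004010000180100001001a0000a0160000000000022013000240210001a0170000a01a000100250001e0150002000a0002c009000260090002a00a0001600a0001600c0001400a0002a00d else nat_lit 0x1200d000220090001a01500022008000180080000e00800006015000240080000a0250001a0220000e01700004016000060140000a009000080230001e01600014015000220220001a01300002009000220240001c01e00002009000220140001201e0000401e000240200002201c000120170000e014000100130000e00c0002000c0000800b0001a00a0001800d0002600d0000400a0000800c000140090002c0080000c01e000100140000400d0001801e000280240002001a0000c0090000e025000180220002201500018010000100080001a00a00024009000120210001a00c0002601c0002800a0001e0090002001c0002401a000000120000a010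
def spT_3_6 (j : ℕ) : ℕ := bif Nat.blt j 4 then nat_lit 0x1402500008014000080220000e01800004010000180090001401c00000008000100090001a023000180160000c01a00016015000080210002a02500018024000000090000401c0000601e00002015000100100000a01e0000201700004013000120170001601a0001c0150000c0140002201000016010000020130001600d0001a00b0002c00a000240090000801c0000a0080001e00a000140220001e01a0000a018000260210001a0100000601a00018023000240130000e01c0000800a0000401c00006008000280220001600a000060090002600c00028008000120150000c017000120180000602300020015000120130000e0140001a00c0002000c else (spT_4_6 j)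
def spT_0_6 (j : ℕ) : ℕ := bif Nat.blt j 3 then (spT_0_3 j) else (spT_3_6 j)
def spT_7_9 (j : ℕ) : ℕ := bif Nat.blt j 8 then nat_lit 0xe022000220160002401a0002001a000100240000801200008017000000080002601a00028025000000130001201a0001a014000000230001e0120000a0130000000e0000a0250002201a0002c009000080090001c01c0002201200008023000140200001c025000200200000e01c0000c0150000600c0000c025000160250000e00d0000000c0001200b0001c009000040090000000a000100170001e00c0002600a0000c00a0000600a000140250002201500026024000080150001e020000280090002a00b00002004000000140001200c0000e0090001e01c0001c00b000020170001201a000220130001002100020014000120220001001c0000400c else nat_lit 0x120200000c016000060080000a016000040250002601e0000601c000280090002c00b000040250000e01e0001c0200000400b00020021000100200002401e0000c0150000a0170002c00b0000e00b000180090000000c0001e00b0000400a0002600b0001c02400020012000000090001400d0001000c0000200b0000c02000000024000200130002000b0001c01e000140230000a00c000060090001002400010025000200160001801a0001c01a000100180000801a000160160000400c0002a0090002a0240001c021000060250000c01a000240240001e01a0000e018000000040001c0120000602100010012000120180000001a0000401a00000015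
def spT_6_9 (j : ℕ) : ℕ := bif Nat.blt j 7 then nat_lit 0x1a01c0001e01e0000c01700008013000100200001c012000200100000c018000220250001001a0001800c0000800a000020080001401e0000200b0000800c00024012000180170001e01600012010000120240001c00a0001a0090000a00c0001800c00024022000080100000801c0001a01200016020000240250001c0130001e0200001e023000040080001600b0000e01a0000200d0000c0230001a01400018021000220250001e0250001c0230000a02300006016000120120001e023000160210001c0160001401e0000c0180000e017000120150001601a00006010000040130000c024000040180002201a0000c00b0001001e0001c0100001c008 else (spT_7_9 j)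
def spT_10_12 (j : ℕ) : ℕ := bif Nat.blt j 11 then nat_lit 0x60140001c0080000200c0001c0140000a0210001c016000060170002200d0000a0240001a01c000000180001400c0001c00d0001401a0001200a0001a021000020130000a0130001201c0001a0230002c00d0000e0210001a0120002200d0000c0130001800d0001e010000040240000c0120000600b00000015000280240000a0210001a021000160090000a01c0000c0120002800d000160090001400800002018000180200001a01a0001a020000100160000201a000000020000c0210001001500022017000080160000e0230000e01500008009000000250000000a0001600c000060250002600d0000a0180000c0100001e00b000260250000e013 else nat_lit 0x200250000c01600024008000000020000000e00000000000000020000002600000006000000060000000e000120250001a02000004018000000020000000000000026000000000000000600020024000280230000e0200001c0090001c02300006022000120240000a0090000e01500000023000080250001c00b0002600b0000e00a00012008000100140001801600024013000160220001e024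
def spT_9_12 (j : ℕ) : ℕ := bif Nat.blt j 10 then nat_lit 0x1a0160001201c000200080000a0240002400d00022021000240200001a0170000e0120000e0160000c00b00024022000020250002200c0000601a0001e0250000e0120001601e0001e0150002a0090001400b0002000d0000200c0000400b00002015000220210002600800026008000180250002800b000160140000c00c0000602400006020000180150001000900026025000240170001c0130001e02100004017000160240000a0150000600c0000e00d0000a00a00002016000020140001e00a0002c00c0001200b0002002100008017000060240000200a000040140000a020000060130001801e0001c0170002201e0001c01c0002602100010017 else (spT_10_12 j)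
def spT_6_12 (j : ℕ) : ℕ := bif Nat.blt j 9 then (spT_6_9 j) else (spT_9_12 j)
def spT_0_12 (j : ℕ) : ℕ := bif Nat.blt j 6 then (spT_0_6 j) else (spT_6_12 j)
def spT (j : ℕ) : ℕ := (spT_0_12 j)
def sp (j : ℕ) : ℕ := Nat.land (Nat.shiftRight (spT (Nat.shiftRight j 6)) (Nat.mul (Nat.land j 63) 32)) 4294967295
theorem Eo_lt (r : ℕ) : Eo r < 18014398509481984 := land54_lt _
def cT_1_3 (j : ℕ) : ℕ := bif Nat.blt j 2 then nat_lit 0x16500016400016300016200016000015f00015400015300015200015100015000014e00014d00014b00014300014200014000013f00013e00013d00013b00013a00013900013800013700013500013400013200013100013000012f00012e00012d00012c00012b00012900012700012600012400012300012200012100012000011d00011b00011a00011800011700011600011200011100011000010d00010c00010b00010a0001090001080001070001060001040001030001020001000000ff0000fe0000f90000f80000f70000f60000f50000f40000f10000f00000ef0000ed0000ec0000eb0000ea0000e30000e20000e10000df0000de0000dd0000dc0000db0000da0000d80000d70000d60000d50000d40000d20000d10000d00000cf0000ce0000cd0000cc0000cb0000c90000c80000c70000c20000c10000c00000be0000bd0000bc0000bb0000b90000b80000b70000b60000b50000b30000b20000b00000af0000ae0000ac0000ab0000aa0000a90000a60000a50000a4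 else nat_lit 0x24400024200024100024000023f00023e00023d00023c00023b00023900023800023600023500023200023100022e00022d00022a00022900022800022700022600022500022300022200022100021f00021e00021d00021c00021a00021900021600021500021400021300021000020f00020e00020b00020a0001ff0001fc0001fb0001fa0001f70001f50001f40001f10001f00001ef0001ed0001e60001e50001e40001df0001dc0001db0001d50001d40001d30001d20001d10001ce0001cd0001cc0001cb0001ca0001c70001c60001c20001c10001c00001be0001bd0001bc0001bb0001ba0001b90001b80001b70001b40001b30001b10001b00001af0001ad0001ac0001ab0001aa0001a80001a70001a60001a50001a40001a30001a20001a100019f00019e00019d00019b00019a00019900019800018a00018900018800018600018200018100017f00017e00017d00017c00017a00017900017800017700017600016f00016e00016d00016b00016a000169000168000166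
def cT_0_3 (j : ℕ) : ℕ := bif Nat.blt j 1 then nat_lit 0xa30000a20000a10000a000009e00009d00009c00009400009300009200009100009000008f00008e00008d00008b00008a00008900008800008700008600008200008100008000007f00007e00007c00007b00007900007800007600007500007400007300007200007100007000006f00006e00006d00006b00006a00006800006700006600006400006300006200006100006000005f00005e00005d00005b00005a00005900005600005400005300005200005000004f00004e00004d00004b00004900004800004700004600004500004400004300004200004100004000003f00003e00003c00003800003700003600003400003300003000002f00002e00002d00002c00002b00002a00002900002800002600002500002400002300002100002000001f00001e00001d00001c00001b00001a00001800001700001600001400001300001200001100001000000f00000e00000d00000c00000b00000a000009000008000007000006000005000004000003000002000001000000 else (cT_1_3 j)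
def cT_4_6 (j : ℕ) : ℕ := bif Nat.blt j 5 then nat_lit 0x48d00048c00048a00048900048800048700048600048300048200047f00047e00047c00047a00047900047800047600047400047300046d00046c00046b00046900046800046600046500046400046300046100046000045d00045c00045800045700045600045500045400045300045000044f00044e00044d00044c00044b00044900044800044700044500044300044200044000043e00043d00043c00043b00043a00043900043400043100042f00042e00042a00042900042800042600042500042400042300042100042000041f0004020004010003fe0003ef0003eb0003ea0003e90003e80003e50003e30003e20003e00003df0003dd0003dc0003da0003d90003d80003d70003d60003d20003d10003d00003c20003c00003be0003bd0003b70003b60003b50003b10003ae0003a90003a80003a70003a50003a30003a20003a100039f00039d00039c00039700039500039300037700037600037500037300037100037000036e00036d00036c00036b00036a000364000363 else nat_lit 0x5f00005eb0005ea0005e80005e60005e4000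5e30005e20005e00005db0005da0005d90005d80005d40005d30005d20005d00005cf0005ce0005cd0005c90005c80005c70005c60005c50005c40005c10005bf0005bd0005b90005b70005b60005b50005b00005ae0005ad0005ac0005a70005a50005a30005a200059d00059800059700059600059300059100059000058e00058d00058a00058900058800058700058600058300058200058100058000057e00057d00057c00057b00057a00057800057200056a00056900056600056500056400056300056200056100056000055f00055500054d00054b00054900052d00052c00052400052300052200052000051800051600051300051100050f00050b00050a0005070004fe0004fd0004e80004e70004e50004da0004d90004d30004d20004d10004d00004cf0004c10004bf0004be0004bd0004ad0004ac0004aa0004a90004a80004a50004a40004a300049b00049a00049900049800049300049200049100049000048f00048e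
def cT_3_6 (j : ℕ) : ℕ := bif Nat.blt j 4 then nat_lit 0x36100034800034400034300034000033f00033d00033b00033900033600033500033200033100032f00032e00032c00032b00032700032600032500031e00031d00031c00031800031700031600031400031300031200030f00030e00030b0003090003080003000002ff0002fd0002fc0002fb0002fa0002f90002f70002f60002f50002f30002f20002e90002e80002e40002e30002e20002e00002da0002d90002d80002d50002d40002cf0002ce0002cd0002cc0002c80002c70002c10002bf0002be0002bc0002bb0002ba0002b80002b70002b60002b50002b20002b10002b00002af0002ae0002ad0002ac0002aa0002a90002a80002a70002a50002a30002a20002a10002a000029f00029c00029b00029900028c00028a00028900028500028400028300028000027f00027e00027a00027900027700027600027400027300027000026f00026e00026c00026a00026900026800026700026500025400025100025000024f00024e00024b00024a000249000247000246000245 else (cT_4_6 j)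
def cT_0_6 (j : ℕ) : ℕ := bif Nat.blt j 3 then (cT_0_3 j) else (cT_3_6 j)
def cT_7_9 (j : ℕ) : ℕ := bif Nat.blt j 8 then nat_lit 0x9f70009f00009ed0009e90009e70009e00009df0009d90009d80009d70009d60009d50009d40009d20009cd0009cb0009c90009c50009c30009c20009bf0009bb0009ba0009b30009b20009b10009af00099300098800098600097c00097b00097500096300095800095700095600095300094e00094d00094c00094b00094a00094900094800094600093e00093a00093900093700092b00092900092400092300091e0008e50008e20008e10008de0008d00008cd0008ca0008c90008c80008c70008c40008c20008b400087100087000085f00085e00085800085600085200085100084300084200084100083f00083a00083900083800083700083600082f00082e00082d00082400081b00081a0008190008170008150008040008030008020008010008000007fe0007fd0007f40007f30007ef0007ee0007ed0007e80007e70007e50007e40007e20007da0007d90007d80007d10007cb0007ca0007c90007c80007b80007b60007ae0007ad0007aa0007a80007a70007a50007a3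 else nat_lit 0xc69000c60000c5f000c52000c51000c4e000c22000c21000c1d000c1c000c04000c02000c00000bf5000bf3000bee000bed000bec000beb000bea000bca000bc8000ba8000ba7000ba0000b9e000b9d000b9c000b92000b90000b7e000b7c000b79000b78000b70000b6f000b6d000b6b000b62000b60000b5f000b5e000b5d000b5c000b58000b57000b56000b53000b4d000b4c000b3c000b39000b34000b2e000b2d000b1e000b12000b10000b0d000b06000b03000b00000afb000afa000af8000af7000af6000af4000af3000af2000aef000aec000aeb000aea000ae9000ae8000ae4000ae3000ae0000adf000adb000ad9000ad6000ad5000ad4000acd000acc000acb000ac8000ac4000ac1000abf000abc000abb000aba000ab4000ab3000ab2000ab1000aa8000aa6000aa5000a9f000a99000a98000a94000a93000a92000a91000a90000a8f000a89000a83000a82000a81000a7c000a7a000a73000a71000a70000a6d000a6a000a62000a5b000a5a000a56000a1d000a17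
def cT_6_9 (j : ℕ) : ℕ := bif Nat.blt j 7 then nat_lit 0x7a10007a000079f00079e00079d00079c00079a00079900079600079200077800077700077000076e00076d00076b00076800076500076400075700075500075300075200075100074f00074800074700074600074400073e00073c00073a00073100073000072e00072d00072c00071e00071d00071900071500071300071000070e00070b00070a0007080007060007010007000006ff0006fa0006f90006f60006f50006f30006f20006f10006ed0006ec0006eb0006e80006e40006e30006e20006df0006de0006d30006d10006d00006ce0006cc0006ca0006c80006c70006c50006c00006bd0006bc00069300069200069000068c00068200068000067e00067b00067100067000066d00066c00066b00066200066100065900065800065700065500065400065300065200065100065000064c00064b00064a00064900064800064700064600064500064000063a00063800063700063600063500062c0006090006080006070006000005ff0005fe0005f90005f60005f50005f2 else (cT_7_9 j)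
def cT_9_11 (j : ℕ) : ℕ := bif Nat.blt j 10 then nat_lit 0xf77000f75000f73000f72000f64000f54000f53000f4b000f48000f46000f41000f3e000f3d000f3c000f39000f38000f32000f30000f2e000f2c000f24000f1b000f11000f0e000f0a000f09000f08000f05000f04000ef2000ead000eab000eaa000ea9000ea8000ea7000e9b000e98000e95000e94000e8a000e80000e7f000e7e000e7c000e74000e73000e69000e66000e65000e64000e62000e5d000e5c000e5b000e58000e55000e52000e51000e45000e43000e39000e38000e34000e29000e28000e27000e26000e25000e24000e19000e0e000e0d000e0c000dff000dfe000df8000df7000df3000def000dec000de1000ddd000dd8000dc6000dc5000dc3000dc2000db6000daa000da9000da8000da6000da5000d98000d97000d90000d87000d80000d7e000d77000d76000d6f000d68000d64000d58000d31000d2c000d2b000d2a000d29000d28000d27000d25000d24000d1d000d1b000d19000d16000cf5000cb6000cb4000ca0000c84000c75000c74000c6b000c6a else nat_lit 0x1378001370001361001342001326001323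00132100131300131200130f00130d0012f30012e50012e20012dd0012d80012d70012ae0012ad0012ac00129b00129700128700128000127d00127c00127300127100126e00126700126500126300124000123700123300122f00122e00122d00120e00120d0011f90011ef0011eb0011e20011de0011dd0011dc0011d60011d00011c600118400118300118100117500116700116500116000115f00115c00113b00113700113100113000112800112600111600111500111400111200110e0011020010fc0010eb0010ea0010e90010e20010e10010dd0010b80010a60010a200109e00109d00109900109400109000108500108300108200108100108000107800107700106e00106800106300106100105800105600105400104f00104a00104600104300103c00102700102200101e00101a00101900101100100d00100c00100b001000000fff000ffa000ff6000ff5000fb2000fae000fab000f94000f93000f8c000f7e000f7d000f7c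
def cT_11_13 (j : ℕ) : ℕ := bif Nat.blt j 12 then nat_lit 0x1e4c001e4a001e0f001e0e001e01001e00001df3001dcf001d68001d5d001d5a001d59001d58001d57001d56001d3e001d38001c80001bfe001bd2001baf001b54001b4f001aee001a99001a95001a4d001a390019f90019ec0019eb0019c30019bf0019be0019ba0019b90019b80019b400199e00199200199000196a00196000195100195000192c0018e20018d40018d00018cf0018ce0018cc0018c70018c20018c10018bf0018be0018bd0018bb0018ba00188c00188b00187e00187d0018570018520018440018290018280018230017f30017f10017e40017da0017d90017d60017c80017ba0017b30017b20017b00017a900179800179600177a00170d0016c50016b70016b60016b20016a20016a000169500169000168c00166100165900164b00163200163100158500158400158300157d00156d00156900156200155800153d00151500151300151200151100150200149800149000148e00148c00148500146b00145900145700145400145200144d00142c00142b001394 else nat_lit 0x390800300f002fe7002f6b002c24002a6e002a030028860027fc0027fb00274500263700261800250e00250c0024aa0024890024660024060024050023c20023a000238d00238b00238a0023890023750023690022fd0022e00022de0022a300222a0021d90021c80021b500218e00217700215800211a00210c00210300203a00202a001ff8001fd7001fcc001fb9001fb6001f6f001f65001f64001f52001f50001f4e001f49001f48001efc001ef9001eed001ee2001ee1001ebe001e7e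
def cT_9_13 (j : ℕ) : ℕ := bif Nat.blt j 11 then (cT_9_11 j) else (cT_11_13 j)
def cT_6_13 (j : ℕ) : ℕ := bif Nat.blt j 9 then (cT_6_9 j) else (cT_9_13 j)
def cT_0_13 (j : ℕ) : ℕ := bif Nat.blt j 6 then (cT_0_6 j) else (cT_6_13 j)
def cT (j : ℕ) : ℕ := (cT_0_13 j)
noncomputable def cChunk (h : ℕ) : ℕ := Nat.rec (motive := fun _ => ℕ) (cT 0) (fun n _ => cT (Nat.succ n)) h
noncomputable def cF (i : ℕ) : ℕ := Nat.land (Nat.shiftRight (cChunk (Nat.shiftRight i 7)) (Nat.mul (Nat.land i 127) 24)) 16777215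
theorem cF_lt (i : ℕ) : cF i < 16777216 := land24_lt _
theorem cF_zero : cF 0 = 0 := by decide +kernel
def nDef : ℕ := 27624
def nEv : ℕ := 61634
def nW : ℕ := 743
def N : ℕ := 1600
def ys : List ℕ := [nat_lit 0, nat_lit 1, nat_lit 2, nat_lit 3]
end Cfsg.Agent.Lib.ToddCox.TIT
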